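import Cfsg.Agent.Lib.RankTwoModel.L4.Pair
import Cfsg.Agent.Lib.RankTwoModel.FieldElem.Kernel
import Cfsg.Agent.Lib.RankTwoModel.Glue.CoreCentral
import Cfsg.Agent.Lib.BrauerOrder.Formula
import Cfsg.Agent.Lib.SLCard

/-!
The conjugacy class of the second involution in `C` (blueprint/RankTwo_L45.md, D: the index hypothesis).

* `rot_dvd`, `four_dvd_sigma`: the sign of the torus with the four group modulo four;
* `Ctx.card_L`: `|L| = |L ∩ C(u)| |I| |Q (Q + 1)|`;
* `Ctx.index_dvd`, `Ctx.index_eq`: the index of the four group centraliser in `C`.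
-/

set_option autoImplicit false
set_option linter.unusedSectionVars false
set_option linter.style.haveILetI false

namespace CfsgLib.RankTwoModel.L4

open Cfsg CfsgLib.BrauerOrder CfsgLib.Blocks.AbelianFree CfsgLib.GW CfsgLib.BG CfsgLib.RankTwo

universe u v

section Rot

variable {C : Type u} [Group C] [Fintype C] {Ω : Type v} [MulAction C Ω] {d : Core C} {lam : C →* ℂˣ}
  {b : Bool} {x : C} {h : ℕ}

/-- The rotations are free off their fixed points. -/
theorem rot_dvd (hd : d.Spec Ω) (hr : d.Rot lam b x h) : (4 : ℤ) ∣ (d.q : ℤ) - d.σ b := by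
  classical
  haveI := finite_omega hd
  letI := Fintype.ofFinite Ω
  obtain ⟨a, ha⟩ := hr.hpow
  have h0 : 0 < 2 * h := by rw [ha]; positivity
  set H := Subgroup.zpowers x with hH
  set g : ↥H := ⟨x, Subgroup.mem_zpowers x⟩
  set K : Subgroup ↥H := d.Z.subgroupOf H with hK
  have hmod : ∀ i : ℕ, x ^ i ∈ d.Z → 2 * h ∣ i := fun i hi => Nat.dvd_of_mod_eq_zero <| by
    by_contra hne
    refine hr.xlow (i % (2 * h)) (Nat.pos_of_ne_zero hne) (Nat.mod_lt _ h0) ?_
    have e : x ^ i = x ^ (i % (2 * h)) * (x ^ (2 * h)) ^ (i / (2 * h)) := by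
      rw [← pow_mul, ← pow_add, Nat.mod_add_div]
    rw [e] at hi
    exact (Subgroup.mul_mem_cancel_right _ (pow_mem hr.xpow _)).1 hi
  obtain ⟨m, hm⟩ : 2 * h ∣ orderOf x := hmod _ (by rw [pow_orderOf_eq_one]; exact one_mem _)
  have hcH : Nat.card H = 2 * h * m := by rw [hH, Nat.card_zpowers, hm]
  have hKe : K = Subgroup.zpowers (g ^ (2 * h)) := by
    refine le_antisymm (fun y hy => ?_) ((Subgroup.zpowers_le).2 hr.xpow)
    obtain ⟨i, hi⟩ := (mem_powers_iff_mem_zpowers (x := x)).2 y.2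
    have hi' : x ^ i ∈ d.Z := by
      show x ^ i ∈ d.Z
      simp only at hi
      rw [hi]; exact hy
    obtain ⟨j, rfl⟩ := hmod i hi'
    refine Subgroup.mem_zpowers_iff.2 ⟨(j : ℤ), Subtype.ext ?_⟩
    rw [zpow_natCast, ← pow_mul]
    exact hi
  have hm0 : 0 < m := Nat.pos_of_ne_zero fun e => (orderOf_pos x).ne' (by rw [hm, e, mul_zero])
  have hcK : Nat.card K = m := by
    rw [hKe, Nat.card_zpowers, orderOf_pow_of_dvd (by omega) (by
      rw [Subgroup.orderOf_mk, hm]; exact dvd_mul_right _ _), Subgroup.orderOf_mk, hm,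
      Nat.mul_div_cancel_left _ h0]
  have hfix : ∀ y : ↥H, (Fintype.card (MulAction.fixedBy Ω y) : ℤ) =
      if y ∈ K then (d.q : ℤ) + 1 else 1 + d.σ b := fun y => by
    rw [← Nat.card_eq_fintype_card]
    split_ifs with hy
    · have e : Nat.card (MulAction.fixedBy Ω y) = d.q + 1 := by
        rw [← hd.card]
        exact Nat.card_congr (Equiv.subtypeUnivEquiv fun a => hd.ztriv _ hy a)
      rw [e]; push_cast; rfl
    · have hyT : (y : C) ∈ d.T b := (Subgroup.zpowers_le.2 hr.xmem) y.2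
      exact hd.fix b _ hyT hy
  have hB := congrArg (Nat.cast : ℕ → ℤ) (MulAction.sum_card_fixedBy_eq_card_orbits_mul_card_group ↥H Ω)
  push_cast at hB
  rw [Finset.sum_congr rfl fun y _ => hfix y, Finset.sum_ite, Finset.sum_const, Finset.sum_const,
    nsmul_eq_mul, nsmul_eq_mul, ← Nat.card_eq_fintype_card (α := ↥H), hcH] at hB
  have c1 : ((Finset.univ.filter fun y : ↥H => y ∈ K).card : ℤ) = m := by
    rw [← Fintype.card_subtype, ← Nat.card_eq_fintype_card]
    exact_mod_cast hcK
  have c2 : ((Finset.univ.filter fun y : ↥H => ¬ y ∈ K).card : ℤ) = 2 * h * m - m := by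
    have h1 := Finset.card_filter_add_card_filter_not (s := (Finset.univ : Finset ↥H)) (fun y => y ∈ K)
    rw [Finset.card_univ, ← Nat.card_eq_fintype_card, hcH] at h1
    have h2 : ((Finset.univ.filter fun y : ↥H => y ∈ K).card : ℤ) +
        ((Finset.univ.filter fun y : ↥H => ¬ y ∈ K).card : ℤ) = 2 * h * m := by exact_mod_cast h1
    linarith
  rw [c1, c2] at hB
  set o := (Fintype.card (Quotient (MulAction.orbitRel ↥H Ω)) : ℤ)
  push_cast at hB
  refine ⟨(2 : ℤ) ^ a * (o - (1 + d.σ b)), mul_left_cancel₀ (Int.natCast_ne_zero.2 hm0.ne') ?_⟩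
  have hh : (h : ℤ) = 2 ^ (a + 1) := by exact_mod_cast ha
  rw [hh] at hB
  linear_combination hB

/-- The rotations with `Z` fill at least `2 h |Z|` elements of their torus. -/
theorem rot_card (hd : d.Spec Ω) (hr : d.Rot lam b x h) : 2 * h * Nat.card d.Z ≤ Nat.card (d.T b) := by
  have key : ∀ (i j : ℕ) (u w : C), i ≤ j → j < 2 * h → u ∈ d.Z → w ∈ d.Z → x ^ i * u = x ^ j * w → i = j := by
    intro i j u w hij hj hu hw e
    by_contra hne
    refine hr.xlow (j - i) (by omega) (by omega) ?_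
    have e' : x ^ (j - i) * w = u := by
      refine mul_left_cancel (a := x ^ i) ?_
      rw [← mul_assoc, ← pow_add, Nat.add_sub_cancel' hij, e]
    rw [eq_mul_inv_iff_mul_eq.2 e']
    exact mul_mem hu (inv_mem hw)
  let f : Fin (2 * h) × ↥d.Z → ↥(d.T b) := fun p =>
    ⟨x ^ (p.1 : ℕ) * p.2, mul_mem (pow_mem hr.xmem _) (hd.zle b p.2.2)⟩
  have hf : Function.Injective f := by
    rintro ⟨i, u⟩ ⟨j, w⟩ e
    have e' : x ^ (i : ℕ) * (u : C) = x ^ (j : ℕ) * (w : C) := congrArg Subtype.val e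
    have hij : (i : ℕ) = j := by
      rcases le_total (i : ℕ) j with hle | hle
      · exact key _ _ _ _ hle j.2 u.2 w.2 e'
      · exact (key _ _ _ _ hle i.2 w.2 u.2 e'.symm).symm
    obtain rfl := Fin.ext hij
    exact Prod.ext rfl (Subtype.ext (mul_left_cancel e'))
  have := Nat.card_le_card_of_injective f hf
  rwa [Nat.card_prod, Nat.card_fin] at this

end Rot

variable {G : Type u} [Group G] [Fintype G]

section Sigma

variable {z : G} [Fintype (Cz z)] {Ω : Type v} [MulAction (Cz z) Ω] {D : Sys G z}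

/-- **The sign modulo four.** -/
theorem four_dvd_sigma (hD : D.Spec Ω) :
    (Nat.card D.core.Z = 2 → (4 : ℤ) ∣ (D.core.q : ℤ) + D.core.σ true) ∧
      (4 ≤ Nat.card D.core.Z → (4 : ℤ) ∣ (D.core.q : ℤ) - D.core.σ true) := by
  obtain ⟨b, x, h, hr⟩ := hD.rot
  have hb := rot_dvd hD.core hr
  have hc := rot_card hD.core hr
  obtain ⟨a, ha⟩ := hr.hpow
  have hh : 2 ≤ h := by
    rw [ha, pow_succ]
    have := Nat.one_le_two_pow (n := a)
    omega
  have hZ : 0 < Nat.card D.core.Z := Nat.card_pos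
  constructor
  · intro h2
    cases b
    · rw [hD.core.sgnne, sub_neg_eq_add] at hb
      exact hb
    · rw [hD.cardU, h2] at hc
      omega
  · intro h4
    cases b
    · exfalso
      have hint : D.core.T false ⊓ D.core.T true ≤ D.core.Z := by
        rintro t ⟨h1, h1'⟩
        by_contra hz
        have e1 := hD.core.fix false t h1 hz
        have e2 := hD.core.fix true t h1' hz
        rw [hD.core.sgnne] at e1
        rcases hD.core.sgn true with e | e <;> rw [e] at e1 e2 <;> omega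
      set Tf := D.core.T false
      set Tt := D.core.T true
      have hrel : ∀ {A B : Subgroup (Cz z)}, A ≤ B → Nat.card A * A.relIndex B = Nat.card B := fun {A B} hAB => by
        rw [← Subgroup.relIndex_bot_left, ← Subgroup.relIndex_bot_left, Subgroup.relIndex_mul_relIndex _ _ _ bot_le hAB]
      have r1 := hrel (inf_le_right : Tf ⊓ Tt ≤ Tt)
      rw [Subgroup.inf_relIndex_right] at r1
      have r2 := hrel (hD.core.tle false : Tf ≤ (D.core.S : Subgroup (Cz z)))
      rw [hr.card] at r2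
      have r3 : Tf.relIndex Tt ≤ Tf.relIndex (D.core.S : Subgroup (Cz z)) :=
        Subgroup.relIndex_le_of_le_right (hD.core.tle true)
          (fun e => by rw [e, mul_zero] at r2; exact absurd r2.symm (by positivity))
      have r4 : Nat.card ↥(Tf ⊓ Tt) ≤ Nat.card D.core.Z := Subgroup.card_le_of_le hint
      rw [hD.cardU] at r1
      set k := Tf.relIndex Tt
      set k' := Tf.relIndex (D.core.S : Subgroup (Cz z))
      set i := Nat.card ↥(Tf ⊓ Tt)
      set Z0 := Nat.card D.core.Z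
      have hk' : k' ≤ 2 := by
        by_contra hk
        have : 2 * h * Z0 * 3 ≤ Nat.card Tf * k' := Nat.mul_le_mul hc (by omega)
        nlinarith
      have : Z0 * 4 ≤ Z0 ^ 2 := by rw [sq]; exact Nat.mul_le_mul_left _ h4
      have : i * k ≤ Z0 * 2 := Nat.mul_le_mul r4 (r3.trans hk')
      omega
    · exact hb

/-- The two-part of the centraliser of the four group. -/
theorem padic_cent_w (hD : D.Spec Ω) :
    padicValNat 2 (Nat.card (Subgroup.centralizer ({(D.w : G), z} : Set G))) =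
      2 * padicValNat 2 (Nat.card D.core.Z) := by
  haveI : Fact (Nat.Prime 2) := ⟨Nat.prime_two⟩
  obtain ⟨K, -, hK, hidx⟩ := hD.core.cent true D.w hD.wT hD.wZ
  rw [← card_cent_w, ← K.card_mul_index, hidx, hD.cardU,
    padicValNat.mul Nat.card_pos.ne' (pow_ne_zero 2 Nat.card_pos.ne'), padicValNat.eq_zero_of_not_dvd hK,
    padicValNat.pow, zero_add]

end Sigma

variable {d : Frame G} {g : G} (c : Ctx d g) (R : Rep d)

local notation "SL[" d "]" => Matrix.SpecialLinearGroup (Fin 2) (Frame.F d)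

/-- The elements of `L` centralising the second involution. -/
noncomputable def fixL (d : Frame G) (g : G) : Subgroup G := d.L ⊓ Subgroup.centralizer ({inv2 d g} : Set G)

omit [Fintype G] in
theorem card_eq_ker_mul {A B : Type*} [Group A] [Group B] (f : A →* B) (hf : Function.Surjective f) :
    Nat.card A = Nat.card B * Nat.card f.ker := by
  rw [Subgroup.card_eq_card_quotient_mul_card_subgroup f.ker,
    Nat.card_congr (QuotientGroup.quotientKerEquivOfSurjective f hf).toEquiv]

include R in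
theorem card_L_core (hd : d.Spec) : Nat.card d.L = Nat.card d.O * (d.q * (d.q ^ 2 - 1)) := by
  have hk : R.π.ker = d.O.subgroupOf d.L := Subgroup.ext fun x => R.ker x
  rw [card_eq_ker_mul R.π R.surj, hk, Nat.card_congr (Subgroup.subgroupOfEquivOfLe d.O_le_L).toEquiv,
    SLCard.card_SL_two, show Fintype.card d.F = d.q from hd.card, mul_comm]

include c R in
/-- The torus. -/
theorem Ctx.card_fixL : ∃ t, (t = d.q - 1 ∨ t = d.q + 1) ∧
    Nat.card (fixL d g) = Nat.card ↥(d.O ⊓ Subgroup.centralizer ({inv2 d g} : Set G)) * t := by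
  obtain ⟨g₀, htr, hns, hg₀⟩ := R.invol c.spec c.hq c.hyp c.inv2_mem c.inv2_order c.inv2_ne
  obtain ⟨b, hb, -, hbA⟩ := RankTwoModel.SL2.exists_torus c.spec.odd_card (c.spec.three_lt c.hq) htr
  obtain ⟨-, hcard⟩ := SL2Tori.isCyclic_centralizer hb
  refine ⟨Nat.card (Subgroup.centralizer ({b} : Set SL[d])), ?_, ?_⟩
  · rwa [show Fintype.card d.F = d.q from c.spec.card] at hcard
  have hfix : ∀ A : SL[d], R.σ ⟨inv2 d g, c.inv2_mem⟩ A = A ↔ A ∈ Subgroup.centralizer ({b} : Set SL[d]) := by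
    intro A
    rw [hbA]
    constructor
    · intro hA
      have h1 := congrArg Subtype.val hA
      rw [hg₀] at h1
      show A.1 * g₀.1 = g₀.1 * A.1
      conv_lhs => rw [← h1]
      simp [Matrix.mul_assoc]
    · intro hA
      refine Subtype.ext ?_
      rw [hg₀, ← hA.eq, Matrix.mul_assoc, ← Units.val_mul, mul_inv_cancel, Units.val_one, Matrix.mul_one]
  have hmem : ∀ x : fixL d g,
      R.π (Subgroup.inclusion inf_le_left x) ∈ Subgroup.centralizer ({b} : Set SL[d]) := fun x => by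
    refine (hfix _).1 ?_
    rw [R.compat]
    congr 1
    refine Subtype.ext ?_
    show inv2 d g * (x : G) * (inv2 d g)⁻¹ = x
    rw [← Subgroup.mem_centralizer_singleton_iff.1 x.2.2, mul_inv_cancel_right]
  let f : ↥(fixL d g) →* ↥(Subgroup.centralizer ({b} : Set SL[d])) :=
    (R.π.comp (Subgroup.inclusion inf_le_left)).codRestrict _ hmem
  have hf : Function.Surjective f := fun A => by
    obtain ⟨y, hy, hyA, hyu⟩ := R.lift_fixed c.spec c.hq c.inv2_mem
      (invol_mul_self c.inv2_order) ((hfix _).2 A.2)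
    exact ⟨⟨y, hy, Subgroup.mem_centralizer_singleton_iff.2 hyu⟩, Subtype.ext hyA⟩
  have hk : f.ker = (d.O ⊓ Subgroup.centralizer ({inv2 d g} : Set G)).subgroupOf (fixL d g) := by
    refine Subgroup.ext fun x => ⟨fun hx => ⟨(R.ker _).1 (congrArg Subtype.val hx), x.2.2⟩,
      fun hx => Subtype.ext ((R.ker _).2 hx.1)⟩
  rw [card_eq_ker_mul f hf, hk, mul_comm]
  exact congrArg (· * _) (Nat.card_congr (Subgroup.subgroupOfEquivOfLe
    (inf_le_inf_right _ d.O_le_L)).toEquiv)

include c in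
/-- The core is the product of its fixed and inverted parts. -/
theorem Ctx.card_core : Nat.card d.O =
    Nat.card ↥(d.O ⊓ Subgroup.centralizer ({inv2 d g} : Set G)) * Nat.card (invI d (inv2 d g)) := by
  set u := inv2 d g with hu
  rw [← Nat.card_prod]
  refine (Nat.card_eq_of_bijective (fun p : ↥(d.O ⊓ Subgroup.centralizer ({u} : Set G)) × ↥(invI d u) =>
    (⟨(p.1 : G) * p.2, mul_mem p.1.2.1 (c.mem_invI.1 p.2.2).1⟩ : ↥d.O)) ⟨?_, ?_⟩).symm
  · rintro ⟨a, i⟩ ⟨a', i'⟩ e
    have e' : (a : G) * i = a' * i' := congrArg Subtype.val e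
    set k : G := (a' : G)⁻¹ * a with hk
    have hk' : k = (i' : G) * (i : G)⁻¹ := by
      rw [hk, eq_mul_inv_iff_mul_eq, mul_assoc, e', inv_mul_cancel_left]
    have h1 : k * u = u * k := by
      have ha := Subgroup.mem_centralizer_singleton_iff.1 a.2.2
      have ha' := Subgroup.mem_centralizer_singleton_iff.1 a'.2.2
      exact (Commute.inv_left (show Commute (a' : G) u from ha')).mul_left ha
    have h2 : u * k * u⁻¹ = k⁻¹ := by
      have hm : (i' : G) * (i : G)⁻¹ ∈ invI d u := mul_mem i'.2 (inv_mem i.2)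
      rw [← hk'] at hm
      exact (c.mem_invI.1 hm).2
    rw [← h1, mul_inv_cancel_right] at h2
    have hk1 : k = 1 := by
      refine orderOf_eq_one_iff.1 (Nat.eq_one_of_dvd_coprimes (Nat.coprime_two_left.2 d.O_odd)
        (orderOf_dvd_of_pow_eq_one (by rw [pow_two]; exact mul_eq_one_iff_eq_inv.2 h2)) ?_)
      exact Subgroup.orderOf_dvd_natCard _ (mul_mem (inv_mem a'.2.1) a.2.1)
    have ea : a = a' := Subtype.ext (inv_mul_eq_one.1 (hk ▸ hk1)).symm
    subst ea
    exact Prod.ext rfl (Subtype.ext (mul_left_cancel e'))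
  · intro y
    obtain ⟨f, hf, hfu, i, hi, e⟩ := c.fixed_mul_invI y.2
    exact ⟨(⟨f, hf, Subgroup.mem_centralizer_singleton_iff.2 hfu⟩, ⟨i, hi⟩), Subtype.ext e.symm⟩

section Sys

variable [Fintype (Cz d.z)] {Ω : Type v} [MulAction (Cz d.z) Ω] {D : Sys G d.z} (hD : D.Spec Ω)
  (hw : (D.w : G) = inv2 d g)

include c hw in
/-- The centraliser of the four group is that of the second involution in `C`. -/
theorem Ctx.cent_w : Subgroup.centralizer ({(D.w : G), d.z} : Set G) =
    d.C ⊓ Subgroup.centralizer ({inv2 d g} : Set G) := by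
  ext x
  rw [Subgroup.mem_inf, Frame.C, Subgroup.mem_centralizer_iff, Subgroup.mem_centralizer_singleton_iff,
    Subgroup.mem_centralizer_singleton_iff, ← hw]
  exact ⟨fun h => ⟨(h _ (Or.inr rfl)).symm, (h _ (Or.inl rfl)).symm⟩,
    fun h y hy => by rcases hy with rfl | rfl; exacts [h.2.symm, h.1.symm]⟩

include c hw in
/-- The index of `L ∩ C(u)` in the centraliser of the four group. -/
theorem Ctx.cent_w_mul : ∃ k m, k ∣ m ∧ Nat.card (fixL d g) * k =
      Nat.card (Subgroup.centralizer ({(D.w : G), d.z} : Set G)) ∧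
    Nat.card d.L * m = Nat.card (Cz d.z) ∧ 2 ∣ k := by
  set u := inv2 d g with hu
  set Cu := Subgroup.centralizer ({(D.w : G), d.z} : Set G) with hCu
  have hCu' := c.cent_w hw
  haveI : (d.L.subgroupOf d.C).Normal := ⟨fun x hx y => d.L_conj y.2 hx⟩
  set k := (fixL d g).relIndex Cu with hk
  have hle : fixL d g ≤ Cu := by rw [hCu, hCu']; exact inf_le_inf_right _ d.L_le
  have hmul : ∀ {A B : Subgroup G}, A ≤ B → Nat.card A * A.relIndex B = Nat.card B := fun {A B} hAB => by
    rw [← Subgroup.relIndex_bot_left, ← Subgroup.relIndex_bot_left, Subgroup.relIndex_mul_relIndex _ _ _ bot_le hAB]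
  have hdk : k ∣ d.L.relIndex d.C := by
    have hCuC : Cu ≤ d.C := by rw [hCu, hCu']; exact inf_le_left
    have e1 : fixL d g = d.L ⊓ Cu := by
      rw [hCu, hCu', ← inf_assoc, inf_of_le_left d.L_le]; rfl
    rw [hk, e1, Subgroup.inf_relIndex_right, ← Subgroup.relIndex_subgroupOf hCuC]
    exact Subgroup.relIndex_dvd_index_of_normal _ _
  refine ⟨k, d.L.relIndex d.C, hdk, hmul hle, hmul d.L_le, ?_⟩
  -- adjoining the involution doubles the centraliser
  have huu : u * u = 1 := invol_mul_self c.inv2_order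
  have huL : u ∉ d.L := c.spec.invol_not_mem c.inv2_order c.inv2_ne
  have hcom : ∀ x ∈ fixL d g, Commute x u := fun x hx => Subgroup.mem_centralizer_singleton_iff.1 hx.2
  have huCu : u ∈ Cu := by
    rw [hCu, hCu']; exact ⟨c.inv2_mem, Subgroup.mem_centralizer_singleton_iff.2 rfl⟩
  let f : ↥(fixL d g) × ↥(Subgroup.zpowers u) →* ↥Cu := MonoidHom.noncommCoprod (Subgroup.inclusion hle)
    (Subgroup.inclusion (Subgroup.zpowers_le.2 huCu)) fun x y => Subtype.ext (by
      obtain ⟨i, hi⟩ := Subgroup.mem_zpowers_iff.1 y.2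
      show (x : G) * y = y * x
      rw [← hi]; exact ((hcom x x.2).zpow_right i).eq)
  have hf : Function.Injective f := by
    rw [injective_iff_map_eq_one]
    rintro ⟨x, y⟩ e
    have e' : (x : G) * y = 1 := congrArg Subtype.val e
    have hy : (y : G) = 1 := by
      obtain ⟨i, hi : u ^ i = (y : G)⟩ := (mem_powers_iff_mem_zpowers (x := u)).2 y.2
      rcases Nat.even_or_odd i with ⟨j, rfl⟩ | ⟨j, rfl⟩
      · rw [← hi, ← two_mul, pow_mul, sq, huu, one_pow]
      · rw [pow_succ, pow_mul, sq, huu, one_pow, one_mul] at hi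
        exact absurd (inv_mem_iff.1 (by rw [hi, ← eq_inv_of_mul_eq_one_left e']; exact x.2.1)) huL
    rw [hy, mul_one] at e'
    exact Prod.ext (Subtype.ext e') (Subtype.ext hy)
  have hd' := Subgroup.card_dvd_of_injective f hf
  rw [Nat.card_prod, Nat.card_zpowers, c.inv2_order, ← hmul hle] at hd'
  exact Nat.dvd_of_mul_dvd_mul_left Nat.card_pos hd'

include c R hD hw in
/-- **The class of the second involution in `L`.** -/
theorem Ctx.card_L (hqc : D.core.q = d.q) :
    Nat.card d.L = Nat.card (fixL d g) * (Nat.card (invI d (inv2 d g)) * (D.Q * (D.Q + 1)).natAbs) := by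
  haveI : Fact (Nat.Prime 2) := ⟨Nat.prime_two⟩
  obtain ⟨t, ht, htc⟩ := c.card_fixL R
  obtain ⟨k, m, hkm, hk, hm, h2k⟩ := c.cent_w_mul hw
  have hq : 3 < d.q := c.hq
  have hqodd : ¬ 2 ∣ d.q := fun hd => by
    have := c.spec.podd
    exact this ((Nat.prime_dvd_prime_iff_eq Nat.prime_two c.spec.prime).1 (Nat.prime_two.dvd_of_dvd_pow hd)).symm
  have hO2 : ∀ {H : Subgroup G}, H ≤ d.O → padicValNat 2 (Nat.card H) = 0 := fun hH =>
    padicValNat.eq_zero_of_not_dvd (d.O_odd.of_dvd_nat (Subgroup.card_dvd_of_le hH)).not_two_dvd_nat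
  have hk0 : k ≠ 0 := fun e => by rw [e, mul_zero] at hk; exact Nat.card_pos.ne' hk.symm
  have hm0 : m ≠ 0 := fun e => by rw [e, mul_zero] at hm; exact Nat.card_pos.ne' hm.symm
  have ht0 : t ≠ 0 := by omega
  have hvCL : padicValNat 2 (Nat.card (fixL d g)) = padicValNat 2 t := by
    rw [htc, padicValNat.mul Nat.card_pos.ne' ht0, hO2 inf_le_left, zero_add]
  have hvk : padicValNat 2 (Nat.card (fixL d g)) + padicValNat 2 k = 2 * padicValNat 2 (Nat.card D.core.Z) := by
    rw [← padic_cent_w hD, ← hk, padicValNat.mul Nat.card_pos.ne' hk0]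
  have hk1 : 1 ≤ padicValNat 2 k := one_le_padicValNat_of_dvd hk0 h2k
  obtain ⟨b, x, h, hr⟩ := hD.rot
  obtain ⟨s, hs⟩ : ∃ s, Nat.card D.core.Z = 2 ^ s := by
    exact IsPGroup.iff_card.1 (D.core.S.2.to_le ((hD.core.zle true).trans (hD.core.tle true)))
  have hs' : padicValNat 2 (Nat.card D.core.Z) = s := by rw [hs, padicValNat.prime_pow]
  obtain ⟨f2, f4⟩ := four_dvd_sigma hD
  rw [hqc] at f2 f4
  have hsg : D.core.σ true = 1 ∨ D.core.σ true = -1 := hD.core.sgn true
  have htq : (t : ℤ) = (d.q : ℤ) - D.core.σ true := by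
    rcases (show s = 0 ∨ s = 1 ∨ 2 ≤ s by omega) with rfl | rfl | hs2
    · omega
    · -- semidihedral: `t` is twice an odd number
      have h2Z : Nat.card D.core.Z = 2 := by rw [hs, pow_one]
      have hv : padicValNat 2 t ≤ 1 := by omega
      have ht4 : ¬ 4 ∣ t := fun h4 => by
        have := (padicValNat_dvd_iff_le (p := 2) (n := 2) ht0).1 (by norm_num; exact h4)
        omega
      have := f2 h2Z
      rcases ht with rfl | rfl <;> rcases hsg with e | e <;> rw [e] at this ⊢ <;> omega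
    · -- wreathed: `t` is divisible by four
      have h4Z : 4 ≤ Nat.card D.core.Z := by
        rw [hs]
        calc 4 = 2 ^ 2 := rfl
          _ ≤ 2 ^ s := Nat.pow_le_pow_right (by norm_num) hs2
      have hS : padicValNat 2 (Nat.card (Cz d.z)) = padicValNat 2 (d.q ^ 2 - 1) + s := by
        have h1 := D.core.S.card_eq_multiplicity
        rw [← hr.exact, hqc, hs, ← pow_add, Nat.factorization_def _ Nat.prime_two] at h1
        exact (Nat.pow_right_injective le_rfl h1).symm
      have hq2 : d.q ^ 2 - 1 ≠ 0 := by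
        have : 4 ^ 2 ≤ d.q ^ 2 := Nat.pow_le_pow_left (by omega) 2
        omega
      rw [← hm, card_L_core R c.spec, padicValNat.mul (mul_ne_zero Nat.card_pos.ne' (mul_ne_zero (by omega) hq2)) hm0,
        padicValNat.mul Nat.card_pos.ne' (mul_ne_zero (by omega) hq2), padicValNat.mul (by omega) hq2, hO2 le_rfl,
        padicValNat.eq_zero_of_not_dvd hqodd] at hS
      have hkle : padicValNat 2 k ≤ padicValNat 2 m := by
        refine (padicValNat_dvd_iff_le (p := 2) hm0).1 ?_
        exact pow_padicValNat_dvd.trans hkm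
      have ht4 : 4 ∣ t := by
        have := (padicValNat_dvd_iff_le (p := 2) (n := 2) ht0).2 (by omega)
        simpa using this
      have := f4 h4Z
      rcases ht with rfl | rfl <;> rcases hsg with e | e <;> rw [e] at this ⊢ <;> omega
  rw [card_L_core R c.spec, c.card_core, htc]
  apply Nat.cast_injective (R := ℤ)
  push_cast
  have h1q : 1 ≤ d.q ^ 2 := Nat.one_le_pow _ _ (by omega)
  rw [Nat.cast_sub h1q, htq, Sys.Q, hqc]
  push_cast
  have hpos : (0 : ℤ) ≤ d.q ∧ 0 ≤ (d.q : ℤ) + 1 ∧ 0 ≤ (d.q : ℤ) - 1 := ⟨by omega, by omega, by omega⟩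
  rcases hsg with e | e <;> rw [e]
  · rw [abs_of_nonneg (by nlinarith)]; ring
  · rw [abs_of_nonneg (by nlinarith)]; ring

include c R hD hw in
/-- **The index hypothesis, as a divisibility.** -/
theorem Ctx.index_dvd (hqc : D.core.q = d.q) :
    Nat.card (Subgroup.centralizer ({(D.w : G), d.z} : Set G)) * Nat.card (invI d (inv2 d g)) *
      (D.Q * (D.Q + 1)).natAbs ∣ Nat.card (Cz d.z) := by
  obtain ⟨k, m, ⟨j, hj⟩, hk, hm, -⟩ := c.cent_w_mul hw
  refine ⟨j, ?_⟩
  rw [← hm, c.card_L R hD hw hqc, ← hk, hj]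
  ring

include c R in
/-- An element with square determinant is in `L`. -/
theorem Ctx.mem_L_of_square (hsd : IsQuasiDihedral (d.S : Subgroup G)) {x : G} (hx : x ∈ d.C)
    {k : GL (Fin 2) d.F} (hk : R.σ ⟨x, hx⟩ = PSL2.conjSL k) (hs : IsSquare k.1.det) : x ∈ d.L := by
  obtain ⟨s, hs⟩ := hs
  have hs0 : s ≠ 0 := fun e => GW.Model.det_ne k (by rw [hs, e, zero_mul])
  let A : SL[d] := ⟨s⁻¹ • k.1, by rw [Matrix.det_smul, hs, Fintype.card_fin]; field_simp⟩
  obtain ⟨y, hy⟩ := R.surj A
  have hσA : R.σ ⟨y, d.L_le y.2⟩ = PSL2.conjSL k := by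
    rw [show PSL2.conjSL k = PSL2.conjSL (Matrix.SpecialLinearGroup.toGL A) from
      (SL2.conjSL_smul (c := s⁻¹) rfl (inv_ne_zero hs0)).symm]
    refine MulEquiv.ext fun B => Subtype.ext ?_
    rw [R.sigma_inner, hy, PSL2.coe_conjSL, ← map_inv]
    rfl
  obtain ⟨o, ho, e⟩ := R.sigma_kernel c.spec c.hq c.hyp hsd (mul_mem (inv_mem (d.L_le y.2)) hx) (by
    show R.σ (⟨y, d.L_le y.2⟩⁻¹ * ⟨x, hx⟩) = 1
    rw [map_mul, map_inv, hσA, hk, inv_mul_cancel])
  rcases e with e | e <;> rw [eq_mul_of_inv_mul_eq e]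
  · exact mul_mem y.2 (d.O_le_L ho)
  · exact mul_mem y.2 (mul_mem c.spec.z_mem_L (d.O_le_L ho))

include c R hD hw in
/-- **The index hypothesis in the semidihedral case.** -/
theorem Ctx.index_eq (hqc : D.core.q = d.q) (hsd : IsQuasiDihedral (d.S : Subgroup G)) (hin : R.Inner) :
    Nat.card (Cz d.z) = Nat.card (Subgroup.centralizer ({(D.w : G), d.z} : Set G)) *
      Nat.card (invI d (inv2 d g)) * (D.Q * (D.Q + 1)).natAbs := by
  obtain ⟨g₀, htr, hns, hg₀⟩ := R.invol c.spec c.hq c.hyp c.inv2_mem c.inv2_order c.inv2_ne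
  have hσu : R.σ ⟨inv2 d g, c.inv2_mem⟩ = PSL2.conjSL g₀ :=
    MulEquiv.ext fun A => Subtype.ext (by rw [hg₀, PSL2.coe_conjSL])
  have hout := R.outer c.spec c.hq c.hyp hsd c.inv2_mem c.inv2_order c.inv2_ne hσu
  have huL : inv2 d g ∉ d.L := c.spec.invol_not_mem c.inv2_order c.inv2_ne
  have hidx : d.L.relIndex d.C = 2 := by
    refine Subgroup.index_eq_two_iff.2 ⟨⟨inv2 d g, c.inv2_mem⟩, fun b => ?_⟩
    rw [Subgroup.mem_subgroupOf, Subgroup.mem_subgroupOf]
    obtain ⟨k, hk⟩ := hin b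
    have hσb : R.σ b = PSL2.conjSL k := MulEquiv.ext fun A => Subtype.ext (by rw [hk, PSL2.coe_conjSL])
    by_cases hs : IsSquare k.1.det
    · have hbL := c.mem_L_of_square R hsd b.2 hσb hs
      exact Or.inr ⟨hbL, fun h => huL ((Subgroup.mul_mem_cancel_left _ hbL).1 h)⟩
    · have hbuL : (b : G) * inv2 d g ∈ d.L := by
        refine c.mem_L_of_square R hsd (mul_mem b.2 c.inv2_mem) (k := k * g₀) ?_ ?_
        · show R.σ (b * ⟨inv2 d g, c.inv2_mem⟩) = _
          rw [map_mul, hσb, hσu]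
          refine MulEquiv.ext fun A => Subtype.ext ?_
          rw [MulAut.mul_apply, PSL2.coe_conjSL, PSL2.coe_conjSL, PSL2.coe_conjSL, _root_.mul_inv_rev,
            Units.val_mul, Units.val_mul]
          simp only [Matrix.mul_assoc]
        · have hc' : ringChar d.F ≠ 2 := fun e => by
            haveI : CharP d.F 2 := ringChar.of_eq e
            exact SL2Orders.two_ne_zero_of_odd c.spec.odd_card (CharP.cast_eq_zero d.F 2)
          have h1 := GW.Model.det_ne k
          have h2 := GW.Model.det_ne g₀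
          rw [Units.val_mul, Matrix.det_mul, FiniteField.isSquare_iff hc' (mul_ne_zero h1 h2), mul_pow]
          rw [FiniteField.isSquare_iff hc' h1] at hs
          rw [FiniteField.isSquare_iff hc' h2] at hout
          rw [(FiniteField.pow_dichotomy hc' h1).resolve_left hs, (FiniteField.pow_dichotomy hc' h2).resolve_left hout]
          ring
      exact Or.inl ⟨hbuL, fun h => huL ((Subgroup.mul_mem_cancel_left _ h).1 hbuL)⟩
  obtain ⟨k, m, hkm, hk, hm, h2k⟩ := c.cent_w_mul hw
  have hm2 : m = 2 := by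
    have h1 : Nat.card d.L * d.L.relIndex d.C = Nat.card d.C := by
      rw [← Subgroup.relIndex_bot_left, ← Subgroup.relIndex_bot_left,
        Subgroup.relIndex_mul_relIndex _ _ _ bot_le d.L_le]
    exact Nat.eq_of_mul_eq_mul_left Nat.card_pos ((hm.trans h1.symm).trans (by rw [hidx]))
  subst hm2
  obtain rfl : k = 2 := Nat.dvd_antisymm hkm h2k
  rw [← hm, c.card_L R hD hw hqc, ← hk]
  ring

end Sys

end CfsgLib.RankTwoModel.L4
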