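import Cfsg.Agent.Lib.RankTwoModel.L4.Moved.Blockwise
import Cfsg.Agent.Lib.RankTwoModel.L4.Moved.FourBlock
import Cfsg.Agent.Lib.RankTwoModel.L4.Moved.Arith
import Cfsg.Agent.Lib.RankTwoModel.L4.Index

/-!
The moved half of L4 (blueprint/RankTwo_L45.md, D2).

* `moved_identity`: a moved regular character of `C(U)` gives `n (i Q)² = [G:C] (Q + 1)` for an integer `n`;
* `moved_false`: with a prime of `i` coprime to the index this is impossible.
-/

set_option autoImplicit false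
set_option linter.unusedSectionVars false
set_option linter.style.haveILetI false

namespace CfsgLib.RankTwoModel.L4

open Cfsg CfsgLib.BrauerOrder CfsgLib.CharTheory CfsgLib.Blocks Moved
open scoped ComplexConjugate

universe u v

variable {G : Type u} [Group G] [Fintype G] {z : G} [Fintype (Cz z)] {Ω : Type v} [MulAction (Cz z) Ω]
  [Finite Ω] {D : Sys G z}

/-- **The identity of the moved character.** -/
theorem moved_identity (hD : D.Spec Ω) (h2 : Nat.card D.core.Z = 2) {i : ℕ}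
    (hidx : Nat.card (Cz z) =
      Nat.card (Subgroup.centralizer ({(D.w : G), z} : Set G)) * i * (D.Q * (D.Q + 1)).natAbs)
    (hi : Nat.card D.core.O = Nat.card ↥(D.core.O ⊓ Subgroup.centralizer ({D.w} : Set (Cz z))) * i)
    (hcw : Nat.card (Subgroup.centralizer ({(D.w : G), z} : Set G)) =
      2 * (D.Q - 1).natAbs * Nat.card ↥(D.core.O ⊓ Subgroup.centralizer ({D.w} : Set (Cz z))))
    (hTI : ∀ g y : Cz z, y * D.w = D.w * y → Odd (orderOf y) → y ∉ D.core.O →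
      (g * y * g⁻¹) * D.w * (g * y * g⁻¹)⁻¹ * D.w⁻¹ ∈ D.core.O →
      g * D.w * g⁻¹ * D.w⁻¹ ∈ D.core.O ∨ g * D.w * g⁻¹ * (D.zc * D.w)⁻¹ ∈ D.core.O)
    (ψ : ↥(Subgroup.centralizer ({(D.w : G), z} : Set G)) →* ℂˣ)
    (hψU : ∀ x : ↥(Subgroup.centralizer ({(D.w : G), z} : Set G)), ((x : G) = (D.w : G) ∨ (x : G) = z) → ψ x = 1)
    (hreg : ∀ g ∈ Subgroup.normalizer (((D.core.T true).map (Subgroup.subtype _) : Subgroup G) : Set G),
      g ∉ Subgroup.centralizer ({(D.w : G), z} : Set G) →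
        ∃ x x' : ↥(Subgroup.centralizer ({(D.w : G), z} : Set G)), (x' : G) = g * x * g⁻¹ ∧ ψ x' ≠ ψ x)
    (hθ : ∀ g ∈ Subgroup.normalizer (((D.core.T true).map (Subgroup.subtype _) : Subgroup G) : Set G),
      ∃ θ : Cz z →* ℂˣ, ∀ (c : Cz z) (x' : ↥(Subgroup.centralizer ({(D.w : G), z} : Set G))),
        c ∈ D.core.O → c * D.w = D.w * c → (x' : G) = g * c * g⁻¹ → θ c = ψ x') :
    ∃ n : ℤ, n * ((i : ℤ) * D.Q) ^ 2 =
      ((Subgroup.centralizer ({z} : Set G)).index : ℤ) * (D.Q + 1) := by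
  classical
  have hT : Tor D Ω i :=
    { spec := hD, h2 := h2, hidx := hidx, hi := hi, hcw := hcw, ti := hTI }
  obtain ⟨M, hM⟩ := exists_isPModular Nat.prime_two
  obtain ⟨r, g, hr⟩ := exists_auto hD
  -- the normalising elements
  have hgN : g ∈ Subgroup.normalizer (D.UG : Set G) := by
    refine Subgroup.mem_normalizer_iff.2 fun x => ⟨?_, ?_⟩
    · rintro ⟨t, ht, rfl⟩
      exact ⟨(r ⟨t, ht⟩ : Cz z), (r ⟨t, ht⟩).2, hr.conj ⟨t, ht⟩⟩
    · rintro ⟨t, ht, e⟩
      refine ⟨(r.symm ⟨t, ht⟩ : Cz z), (r.symm ⟨t, ht⟩).2, ?_⟩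
      have h := hr.conj (r.symm ⟨t, ht⟩)
      rw [r.apply_symm_apply] at h
      exact mul_left_cancel (a := g) (mul_right_cancel (b := g⁻¹) (h.symm.trans e))
  set a : Fin 3 → G := ![1, g, g * g] with ha
  have haN : ∀ j, a j ∈ Subgroup.normalizer (D.UG : Set G) := fun j => by
    fin_cases j
    exacts [one_mem _, hgN, mul_mem hgN hgN]
  have hgz : g * z * g⁻¹ = (D.w : G) := by
    have h := hr.conj ⟨D.zc, hD.core.zle true hD.zcZ⟩
    rw [hr.onZ] at h
    simp only [hD.zcv] at h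
    exact h.symm
  have hgw : g * (D.w : G) * g⁻¹ = z * (D.w : G) := by
    have h := hr.conj ⟨D.w, hD.wT⟩
    rw [hr.onW, Subgroup.coe_mul, hD.zcv] at h
    exact h.symm
  have hzU : z ∈ D.UG := ⟨D.zc, hD.core.zle true hD.zcZ, hD.zcv⟩
  have haz : ∀ j, a j * z * (a j)⁻¹ = (![z, (D.w : G), z * (D.w : G)] : Fin 3 → G) j := fun j => by
    fin_cases j
    · simp [ha]
    · simpa [ha] using hgz
    · show g * g * z * (g * g)⁻¹ = z * (D.w : G)
      rw [show g * g * z * (g * g)⁻¹ = g * (g * z * g⁻¹) * g⁻¹ by group, hgz, hgw]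
  have hne : ∀ b b', b ≠ b' → a b * z * (a b)⁻¹ ≠ a b' * z * (a b')⁻¹ := by
    intro b b' hbb
    obtain ⟨n1, n2, n3, n4, n5⟩ := w_ne hD
    have hi3 : ∀ {x y : Cz z}, x ≠ y → (x : G) ≠ (y : G) := fun h e => h (Subtype.ext e)
    have k1 := hi3 n2
    have k2 := hi3 n4
    have k3 := hi3 n5
    rw [hD.zcv] at k1 k2
    rw [Subgroup.coe_mul, hD.zcv] at k2 k3
    rw [haz, haz]
    fin_cases b <;> fin_cases b'
    all_goals first
      | exact absurd rfl hbb
      | exact k1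
      | exact k2
      | exact k3
      | exact k1.symm
      | exact k2.symm
      | exact k3.symm
  -- the three functions
  choose θ φ hH hθz hθw hφ using fun j => twist_chi hT hψU hreg hθ (haN j)
  set P : Fin 3 → Cz z → ℂ := fun j => (hH j).phi (θ j)
  have hPf := fun j => phi_facts (hH j) (θ j) (hθz j)
  have horth : ∀ b b', b ≠ b' → classInner (P b) (P b') = 0 := fun b b' hbb => by
    refine phi_orth (hH b) (hH b') (θ b) (θ b') (hθw b) (hθw b') (hφ b) (hφ b') ?_ ?_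
    · exact tw_ne_tw hT hψU hreg (haN b) (haN b') hzU (hne b b' hbb)
    · have hn := n_mem_normalizer hT
      obtain ⟨k, hk, hk'⟩ := tw_ne_tw hT hψU hreg (mul_mem (haN b) (inv_mem hn)) (haN b') hzU (by
        have e : ((D.core.n true : Cz z) : G)⁻¹ * z * ((D.core.n true : Cz z) : G) = z := by
          rw [mul_assoc, ← Subgroup.mem_centralizer_singleton_iff.1 (D.core.n true).2, inv_mul_cancel_left]
        rw [show a b * ((D.core.n true : Cz z) : G)⁻¹ * z * (a b * ((D.core.n true : Cz z) : G)⁻¹)⁻¹ =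
          a b * (((D.core.n true : Cz z) : G)⁻¹ * z * ((D.core.n true : Cz z) : G)) * (a b)⁻¹ by group, e]
        exact hne b b' hbb)
      refine ⟨k, hk, fun e => hk' ?_⟩
      rw [← e]
      refine congrArg ψ (Subtype.ext ?_)
      show a b * ((D.core.n true : Cz z) : G)⁻¹ * ((k : Cz z) : G) * (a b * ((D.core.n true : Cz z) : G)⁻¹)⁻¹ =
        a b * (((D.core.n true : Cz z) : G)⁻¹ * ((k : Cz z) : G) * ((D.core.n true : Cz z) : G)) * (a b)⁻¹
      group
  -- the block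
  have hcent := cent_UG hT
  set ψU : ↥(Subgroup.centralizer (D.UG : Set G)) →* ℂˣ := ψ.comp (Subgroup.inclusion hcent.le)
  have hψUG : ∀ (x : ↥(Subgroup.centralizer (D.UG : Set G)))
      (x' : ↥(Subgroup.centralizer ({(D.w : G), z} : Set G))), (x : G) = x' → ψU x = ψ x' := fun x x' e =>
    congrArg ψ (Subtype.ext e)
  have hfac : (Nat.card (Subgroup.centralizer (D.UG : Set G))).factorization 2 = 2 := by
    obtain ⟨K, -, hK, hKi⟩ := hD.core.cent true D.w hD.wT hD.wZ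
    have h : Nat.card (Subgroup.centralizer (D.UG : Set G)) = Nat.card K * 2 ^ 2 := by
      rw [hcent, ← card_cent_w, ← K.card_mul_index, hKi, hD.cardU, h2]
    rw [h, Nat.factorization_mul Nat.card_pos.ne' (by norm_num), Finsupp.add_apply,
      Nat.factorization_eq_zero_of_not_dvd hK, Nat.factorization_pow_self Nat.prime_two]
  obtain ⟨B, hB, hB4, hBmem⟩ := exists_four_block hM (klein_UG hT) hfac ψU
    (fun x hx => (hψUG x ⟨(x : G), hcent.le x.2⟩ rfl).trans (psi_UG hT hψU hx))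
    (fun b hb hnb => by
      obtain ⟨x, x', hxx, hne'⟩ := hreg b hb (fun h => hnb (hcent.ge h))
      refine ⟨⟨x, hcent.ge x.2⟩, ⟨x', hcent.ge x'.2⟩, hxx, ?_⟩
      rw [hψUG _ x' rfl, hψUG _ x rfl]
      exact hne')
  haveI : Fintype ↥B := Fintype.ofFinite _
  let e : Fin 4 ≃ ↥B := (Finite.equivFinOfCardEq hB4).symm
  have hout : ∀ (j : Fin 3) (χ : IrrCharacter G), χ ∉ B → classInner (D.up (P j)) (χ : G → ℂ) = 0 :=
    fun j χ hχ => by
    by_contra h0
    exact hχ (hBmem χ (block_mem hT hM (haN j) (hH j) (hθw j) (hφ j) ψU hψUG h0))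
  have hsum : ∀ F : IrrCharacter G → ℂ, (∀ χ, χ ∉ B → F χ = 0) →
      ∑ χ : IrrCharacter G, F χ = ∑ k, F (e k : IrrCharacter G) := fun F hF => by
    rw [← Finset.sum_subset (Finset.subset_univ (bset B)) fun χ _ hχ => hF χ fun h => hχ (mem_bset.2 h),
      Finset.sum_subtype (p := fun χ => χ ∈ B) (bset B) (fun χ => mem_bset) F]
    exact (e.sum_comp fun χ : ↥B => F (χ : IrrCharacter G)).symm
  have hgen : ∀ j, IsGeneralizedCharacter G (D.up (P j)) := fun j => isGenChar_indFun _ (hPf j).1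
  choose c hexp hc hnorm using fun j => classInner_self_eq_sum_sq (hgen j)
  have hc0 : ∀ j χ, χ ∉ B → c j χ = 0 := fun j χ hχ => by
    have h := hout j χ hχ
    rw [hc j χ] at h
    exact_mod_cast h
  set C : Fin 3 → Fin 4 → ℤ := fun j k => c j (e k : IrrCharacter G)
  choose d hd0 hd using fun k : Fin 4 => irr_degree_pos ((e k : IrrCharacter G)).2
  have hdk : ∀ k, ((d k : ℤ) : ℂ) = ((e k : IrrCharacter G) : G → ℂ) 1 := fun k => by rw [hd k]; norm_cast
  have hexpand : ∀ j x, D.up (P j) x = ∑ k, (C j k : ℂ) * ((e k : IrrCharacter G) : G → ℂ) x := fun j x => by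
    rw [congrFun (hexp j) x, Finset.sum_apply]
    simp only [Pi.smul_apply, smul_eq_mul]
    exact hsum _ fun χ hχ => by rw [hc0 j χ hχ, Int.cast_zero, zero_mul]
  have hCd : ∀ j, ∑ k, C j k * (d k : ℤ) = 0 := fun j => by
    have h := hexpand j 1
    rw [up_one hD (hPf j).2.2.1] at h
    apply Int.cast_injective (α := ℂ)
    push_cast
    refine Eq.trans (Finset.sum_congr rfl fun k _ => ?_) h.symm
    rw [← hdk k]; push_cast; rfl
  have hCC : ∀ b b', ((∑ k, C b k * C b' k : ℤ) : ℂ) = classInner (P b) (P b') := fun b b' => by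
    rw [← inner_up hD (hPf b).2.2.1 (hPf b').2.2.1 (hPf b').2.1]
    nth_rewrite 1 [hexp b]
    rw [classInner_sum_left]
    simp only [classInner_smul_left]
    rw [hsum _ fun χ hχ => by rw [hc0 b χ hχ, Int.cast_zero, zero_mul]]
    push_cast
    refine Finset.sum_congr rfl fun k _ => ?_
    rw [← classInner_comm, hc b' _, map_intCast]
  have hsgn : ∀ j k, C j k = 1 ∨ C j k = -1 := fun j => by
    refine signs_of_norm_four (d := fun k => (d k : ℤ)) (fun k => by simp only [ne_eq, Nat.cast_eq_zero]; exact (hd0 k).ne') ?_ (hCd j)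
    apply Int.cast_injective (α := ℂ)
    rw [show ∑ k, C j k ^ 2 = ∑ k, C j k * C j k from Finset.sum_congr rfl fun k _ => sq _, hCC, (hPf j).2.2.2.1]
    norm_num
  have hzord : orderOf z = 2 := hD.zord
  have hdv : ∑ k, ((d k : ℤ) : ℂ) * ((e k : IrrCharacter G) : G → ℂ) z = 0 := by
    have h := weak_orth_conj hM hB (x := (1 : G)) (y := z) (by rw [orderOf_one]; decide) (by rw [hzord])
    rw [Finset.sum_subtype (p := fun χ => χ ∈ B) (bset B) (fun χ => mem_bset) _,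
      ← e.sum_comp] at h
    refine Eq.trans (Finset.sum_congr rfl fun k _ => ?_) h
    rw [irr_conjInv, inv_eq_of_mul_eq_one_right (show z * z = 1 from
      (CfsgLib.Involutions.orderOf_eq_two_iff'.1 hzord).1), hdk k]
  obtain ⟨n, hn0, hn⟩ := hadamard (c := C) hsgn (fun b b' hbb => by
      apply Int.cast_injective (α := ℂ)
      rw [hCC, horth b b' hbb, Int.cast_zero])
    (d := fun k => (d k : ℤ)) (fun k => by simp only [ne_eq, Nat.cast_eq_zero]; exact (hd0 k).ne') hCd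
    (v := fun k => ((e k : IrrCharacter G) : G → ℂ) z) (x := 4 * ((D.Q : ℂ) + 1))
    (fun j => by rw [← hexpand, up_phi_z (hH j) (θ j) (hθz j)]) hdv
  -- Brauer's identity
  have hid := pair_identity hD (zcw_conj hD) (hPf 0).2.2.1 (hPf 0).2.1
  rw [phi_weight (hH 0) (θ 0) (hθw 0),
    hsum _ fun χ hχ => by rw [hout 0 χ hχ, zero_mul, zero_div]] at hid
  have hL : ∑ k, (C 0 k : ℂ) * ((e k : IrrCharacter G) : G → ℂ) z ^ 2 / ((d k : ℤ) : ℂ) =
      D.kappa * (8 / ((D.Q : ℂ) + 1)) := by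
    rw [← hid]
    refine Finset.sum_congr rfl fun k _ => ?_
    rw [hdk k, hc 0 _]
  rw [hn, Sys.kappa] at hL
  refine ⟨n, ?_⟩
  set N := (Subgroup.centralizer ({z} : Set G)).index
  set W := Nat.card (Subgroup.centralizer ({(D.w : G), z} : Set G))
  have hG : (Nat.card G : ℂ) = (N : ℂ) * (Nat.card (Cz z) : ℂ) := by
    rw [← Nat.cast_mul, mul_comm, Subgroup.card_mul_index]
  have hQ1 : (D.Q : ℂ) + 1 ≠ 0 := deg_ne_zero (hH 0)
  have hW0 : (W : ℂ) ≠ 0 := Nat.cast_ne_zero.2 Nat.card_pos.ne'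
  have hC0 : (Nat.card (Cz z) : ℂ) ≠ 0 := Nat.cast_ne_zero.2 Nat.card_pos.ne'
  have hN0 : (N : ℂ) ≠ 0 := Nat.cast_ne_zero.2 Subgroup.index_ne_zero_of_finite
  have hnC : (n : ℂ) ≠ 0 := Int.cast_ne_zero.2 hn0
  have hsq : (Nat.card (Cz z) : ℂ) ^ 2 = (W : ℂ) ^ 2 * (i : ℂ) ^ 2 * ((D.Q : ℂ) * ((D.Q : ℂ) + 1)) ^ 2 := by
    have h : (Nat.card (Cz z) : ℤ) = (W : ℤ) * i * |D.Q * (D.Q + 1)| := by
      rw [← Int.natCast_natAbs]
      exact_mod_cast hidx
    have h' : (Nat.card (Cz z) : ℤ) ^ 2 = (W : ℤ) ^ 2 * (i : ℤ) ^ 2 * (D.Q * (D.Q + 1)) ^ 2 := by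
      rw [h]
      linear_combination ((W : ℤ) ^ 2 * (i : ℤ) ^ 2) * sq_abs (D.Q * (D.Q + 1))
    exact_mod_cast h'
  apply Int.cast_injective (α := ℂ)
  push_cast
  rw [hG] at hL
  field_simp at hL
  have h1 : ((D.Q : ℂ) + 1) ^ 3 * ((N : ℂ) * (W : ℂ) ^ 2) = (n : ℂ) * (Nat.card (Cz z) : ℂ) ^ 2 := by
    linear_combination hL / 16
  rw [hsq] at h1
  refine mul_left_cancel₀ (mul_ne_zero (pow_ne_zero 2 hW0) (pow_ne_zero 2 hQ1)) ?_
  linear_combination -h1

/-- **No moved character when a prime of `i` is coprime to the index.** -/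
theorem moved_false [IsSimpleGroup G] (hD : D.Spec Ω) (h2 : Nat.card D.core.Z = 2) (hpp : IsPrimePow D.core.q)
    (hN : Odd (Subgroup.centralizer ({z} : Set G)).index) {i : ℕ}
    (hidx : Nat.card (Cz z) =
      Nat.card (Subgroup.centralizer ({(D.w : G), z} : Set G)) * i * (D.Q * (D.Q + 1)).natAbs)
    (hi : Nat.card D.core.O = Nat.card ↥(D.core.O ⊓ Subgroup.centralizer ({D.w} : Set (Cz z))) * i)
    (hcw : Nat.card (Subgroup.centralizer ({(D.w : G), z} : Set G)) =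
      2 * (D.Q - 1).natAbs * Nat.card ↥(D.core.O ⊓ Subgroup.centralizer ({D.w} : Set (Cz z))))
    (hTI : ∀ g y : Cz z, y * D.w = D.w * y → Odd (orderOf y) → y ∉ D.core.O →
      (g * y * g⁻¹) * D.w * (g * y * g⁻¹)⁻¹ * D.w⁻¹ ∈ D.core.O →
      g * D.w * g⁻¹ * D.w⁻¹ ∈ D.core.O ∨ g * D.w * g⁻¹ * (D.zc * D.w)⁻¹ ∈ D.core.O)
    (ψ : ↥(Subgroup.centralizer ({(D.w : G), z} : Set G)) →* ℂˣ)
    (hψU : ∀ x : ↥(Subgroup.centralizer ({(D.w : G), z} : Set G)), ((x : G) = (D.w : G) ∨ (x : G) = z) → ψ x = 1)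
    (hreg : ∀ g ∈ Subgroup.normalizer (((D.core.T true).map (Subgroup.subtype _) : Subgroup G) : Set G),
      g ∉ Subgroup.centralizer ({(D.w : G), z} : Set G) →
        ∃ x x' : ↥(Subgroup.centralizer ({(D.w : G), z} : Set G)), (x' : G) = g * x * g⁻¹ ∧ ψ x' ≠ ψ x)
    (hθ : ∀ g ∈ Subgroup.normalizer (((D.core.T true).map (Subgroup.subtype _) : Subgroup G) : Set G),
      ∃ θ : Cz z →* ℂˣ, ∀ (c : Cz z) (x' : ↥(Subgroup.centralizer ({(D.w : G), z} : Set G))),
        c ∈ D.core.O → c * D.w = D.w * c → (x' : G) = g * c * g⁻¹ → θ c = ψ x')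
    {r : ℕ} [Fact r.Prime] (hri : r ∣ i)
    (hgc : padicValNat r (Nat.card G) = padicValNat r (Nat.card (Cz z))) : False := by
  obtain ⟨n, hn⟩ := moved_identity hD h2 hidx hi hcw hTI ψ hψU hreg hθ
  obtain ⟨B, C, hB, hB1, -, -, hC, hE, -⟩ := data_qd hD h2
  obtain ⟨p, k, hp, -, hpk⟩ := hpp
  have hq3 := hD.core.qlb
  have hσ := hD.core.sgn true
  have hQabs : D.Q.natAbs = p ^ k := by
    rw [Sys.Q, Int.natAbs_mul, Int.natAbs_natCast, hpk]
    rcases hσ with e | e <;> rw [e] <;> simp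
  have hQ3 : 3 ≤ |D.Q| := by
    rw [Sys.Q, abs_mul, Nat.abs_cast]
    rcases hσ with e | e <;> rw [e] <;> norm_num <;> omega
  have h4 : 4 ∣ D.Q + 1 := by
    have h := (four_dvd_sigma hD).1 h2
    rw [Sys.Q]
    rcases hσ with e | e <;> rw [e] at h ⊢
    · simpa using h
    · rw [show (-1 : ℤ) * (D.core.q : ℤ) + 1 = -((D.core.q : ℤ) + -1) by ring]
      exact dvd_neg.2 h
  set N := (Subgroup.centralizer ({z} : Set G)).index with hNdef
  set W := Nat.card (Subgroup.centralizer ({(D.w : G), z} : Set G))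
  have hW0 : (W : ℤ) ≠ 0 := Int.natCast_ne_zero.2 Nat.card_pos.ne'
  have hQ0 : D.Q ≠ 0 := fun e => by rw [e, abs_zero] at hQ3; omega
  have hQ10 : D.Q + 1 ≠ 0 := fun e => by
    have : D.Q = -1 := by omega
    rw [this] at hQ3; norm_num at hQ3
  have hi0 : i ≠ 0 := fun e0 => by rw [e0, mul_zero, zero_mul] at hidx; exact Nat.card_pos.ne' hidx
  have hi0' : (i : ℤ) ≠ 0 := Int.natCast_ne_zero.2 hi0
  have hG : (Nat.card G : ℤ) = (N : ℤ) * (Nat.card (Cz z) : ℤ) := by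
    rw [← Nat.cast_mul, mul_comm, Subgroup.card_mul_index]
  have hsq : (Nat.card (Cz z) : ℤ) ^ 2 = (W : ℤ) ^ 2 * (i : ℤ) ^ 2 * (D.Q * (D.Q + 1)) ^ 2 := by
    have h : (Nat.card (Cz z) : ℤ) = (W : ℤ) * i * |D.Q * (D.Q + 1)| := by
      rw [← Int.natCast_natAbs]
      exact_mod_cast hidx
    rw [h]
    linear_combination ((W : ℤ) ^ 2 * (i : ℤ) ^ 2) * sq_abs (D.Q * (D.Q + 1))
  have hC0 : (Nat.card (Cz z) : ℤ) ≠ 0 := Int.natCast_ne_zero.2 Nat.card_pos.ne'
  rw [hG] at hE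
  have eN : (N : ℤ) * (B + D.Q) ^ 2 = ((i : ℤ) ^ 2) * D.Q * (D.Q + 1) ^ 3 * (B * (B - 1)) := by
    refine mul_left_cancel₀ (mul_ne_zero (mul_ne_zero hC0 (pow_ne_zero 2 hW0)) hQ0) ?_
    linear_combination -hE + ((Nat.card (Cz z) : ℤ) * (D.Q + 1) * B * (B - 1)) * hsq
  have en : n * D.Q * (B + D.Q) ^ 2 = (D.Q + 1) ^ 4 * (B * (B - 1)) := by
    refine mul_left_cancel₀ (mul_ne_zero (pow_ne_zero 2 hi0') hQ0) ?_
    linear_combination (B + D.Q) ^ 2 * hn + (D.Q + 1) * eN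
  have hBv := moved_arith hp.nat_prime hQabs hQ3 h4 hB hB1 hC en eN (by exact_mod_cast hN)
  have hNv : (N : ℤ) = ((i : ℤ) * D.Q) ^ 2 * (D.Q ^ 2 + D.Q + 1) := by
    refine mul_right_cancel₀ (pow_ne_zero 4 hQ10) ?_
    rw [hBv] at eN
    linear_combination eN
  have hrN : r ∣ N := by
    have hr : (r : ℤ) ∣ (i : ℤ) := Int.natCast_dvd_natCast.2 hri
    have : (r : ℤ) ∣ (N : ℤ) := by
      rw [hNv]
      exact (dvd_pow (hr.mul_right _) (by norm_num)).mul_right _
    exact Int.natCast_dvd_natCast.1 this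
  have h1 := one_le_padicValNat_of_dvd (show N ≠ 0 from Subgroup.index_ne_zero_of_finite) hrN
  have hgN : Nat.card G = N * Nat.card (Cz z) := (Subgroup.index_mul_card _).symm
  rw [hgN, padicValNat.mul (show N ≠ 0 from Subgroup.index_ne_zero_of_finite) Nat.card_pos.ne'] at hgc
  omega

end CfsgLib.RankTwoModel.L4
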