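import Cfsg.Agent.Lib.RankTwoModel.L4.IndexSD
import Cfsg.Agent.Lib.BrauerTwist.Modular
import Cfsg.Agent.Lib.Chev.Aut.FieldCyclic

/-!
No field part in the semidihedral case of L4 (blueprint/RankTwo_L45.md, D3).

`BrauerTwist.eq_one` at the character of the field part, with `i` the order of the inverted part of the core.
-/

set_option autoImplicit false
set_option linter.unusedSectionVars false
set_option linter.style.haveILetI false

namespace CfsgLib.RankTwoModel.L4

open Cfsg CfsgLib.BrauerOrder CfsgLib.GW CfsgLib.BG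

universe u

/-- A character of odd order of the automorphisms of a finite field, faithful on the elements of odd order. -/
theorem exists_odd_char (F : Type) [Field F] [Finite F] :
    ∃ (χ : RingAut F →* ℂˣ) (k : ℕ), Odd k ∧ (∀ e, Odd (orderOf e) → χ e = 1 → e = 1) ∧ ∀ e, χ e ^ k = 1 := by
  classical
  haveI : IsCyclic (RingAut F) := CfsgLib.Chev.ringAut_cyclic_finite F
  haveI : Finite (RingAut F) :=
    Finite.of_injective (fun g : RingAut F => (g : F → F)) DFunLike.coe_injective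
  obtain ⟨g, hg⟩ := IsCyclic.exists_generator (α := RingAut F)
  set n := orderOf g with hn
  have hn0 : n ≠ 0 := (orderOf_pos g).ne'
  have hprim := Complex.isPrimitiveRoot_exp n hn0
  set ζ : ℂˣ := (hprim.isUnit hn0).unit with hζ
  have hζn : orderOf ζ = n := by
    rw [← orderOf_units, IsUnit.unit_spec]
    exact hprim.eq_orderOf.symm
  let φ : RingAut F →* ℂˣ := monoidHomOfForallMemZpowers hg (g' := ζ) (dvd_of_eq hζn)
  have hφ : ∀ e, φ e = 1 → e = 1 := fun e he => by
    obtain ⟨i, rfl⟩ := Subgroup.mem_zpowers_iff.1 (hg e)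
    rw [map_zpow, monoidHomOfForallMemZpowers_apply_gen] at he
    have h1 : (orderOf ζ : ℤ) ∣ i := orderOf_dvd_iff_zpow_eq_one.2 he
    rw [hζn] at h1
    exact orderOf_dvd_iff_zpow_eq_one.1 h1
  obtain ⟨a, k, hk, hnk⟩ := Nat.exists_eq_two_pow_mul_odd hn0
  have hpowφ : ∀ e, φ e ^ n = 1 := fun e => by
    obtain ⟨i, rfl⟩ := Subgroup.mem_zpowers_iff.1 (hg e)
    rw [← map_pow, ← zpow_natCast, ← zpow_mul, mul_comm, zpow_mul, zpow_natCast, hn, pow_orderOf_eq_one,
      one_zpow, map_one]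
  refine ⟨φ ^ 2 ^ a, k, hk, fun e he h1 => ?_, fun e => ?_⟩
  · rw [MonoidHom.pow_apply, ← map_pow] at h1
    have h2 := orderOf_dvd_of_pow_eq_one (hφ _ h1)
    exact orderOf_eq_one_iff.1 (Nat.eq_one_of_dvd_coprimes ((Nat.coprime_two_left.2 he).pow_left a) h2 dvd_rfl)
  · rw [MonoidHom.pow_apply, ← pow_mul, ← hnk]
    exact hpowφ e

variable {G : Type u} [Group G] [Fintype G] {d : Frame G} (R : Rep d)

/-- The field parts have odd order in the semidihedral case. -/
theorem Ctx.field_odd {g : G} (c : Ctx d g) (hsd : IsQuasiDihedral (d.S : Subgroup G)) (x : ↥d.C) :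
    Odd (orderOf (R.field c.spec x)) := by
  haveI : Fact (Nat.Prime 2) := ⟨Nat.prime_two⟩
  haveI : IsCyclic (RingAut d.F) := CfsgLib.Chev.ringAut_cyclic_finite d.F
  haveI : Finite (RingAut d.F) :=
    Finite.of_injective (fun g : RingAut d.F => (g : d.F → d.F)) DFunLike.coe_injective
  letI : CommGroup (RingAut d.F) := IsCyclic.commGroup
  set u : ↥d.C := ⟨inv2 d g, c.inv2_mem⟩ with hu
  obtain ⟨Q, hQ⟩ := (IsPGroup.of_card (n := 1) (by
    rw [Nat.card_zpowers, ← Subgroup.orderOf_coe, c.inv2_order, pow_one]) :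
      IsPGroup 2 (Subgroup.zpowers u)).exists_le_sylow
  by_contra hev
  rw [Nat.not_odd_iff_even, even_iff_two_dvd] at hev
  obtain ⟨a, m, hm, hn⟩ := Nat.exists_eq_two_pow_mul_odd (orderOf_pos x).ne'
  have hxm : R.field c.spec (x ^ m) = 1 := by
    obtain ⟨P, hP⟩ := (IsPGroup.of_card (n := a) (by
      rw [Nat.card_zpowers, orderOf_pow_of_dvd hm.pos.ne' (hn ▸ dvd_mul_left m _), hn,
        Nat.mul_div_cancel _ hm.pos]) : IsPGroup 2 (Subgroup.zpowers (x ^ m))).exists_le_sylow
    obtain ⟨y, hy⟩ := MulAction.exists_smul_eq ↥d.C Q P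
    have h1 : x ^ m ∈ (P : Subgroup ↥d.C) := hP (Subgroup.mem_zpowers _)
    rw [← hy, Sylow.coe_subgroup_smul] at h1
    obtain ⟨s, hs, hse⟩ := h1
    rw [← hse]
    show R.field c.spec (y * s * y⁻¹) = 1
    rw [map_mul, map_mul, c.field_two_trivial R hsd Q.2 (hQ (Subgroup.mem_zpowers u)) hs, mul_one, map_inv,
      mul_inv_cancel]
  rw [map_pow] at hxm
  exact hm.not_two_dvd_nat (hev.trans (orderOf_dvd_of_pow_eq_one hxm))

/-- The second involution of the system as a second involution of the frame. -/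
theorem exists_ctx {d : Frame G} (hd : d.Spec) (h : Hyp G) (hq : 3 < d.q)
    (hOD : ∀ x ∈ d.O, ∀ y ∈ d.D, x * y = y * x) [Fintype (Cz d.z)] {Ω : Type u} [MulAction (Cz d.z) Ω]
    {D : Sys G d.z} (hD : D.Spec Ω) : ∃ g : G, Ctx d g ∧ (D.w : G) = inv2 d g := by
  have hwne : (D.w : G) ≠ d.z := fun e => hD.wZ (by
    rw [show D.w = D.zc from Subtype.ext (e.trans hD.zcv.symm)]; exact hD.zcZ)
  have hw2 : orderOf (D.w : G) = 2 := by
    rw [Subgroup.orderOf_coe]
    exact orderOf_eq_prime ((pow_two _).trans hD.wsq) fun e => hD.wZ (by rw [e]; exact one_mem _)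
  obtain ⟨g, hg⟩ := isConj_iff.1 (h.all_conj d.z (D.w : G) hd.zord hw2)
  refine ⟨g, ⟨h, hd, hq, hOD, ?_, ?_⟩, hg.symm⟩
  · rw [hg]; exact hwne
  · rw [hg]; exact Subgroup.mem_centralizer_singleton_iff.1 D.w.2

/-- **No field part in the semidihedral case.** -/
theorem inner_sd (h : Hyp G) (hd : d.Spec) (hq : 3 < d.q) (hsd : IsQuasiDihedral (d.S : Subgroup G))
    (hOD : ∀ x ∈ d.O, ∀ y ∈ d.D, x * y = y * x)
    (hN : ∀ r : ℕ, r.Prime → r ∣ d.C.index →
      ∀ v ∈ d.C, orderOf v = 2 → ∀ x ∈ d.O, (∃ k : ℕ, x ^ r ^ k = 1) → v * x * v⁻¹ = x⁻¹ → x = 1)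
    (hE : ∀ r : ℕ, r.Prime → r ≠ 2 →
      (∀ v ∈ d.C, orderOf v = 2 → ∀ x ∈ d.O, (∃ k : ℕ, x ^ r ^ k = 1) → v * x * v⁻¹ = x⁻¹ → x = 1) →
      r ∣ GW.Model.qm d.F → (∃ x : ↥d.C, orderOf (R.field hd x) = r) → ¬ r ∣ d.C.index) :
    R.Inner := by
  classical
  haveI := h.simple
  haveI : Fintype (Cz d.z) := Fintype.ofFinite _
  obtain ⟨Ω, iΩ, D, hD, hqc, -, hv2, hZ⟩ := hd.exists_sys h
  haveI : Finite Ω := BrauerOrder.finite_omega hD.core
  obtain ⟨g, c, hw⟩ := exists_ctx hd h hq hOD hD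
  obtain ⟨χ, k, hk, hinj, hpow⟩ := exists_odd_char d.F
  haveI : Finite (RingAut d.F) :=
    Finite.of_injective (fun g : RingAut d.F => (g : d.F → d.F)) DFunLike.coe_injective
  have hodd := c.field_odd R hsd
  set E := (R.field hd).range with hE'
  have hEodd : Odd (Nat.card E) := by
    by_contra hev
    haveI : Fact (Nat.Prime 2) := ⟨Nat.prime_two⟩
    obtain ⟨⟨_, x, rfl⟩, he⟩ := exists_prime_orderOf_dvd_card' (G := ↥E) 2
      (even_iff_two_dvd.1 (Nat.not_odd_iff_even.1 hev))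
    rw [← Subgroup.orderOf_coe] at he
    exact (hodd x).not_two_dvd_nat (he ▸ dvd_rfl)
  have hθ : BrauerTwist.IsField (χ.comp (R.field hd) : Cz d.z →* ℂˣ) (Nat.card E) := by
    refine ⟨FieldTransfer.consistent _ hd.zord (fun w hw => h.all_conj d.z w hd.zord hw)
      (h.field_pairInv R hd hq hOD χ hinj hk hpow), hEodd, fun x => ?_⟩
    show χ (R.field hd x) ^ Nat.card E = 1
    rw [← map_pow]
    have h1 := pow_card_eq_one' (x := (⟨R.field hd x, x, rfl⟩ : ↥E))
    rw [show R.field hd x ^ Nat.card E = 1 from congrArg Subtype.val h1, map_one]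
  have hone := BrauerTwist.eq_one hD h.noncomm hθ fun h2 => by
    have hindex : Odd (Subgroup.centralizer ({d.z} : Set G)).index := by
      haveI : Fact (Nat.Prime 2) := ⟨Nat.prime_two⟩
      have e := Subgroup.index_mul_card (Subgroup.centralizer ({d.z} : Set G))
      rw [← Nat.not_even_iff_odd, even_iff_two_dvd]
      intro hd2
      have := congrArg (padicValNat 2) e
      rw [padicValNat.mul Subgroup.index_ne_zero_of_finite Nat.card_pos.ne'] at this
      have := one_le_padicValNat_of_dvd Subgroup.index_ne_zero_of_finite hd2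
      omega
    refine ⟨hindex, _, c.index_sd R hD hw hqc hsd, fun r hr hrk hrN => ?_⟩
    haveI := Fact.mk hr
    have hr2 : r ≠ 2 := fun e => by subst e; exact hEodd.not_two_dvd_nat hrk
    refine ⟨fun hri => ?_, fun hrQ => ?_⟩
    · obtain ⟨x, hx⟩ := exists_prime_orderOf_dvd_card' r hri
      have hxI := c.mem_invI.1 x.2
      have := hN r hr hrN _ c.inv2_mem c.inv2_order _ hxI.1
        ⟨1, by rw [pow_one, ← hx, ← Subgroup.orderOf_coe, pow_orderOf_eq_one]⟩ hxI.2
      rw [← Subgroup.orderOf_coe, this, orderOf_one] at hx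
      exact hr.ne_one hx.symm
    · have hqm : r ∣ GW.Model.qm d.F := by
        have hf := (four_dvd_sigma hD).1 h2
        rw [Sys.Q, hqc] at hrQ
        rw [hqc] at hf
        have h3 : 3 < d.q := hq
        have hcard : Fintype.card d.F = d.q := hd.card
        rcases hD.core.sgn true with e | e <;> rw [e] at hrQ hf
        · rw [GW.Model.qm, hcard, if_neg (by omega)]
          exact Int.natCast_dvd_natCast.1 (by push_cast; simpa using hrQ)
        · rw [GW.Model.qm, hcard, if_pos (by omega)]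
          refine Int.natCast_dvd_natCast.1 ?_
          rw [Nat.cast_sub (by omega)]
          push_cast
          rw [show (d.q : ℤ) - 1 = -(-1 * (d.q : ℤ) + 1) by ring]
          exact dvd_neg.2 hrQ
      obtain ⟨⟨_, x, rfl⟩, he⟩ := exists_prime_orderOf_dvd_card' (G := ↥E) r hrk
      rw [← Subgroup.orderOf_coe] at he
      exact hE r hr hr2 (hN r hr hrN) hqm ⟨x, he⟩ hrN
  intro x
  refine R.exists_conj_of_field hd hq (hinj _ (hodd x) ?_)
  exact DFunLike.congr_fun hone x

end CfsgLib.RankTwoModel.L4
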