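import Mathlib

/-!
The arithmetic of the semidihedral half of L4: the two equations of `BrauerOrder.data_qd` at a prime `r` with
`v_r(g) = v_r(c)` and `r` dividing the inverted part of the core determine the five degrees up to units congruent
to one.
-/

set_option autoImplicit false
set_option linter.unusedSectionVars false
set_option linter.style.haveILetI false

namespace CfsgLib.RankTwoModel.L4

/-- `X` is `Y` times an `r`-adic unit congruent to one. -/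
def Near (r : ℕ) (X Y : ℤ) : Prop :=
  ∃ k l : ℤ, ¬ (r : ℤ) ∣ k ∧ k * X = Y * (k + r * l)

theorem Near.trans {r : ℕ} [hr : Fact r.Prime] {X Y W : ℤ} (h : Near r X Y) (h' : Near r Y W) : Near r X W := by
  obtain ⟨k, l, hk, e⟩ := h
  obtain ⟨k', l', hk', e'⟩ := h'
  refine ⟨k * k', k * l' + k' * l + r * l * l',
    fun hd => ((Nat.prime_iff_prime_int.1 hr.out).dvd_or_dvd hd).elim hk hk', ?_⟩
  linear_combination k' * e + (k + r * l) * e'

theorem Near.padicVal_eq {r : ℕ} [hr : Fact r.Prime] {X Y : ℤ} (h : Near r X Y) (hY : Y ≠ 0) :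
    X ≠ 0 ∧ padicValInt r X = padicValInt r Y := by
  obtain ⟨k, l, hk, e⟩ := h
  have hk0 : k ≠ 0 := fun e0 => hk (e0 ▸ dvd_zero _)
  have hkl : ¬ (r : ℤ) ∣ k + r * l := fun hd => hk ((dvd_add_left (dvd_mul_right _ _)).1 hd)
  have hkl0 : k + (r : ℤ) * l ≠ 0 := fun e0 => hkl (e0 ▸ dvd_zero _)
  have hX : X ≠ 0 := fun e0 => by
    rw [e0, mul_zero] at e
    exact mul_ne_zero hY hkl0 e.symm
  refine ⟨hX, ?_⟩
  have := congrArg (padicValInt r) e
  rw [padicValInt.mul hk0 hX, padicValInt.mul hY hkl0, padicValInt.eq_zero_of_not_dvd hk,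
    padicValInt.eq_zero_of_not_dvd hkl] at this
  omega

/-- Multiplying by an integer prime to `r`. -/
theorem Near.dvd_iff {r : ℕ} [hr : Fact r.Prime] {X Y : ℤ} (h : Near r X Y) (n : ℕ) :
    (r : ℤ) ^ n ∣ X ↔ (r : ℤ) ^ n ∣ Y := by
  obtain ⟨k, l, hk, e⟩ := h
  have hkl : ¬ (r : ℤ) ∣ k + r * l := fun hd => hk ((dvd_add_left (dvd_mul_right _ _)).1 hd)
  have hp := Nat.prime_iff_prime_int.1 hr.out
  constructor <;> intro hd
  · exact hp.pow_dvd_of_dvd_mul_right n hkl (e ▸ hd.mul_left k)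
  · exact hp.pow_dvd_of_dvd_mul_left n hk (e ▸ hd.mul_right _)

/-- The valuation of `x` from `g x² = c i² Q (Q + 1)³ (x - Q) (x - Q - 1)`, `v_r g = v_r c`. -/
theorem padic_shift {r : ℕ} [hr : Fact r.Prime] {g c i : ℕ} (hg : g ≠ 0) (hc : c ≠ 0) (hi : i ≠ 0) (hri : r ∣ i)
    {Q x : ℤ} (hQ : Q ≠ 0) (hQ1 : Q + 1 ≠ 0) (hB : x - Q ≠ 0) (hA : x - (Q + 1) ≠ 0)
    (hgc : padicValNat r g = padicValNat r c)
    (h : (g : ℤ) * x ^ 2 = (c : ℤ) * (i : ℤ) ^ 2 * Q * (Q + 1) ^ 3 * (x - Q) * (x - (Q + 1))) :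
    x ≠ 0 ∧ padicValInt r x = padicValNat r i + padicValInt r Q + 2 * padicValInt r (Q + 1) := by
  have hp := Nat.prime_iff_prime_int.1 hr.out
  have hg0 : (g : ℤ) ≠ 0 := Int.natCast_ne_zero.2 hg
  have hc0 : (c : ℤ) ≠ 0 := Int.natCast_ne_zero.2 hc
  have hi0 : (i : ℤ) ≠ 0 := Int.natCast_ne_zero.2 hi
  have hx : x ≠ 0 := fun e => by
    subst e
    rw [show (g : ℤ) * 0 ^ 2 = 0 by ring] at h
    exact mul_ne_zero (mul_ne_zero (mul_ne_zero (mul_ne_zero (mul_ne_zero hc0 (pow_ne_zero 2 hi0)) hQ)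
      (pow_ne_zero 3 hQ1)) hB) hA h.symm
  refine ⟨hx, ?_⟩
  have e := congrArg (padicValInt r) h
  have hcube : padicValInt r ((Q + 1) ^ 3) = 3 * padicValInt r (Q + 1) := by
    rw [pow_succ, pow_two, padicValInt.mul (mul_ne_zero hQ1 hQ1) hQ1, padicValInt.mul hQ1 hQ1]
    omega
  rw [padicValInt.mul hg0 (pow_ne_zero 2 hx),
    padicValInt.mul (mul_ne_zero (mul_ne_zero (mul_ne_zero (mul_ne_zero hc0 (pow_ne_zero 2 hi0)) hQ)
      (pow_ne_zero 3 hQ1)) hB) hA,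
    padicValInt.mul (mul_ne_zero (mul_ne_zero (mul_ne_zero hc0 (pow_ne_zero 2 hi0)) hQ)
      (pow_ne_zero 3 hQ1)) hB,
    padicValInt.mul (mul_ne_zero (mul_ne_zero hc0 (pow_ne_zero 2 hi0)) hQ) (pow_ne_zero 3 hQ1), hcube,
    padicValInt.mul (mul_ne_zero hc0 (pow_ne_zero 2 hi0)) hQ, padicValInt.mul hc0 (pow_ne_zero 2 hi0),
    sq, sq, padicValInt.mul hx hx, padicValInt.mul hi0 hi0, padicValInt.of_nat, padicValInt.of_nat,
    padicValInt.of_nat, hgc] at e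
  have ha : 1 ≤ padicValNat r i := one_le_padicValNat_of_dvd hi hri
  set a := padicValNat r i
  set vx := padicValInt r x with hvx
  set vQ := padicValInt r Q with hvQ
  set ve := padicValInt r (Q + 1) with hve
  have hmin : ∀ {y w : ℤ}, y ≠ 0 → w ≠ 0 → y - w ≠ 0 →
      min (padicValInt r y) (padicValInt r w) ≤ padicValInt r (y - w) := by
    intro y w hy hw hyw
    refine ((padicValInt_dvd_iff _ _).1 (dvd_sub ?_ ?_)).resolve_left hyw
    · exact (pow_dvd_pow _ (min_le_left _ _)).trans (padicValInt_dvd _)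
    · exact (pow_dvd_pow _ (min_le_right _ _)).trans (padicValInt_dvd _)
  have hmax : ∀ {y w : ℤ}, y ≠ 0 → w ≠ 0 → y - w ≠ 0 → padicValInt r w < padicValInt r y →
      padicValInt r (y - w) = padicValInt r w := by
    intro y w hy hw hyw hlt
    refine le_antisymm ?_ ((min_eq_right hlt.le) ▸ hmin hy hw hyw)
    by_contra hgt
    have h1 := hmin hy hyw (by rw [sub_sub_cancel]; exact hw)
    rw [sub_sub_cancel] at h1
    omega
  have hone : vQ = 0 ∨ ve = 0 := by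
    by_contra hne
    push Not at hne
    have d1 : (r : ℤ) ∣ Q := (dvd_pow_self _ hne.1).trans (hvQ ▸ padicValInt_dvd Q)
    have d2 : (r : ℤ) ∣ Q + 1 := (dvd_pow_self _ hne.2).trans (hve ▸ padicValInt_dvd (Q + 1))
    exact hp.not_isUnit (isUnit_of_dvd_one ((dvd_add_right d1).1 d2))
  have hlt : vQ < vx ∧ ve < vx := by
    have l1 := hmin hx hQ hB
    have l2 := hmin hx hQ1 hA
    rcases hone with h0 | h0 <;> rw [← hvQ, ← hvx] at l1 <;> rw [← hve, ← hvx] at l2 <;> constructor <;>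
      by_contra hcon <;> push Not at hcon <;> omega
  rw [hmax hx hQ hB hlt.1, hmax hx hQ1 hA hlt.2, ← hvQ, ← hve] at e
  omega

/-- **The degrees at `r`**: `B ≈ -Q`, `1 - B ≈ Q + 1`, `C ≈ -Q`, `-1 - C ≈ Q - 1`, `B - 1 - C ≈ -1`. -/
theorem qd_near {r : ℕ} [hr : Fact r.Prime] {g c w i : ℕ} (hg : g ≠ 0) (hw : w ≠ 0) (hi : i ≠ 0) (hri : r ∣ i)
    {Q B C : ℤ} (hQ : Q ≠ 0) (hQ1 : Q + 1 ≠ 0) (hB : B ≠ 0) (hB1 : B ≠ 1)
    (hidx : c = w * i * (Q * (Q + 1)).natAbs) (hgc : padicValNat r g = padicValNat r c)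
    (hC : C * (Q ^ 2 - B) = Q ^ 2 * (B - 1))
    (hκ : (c : ℤ) ^ 3 * ((Q + 1) * B * (B - 1)) = (g : ℤ) * (w : ℤ) ^ 2 * (Q * (B + Q) ^ 2)) :
    padicValInt r (B + Q) = padicValNat r i + padicValInt r Q + 2 * padicValInt r (Q + 1) ∧
      Near r B (-Q) ∧ Near r (1 - B) (Q + 1) ∧ Near r C (-Q) ∧ Near r (-1 - C) (Q - 1) ∧
      Near r (B - 1 - C) (-1) := by
  have hp := Nat.prime_iff_prime_int.1 hr.out
  have hc : c ≠ 0 := by
    rw [hidx]
    exact mul_ne_zero (mul_ne_zero hw hi) (Int.natAbs_ne_zero.2 (mul_ne_zero hQ hQ1))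
  have hsq : (c : ℤ) ^ 2 = (w : ℤ) ^ 2 * (i : ℤ) ^ 2 * (Q * (Q + 1)) ^ 2 := by
    have : (c : ℤ) = (w : ℤ) * i * |Q * (Q + 1)| := by
      rw [← Int.natCast_natAbs]
      exact_mod_cast hidx
    rw [this]
    linear_combination ((w : ℤ) ^ 2 * (i : ℤ) ^ 2) * sq_abs (Q * (Q + 1))
  set x := B + Q with hxdef
  have heq : (g : ℤ) * x ^ 2 = (c : ℤ) * (i : ℤ) ^ 2 * Q * (Q + 1) ^ 3 * (x - Q) * (x - (Q + 1)) := by
    refine mul_left_cancel₀ (mul_ne_zero (pow_ne_zero 2 (Int.natCast_ne_zero.2 hw)) hQ) ?_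
    rw [hxdef]
    linear_combination -hκ + ((c : ℤ) * (Q + 1) * B * (B - 1)) * hsq
  obtain ⟨hx, hvx⟩ := padic_shift hg hc hi hri hQ hQ1 (by rw [hxdef]; simpa using hB)
    (by rw [hxdef]; intro e; exact hB1 (by linear_combination e)) hgc heq
  refine ⟨hvx, ?_⟩
  obtain ⟨k, j, hk, hkj⟩ : ∃ k j : ℤ, ¬ (r : ℤ) ∣ k ∧ k * x = Q * (Q + 1) * r * j := by
    have hT : Q * (Q + 1) * r ≠ 0 :=
      mul_ne_zero (mul_ne_zero hQ hQ1) (Int.natCast_ne_zero.2 hr.out.ne_zero)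
    obtain ⟨T', hT'⟩ := padicValInt_dvd (p := r) (Q * (Q + 1) * r)
    set m := padicValInt r (Q * (Q + 1) * r) with hm
    have hT0 : T' ≠ 0 := fun e => hT (by rw [hT', e, mul_zero])
    have hndvd : ¬ (r : ℤ) ∣ T' := fun hd => by
      have hdd : (r : ℤ) ^ (m + 1) ∣ Q * (Q + 1) * r := by rw [pow_succ, hT']; exact mul_dvd_mul_left _ hd
      have := ((padicValInt_dvd_iff _ _).1 hdd).resolve_left hT
      omega
    have hmx : m ≤ padicValInt r x := by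
      have e1 : padicValInt r (r : ℤ) = 1 := by rw [padicValInt.of_nat, padicValNat_self]
      rw [hm, padicValInt.mul (mul_ne_zero hQ hQ1) (Int.natCast_ne_zero.2 hr.out.ne_zero), padicValInt.mul hQ hQ1, e1,
        hvx]
      have := one_le_padicValNat_of_dvd (p := r) hi hri
      omega
    obtain ⟨x', hx'⟩ := (pow_dvd_pow (r : ℤ) hmx).trans (padicValInt_dvd _)
    exact ⟨T', x', hndvd, by rw [hT', hx']; ring⟩
  set k' := k - r * j
  have hk' : ¬ (r : ℤ) ∣ k' := fun hd => hk ((dvd_sub_left (dvd_mul_right _ _)).1 hd)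
  have hk0 : k ≠ 0 := fun e0 => hk (e0 ▸ dvd_zero _)
  have hC' : k' * C = -Q * (k' + r * (j * (1 - Q))) := by
    refine mul_left_cancel₀ (mul_ne_zero hQ hQ1) ?_
    linear_combination k * hC + (C + Q ^ 2) * hkj
  refine ⟨⟨k, -((Q + 1) * j), hk, by linear_combination hkj⟩, ⟨k, -(Q * j), hk, by linear_combination -hkj⟩,
    ⟨k', j * (1 - Q), hk', hC'⟩, ⟨k', -(Q * j), hk', by linear_combination -hC'⟩,
    ⟨k * k', Q * (Q + 1) * r * j ^ 2 - 2 * Q * k * j,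
      fun hd => (hp.dvd_or_dvd hd).elim hk hk', ?_⟩⟩
  linear_combination k' * hkj - k * hC'

end CfsgLib.RankTwoModel.L4
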