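import Cfsg.Agent.Lib.RankTwoModel.L4.Fixed
import Cfsg.Agent.Lib.RankTwoModel.L4.W.Setup

/-!
Inputs of the moved case of L4 (blueprint/RankTwo_L45.md, D2).

* `Frame.Spec.exists_sys_core`: Brauer's system with its core the odd core;
* `Ctx.fixed_inf_D`: `D ∩ C_O(u) = 1`; `Ctx.exists_ext`: characters of `C_O(u)` extend to `C`;
* `Ctx.relIndex_two`, `Ctx.card_centU`: the index of `L` and the order of `C(z, u)`.
-/

set_option autoImplicit false
set_option linter.unusedSectionVars false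
set_option linter.style.haveILetI false

namespace CfsgLib.RankTwoModel

open Cfsg CfsgLib.BrauerOrder CfsgLib.GW CfsgLib.BG CfsgLib.RankTwo

universe u

variable {G : Type u} [Group G] [Fintype G]

/-- Brauer's system at a frame, with its core. -/
theorem Frame.Spec.exists_sys_core {d : Frame G} (hd : d.Spec) (h : Hyp G)
    [Fintype ↥(Subgroup.centralizer ({d.z} : Set G))] :
    ∃ (Ω : Type u) (_ : MulAction ↥(Subgroup.centralizer ({d.z} : Set G)) Ω) (D : CfsgLib.BrauerOrder.Sys G d.z),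
      D.core.O = oddCore _ ∧ D.Spec Ω ∧ D.core.q = d.q ∧
        padicValNat 2 (Nat.card G) = padicValNat 2 (Nat.card ↥(Subgroup.centralizer ({d.z} : Set G))) ∧
        (IsQuasiDihedral (d.S : Subgroup G) ∧ Nat.card D.core.Z = 2 ∨
          IsWreathed (d.S : Subgroup G) ∧ 4 ≤ Nat.card D.core.Z) := by
  haveI := h.simple
  haveI := Fact.mk hd.prime
  obtain ⟨e⟩ := hd.sl
  obtain ⟨Ω, i, D, hO, hD, hq, -, hv, hZ⟩ := CfsgLib.BrauerOrder.exists_sys_core h.noncomm d.S hd.qw d.z hd.zord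
    hd.zS hd.zc d.U hd.US hd.klein hd.Un hd.podd d.n hd.npos d.F hd.card ⟨_, inferInstance, ⟨e⟩⟩
  exact ⟨Ω, i, D, hO, hD, hq, hv, hZ⟩

/-- An element of `C` is in the core of the system iff it is in the core of the frame. -/
theorem mem_core_iff {d : Frame G} {D : CfsgLib.BrauerOrder.Sys G d.z} (hO : D.core.O = oddCore _)
    (x : ↥(Subgroup.centralizer ({d.z} : Set G))) : x ∈ D.core.O ↔ (x : G) ∈ d.O := by
  rw [hO]
  exact ⟨fun h => ⟨x, h, rfl⟩, fun ⟨y, hy, e⟩ => by rwa [← Subtype.ext e]⟩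

namespace L4

variable {d : Frame G} {g : G} (c : Ctx d g)
include c

/-- `D ∩ C_O(u) = 1` when the core is not centralised. -/
theorem Ctx.fixed_inf_D (hI : invI d (inv2 d g) ≠ ⊥) {k : G} (hk : k ∈ d.O)
    (hku : k * inv2 d g = inv2 d g * k) (hkD : k ∈ d.D) : k = 1 := by
  by_contra hk1
  refine hI ((Subgroup.eq_bot_iff_forall _).2 fun i hi => c.fpf hk hku hk1 hi ?_)
  exact (c.od i (c.invI_le hi) k hkD).symm

/-- `D ∩ O` is inverted by the second involution. -/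
theorem Ctx.D_inf_O_le (hI : invI d (inv2 d g) ≠ ⊥) {y : G} (hy : y ∈ d.O) (hyD : y ∈ d.D) :
    y ∈ invI d (inv2 d g) := by
  obtain ⟨f, hf, hfu, i, hi, e⟩ := c.fixed_mul_invI hy
  have h2 : inv2 d g * y * (inv2 d g)⁻¹ = f * i⁻¹ := by
    rw [e, show inv2 d g * (f * i) * (inv2 d g)⁻¹ = (inv2 d g * f * (inv2 d g)⁻¹) * (inv2 d g * i * (inv2 d g)⁻¹) by
      group, c.invI_inv hi, ← hfu, mul_inv_cancel_right]
  have hDc : inv2 d g * y * (inv2 d g)⁻¹ ∈ d.D := by
    haveI := d.D_perfect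
    haveI : Group.IsPerfect (d.D.map (MulAut.conj (inv2 d g)).toMonoidHom) := Group.IsPerfect.map _
    have hle : d.D.map (MulAut.conj (inv2 d g)).toMonoidHom ≤ d.C := by
      rintro _ ⟨x, hx, rfl⟩
      exact mul_mem (mul_mem c.inv2_mem (d.D_le hx)) (inv_mem c.inv2_mem)
    exact d.le_D hle ⟨y, hyD, rfl⟩
  have hii : i * i ∈ d.D := by
    have hm : (f * i⁻¹)⁻¹ * (f * i) ∈ d.D := mul_mem (inv_mem (h2 ▸ hDc)) (e ▸ hyD)
    rwa [show (f * i⁻¹)⁻¹ * (f * i) = i * i by group] at hm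
  have hiD : i ∈ d.D := by
    obtain ⟨j, hj⟩ := c.invI_odd.of_dvd_nat (Subgroup.orderOf_dvd_natCard _ hi)
    have e1 : (i * i) ^ (j + 1) = i := by
      rw [← pow_two, ← pow_mul, show 2 * (j + 1) = orderOf i + 1 by omega, pow_succ, pow_orderOf_eq_one, one_mul]
    exact e1 ▸ pow_mem hii _
  have hfD : f ∈ d.D := by
    rw [show f = y * i⁻¹ by rw [e, mul_inv_cancel_right]]
    exact mul_mem hyD (inv_mem hiD)
  rw [e, c.fixed_inf_D hI hf hfu hfD, one_mul]
  exact hi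

variable (R : Rep d)
include R

/-- `L` has index two in `C` when no element has a field part. -/
theorem Ctx.relIndex_two (hsd : IsQuasiDihedral (d.S : Subgroup G)) (hin : R.Inner) : d.L.relIndex d.C = 2 := by
  have huL : inv2 d g ∉ d.L := c.spec.invol_not_mem c.inv2_order c.inv2_ne
  refine Subgroup.index_eq_two_iff.2 ⟨⟨inv2 d g, c.inv2_mem⟩, fun b => ?_⟩
  rw [Subgroup.mem_subgroupOf, Subgroup.mem_subgroupOf]
  obtain ⟨k, hk⟩ := hin b
  have hf : R.field c.spec ⟨b, b.2⟩ = 1 := R.field_eq c.spec (g := k) (e := RingEquiv.refl d.F) fun A => by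
    rw [hk, show A.1.map (RingEquiv.refl d.F) = A.1 from Matrix.ext fun _ _ => rfl]
  rcases c.mem_L_or R hsd b.2 hf with hb | hb
  · exact Or.inr ⟨hb, fun h => huL ((Subgroup.mul_mem_cancel_left _ hb).1 h)⟩
  · exact Or.inl ⟨hb, fun h => huL ((Subgroup.mul_mem_cancel_left _ h).1 hb)⟩

/-- The order of `C(z, u)`. -/
theorem Ctx.card_centU [Fintype (Cz d.z)] {Ω : Type u} [MulAction (Cz d.z) Ω] {D : Sys G d.z} (hD : D.Spec Ω)
    (hw : (D.w : G) = inv2 d g) (hqc : D.core.q = d.q) (hsd : IsQuasiDihedral (d.S : Subgroup G))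
    (hin : R.Inner) :
    Nat.card (Subgroup.centralizer ({(D.w : G), d.z} : Set G)) =
      2 * (D.Q - 1).natAbs * Nat.card ↥(d.O ⊓ Subgroup.centralizer ({inv2 d g} : Set G)) := by
  set a := Nat.card ↥(d.O ⊓ Subgroup.centralizer ({inv2 d g} : Set G)) with ha
  set i := Nat.card (invI d (inv2 d g)) with hi
  have hL := c.card_L R hD hw hqc
  have hC := c.index_sd R hD hw hqc hsd
  have hcard := card_L_core R c.spec
  have hrel := c.relIndex_two R hsd hin
  have hmul : Nat.card d.L * d.L.relIndex d.C = Nat.card d.C := by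
    rw [← Subgroup.relIndex_bot_left, ← Subgroup.relIndex_bot_left,
      Subgroup.relIndex_mul_relIndex _ _ _ bot_le d.L_le]
  rw [hrel] at hmul
  rw [c.card_core, ← ha, ← hi] at hcard
  rw [show Nat.card (Cz d.z) = Nat.card d.C from rfl, ← hmul, hcard] at hC
  have hq : 3 < d.q := c.hq
  obtain ⟨hQ, hQ1, -⟩ := Q_facts hD
  have hq1 : 1 ≤ d.q ^ 2 := Nat.one_le_pow _ _ (by omega)
  have hf : d.q * (d.q ^ 2 - 1) = (D.Q - 1).natAbs * (D.Q * (D.Q + 1)).natAbs := by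
    rw [← Int.natAbs_mul, Sys.Q, hqc]
    apply Nat.cast_injective (R := ℤ)
    push_cast
    rw [Nat.cast_sub hq1]
    push_cast
    have hpos : (0 : ℤ) ≤ (d.q : ℤ) * ((d.q : ℤ) ^ 2 - 1) :=
      mul_nonneg (by positivity) (by have : (1 : ℤ) ≤ (d.q : ℤ) ^ 2 := by exact_mod_cast hq1
                                     linarith)
    rcases hD.core.sgn true with e | e <;> rw [e]
    · rw [abs_of_nonneg (by nlinarith)]; ring
    · rw [abs_of_nonpos (by nlinarith)]; ring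
  have hi0 : i ≠ 0 := Nat.card_pos.ne'
  have hQ0 : (D.Q * (D.Q + 1)).natAbs ≠ 0 := by
    rw [Ne, Int.natAbs_eq_zero]
    exact mul_ne_zero (by exact_mod_cast hQ) (by exact_mod_cast hQ1)
  refine Nat.eq_of_mul_eq_mul_right (Nat.pos_of_ne_zero (mul_ne_zero hi0 hQ0)) ?_
  rw [← mul_assoc, ← hC, hf]
  ring

/-- **Characters of `C_O(u)` extend to `C`.** -/
theorem Ctx.exists_ext (hsd : IsQuasiDihedral (d.S : Subgroup G)) (hin : R.Inner)
    (hI : invI d (inv2 d g) ≠ ⊥) (φ : ↥(d.O ⊓ Subgroup.centralizer ({inv2 d g} : Set G)) →* ℂˣ) :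
    ∃ θ : ↥d.C →* ℂˣ, ∀ (x : ↥d.C) (x' : ↥(d.O ⊓ Subgroup.centralizer ({inv2 d g} : Set G))),
      (x : G) = x' → θ x = φ x' := by
  classical
  have hIC : invI d (inv2 d g) ≤ d.C := c.invI_le.trans d.O_le
  haveI : (invI d (inv2 d g)).subgroupOf d.C |>.Normal := ⟨fun x hx y => c.normal_I y.2 hx⟩
  haveI : (d.D.subgroupOf d.C).Normal := by
    refine ⟨fun x hx y => ?_⟩
    haveI := d.D_perfect
    haveI : Group.IsPerfect (d.D.map (MulAut.conj (y : G)).toMonoidHom) := Group.IsPerfect.map _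
    have hle : d.D.map (MulAut.conj (y : G)).toMonoidHom ≤ d.C := by
      rintro _ ⟨a, ha, rfl⟩
      exact mul_mem (mul_mem y.2 (d.D_le ha)) (inv_mem y.2)
    exact Subgroup.mem_subgroupOf.2 (d.le_D hle ⟨x, hx, rfl⟩)
  set N : Subgroup ↥d.C := d.D.subgroupOf d.C ⊔ (invI d (inv2 d g)).subgroupOf d.C with hN
  haveI : N.Normal := inferInstance
  set π := QuotientGroup.mk' N with hπ
  -- the quotient is the image of an abelian group
  have hsurj : ∀ b : ↥d.C, ∃ a : ↥d.C, (a : G) ∈ centU d g ∧ π a = π b := by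
    intro b
    obtain ⟨l, hl, hlb⟩ := c.exists_L_mul R hsd b.2
    obtain ⟨y, hy, hyl⟩ := c.spec.L_cover c.hq hl
    obtain ⟨f, hf, hfu, i, hi, e⟩ := c.fixed_mul_invI hyl
    have hiC := hIC hi
    have hyC := d.D_le hy
    have hfC := d.O_le hf
    have hlbC : l * (b : G) ∈ d.C := mul_mem (d.L_le hl) b.2
    refine ⟨⟨f⁻¹ * (l * b), mul_mem (inv_mem hfC) hlbC⟩, mem_centU.2 ⟨mul_mem (inv_mem hfC) hlbC,
      ((show Commute f (inv2 d g) from hfu).inv_left.mul_left hlb).eq⟩, ?_⟩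
    rw [← inv_mul_eq_one, ← map_inv, ← map_mul, QuotientGroup.mk'_apply, QuotientGroup.eq_one_iff]
    have he : l = y * (f * i) := by rw [← e, mul_inv_cancel_left]
    set fb : ↥d.C := ⟨f, hfC⟩ * b with hfb
    have : ((⟨f⁻¹ * (l * b), mul_mem (inv_mem hfC) hlbC⟩ : ↥d.C)⁻¹ * b : ↥d.C) =
        (b⁻¹ * ⟨i⁻¹, inv_mem hiC⟩ * b⁻¹⁻¹) * (fb⁻¹ * ⟨y⁻¹, inv_mem hyC⟩ * fb⁻¹⁻¹) := by
      refine Subtype.ext ?_
      show (f⁻¹ * (l * b))⁻¹ * (b : G) =
        ((b : G)⁻¹ * i⁻¹ * (b : G)⁻¹⁻¹) * ((f * b)⁻¹ * y⁻¹ * (f * (b : G))⁻¹⁻¹)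
      rw [he]
      group
    rw [this]
    exact mul_mem
      (Subgroup.mem_sup_right (Subgroup.Normal.conj_mem inferInstance _ (Subgroup.mem_subgroupOf.2 (inv_mem hi)) b⁻¹))
      (Subgroup.mem_sup_left (Subgroup.Normal.conj_mem inferInstance _ (Subgroup.mem_subgroupOf.2 (inv_mem hy)) fb⁻¹))
  have hab : ∀ p p' : ↥d.C ⧸ N, p * p' = p' * p := by
    intro p p'
    obtain ⟨b, rfl⟩ := QuotientGroup.mk'_surjective N p
    obtain ⟨b', rfl⟩ := QuotientGroup.mk'_surjective N p'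
    obtain ⟨a, ha, ea⟩ := hsurj b
    obtain ⟨a', ha', ea'⟩ := hsurj b'
    show π b * π b' = π b' * π b
    rw [← ea, ← ea', ← map_mul, ← map_mul, show a * a' = a' * a from Subtype.ext (c.cent_comm R hsd hin ha ha')]
  letI : CommGroup (↥d.C ⧸ N) := { (inferInstance : Group (↥d.C ⧸ N)) with mul_comm := hab }
  -- `C_O((inv2 d g))` embeds
  have hKC : (d.O ⊓ Subgroup.centralizer ({inv2 d g} : Set G)) ≤ d.C := inf_le_left.trans d.O_le
  let j : ↥(d.O ⊓ Subgroup.centralizer ({inv2 d g} : Set G)) →* ↥d.C ⧸ N := π.comp (Subgroup.inclusion hKC)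
  have hj : Function.Injective j := by
    rw [injective_iff_map_eq_one]
    intro k hk
    have hk' : Subgroup.inclusion hKC k ∈ N := (QuotientGroup.eq_one_iff _).1 hk
    obtain ⟨y, hy, i, hi, e⟩ := Subgroup.mem_sup_of_normal_right.1 hk'
    have e' : (y : G) * (i : G) = (k : G) := congrArg Subtype.val e
    have hiI : (i : G) ∈ invI d (inv2 d g) := hi
    have hyO : (y : G) ∈ d.O := by
      rw [eq_mul_inv_iff_mul_eq.2 e']
      exact mul_mem k.2.1 (inv_mem (c.invI_le hiI))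
    have hkI : (k : G) ∈ invI d (inv2 d g) := e' ▸ mul_mem (c.D_inf_O_le hI hyO hy) hiI
    refine Subtype.ext (eq_one_of_sq_odd ?_ (c.invI_odd.of_dvd_nat (Subgroup.orderOf_dvd_natCard _ hkI)))
    have h1 := c.invI_inv hkI
    rw [← Subgroup.mem_centralizer_singleton_iff.1 k.2.2, mul_inv_cancel_right] at h1
    exact mul_eq_one_iff_eq_inv.2 h1
  let φ' : ↥j.range →* ℂˣ := φ.comp (MonoidHom.ofInjective hj).symm.toMonoidHom
  obtain ⟨Φ, hΦ⟩ := MonoidHom.domRestrict_surjective ℂ j.range φ'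
  refine ⟨Φ.comp π, fun x x' e => ?_⟩
  have hx : π x = j x' := congrArg π (Subtype.ext e)
  have h1 : Φ (j x') = φ' ⟨j x', x', rfl⟩ := by rw [← hΦ]; rfl
  rw [MonoidHom.comp_apply, hx, h1]
  have e1 : (MonoidHom.ofInjective hj).symm ⟨j x', x', rfl⟩ = x' :=
    (MonoidHom.ofInjective hj).injective ((MulEquiv.apply_symm_apply _ _).trans (Subtype.ext rfl))
  exact congrArg φ e1

end L4

end CfsgLib.RankTwoModel
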