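import Cfsg.Agent.Lib.RankTwoModel.L4.Inner
import Cfsg.Agent.Lib.RankTwo.PairElem
import Mathlib.GroupTheory.FiniteAbelian.Duality

/-!
The fixed part of the core in the semidihedral case of L4 (blueprint/RankTwo_L45.md, D3).

* `Ctx.cent_comm`: `C(z, u)` is abelian when no element has a field part;
* `Ctx.exists_three`: a three-cycle of the four group;
* `Ctx.fixed_trivial`: `C_O(u) = 1` when no character of `C(z, u)` of odd order has a regular orbit under the
  automiser of the four group.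
-/

set_option autoImplicit false
set_option linter.unusedSectionVars false
set_option linter.style.haveILetI false

namespace CfsgLib.RankTwoModel.L4

open Cfsg CfsgLib.BrauerOrder CfsgLib.GW CfsgLib.BG CfsgLib.RankTwo

universe u

variable {G : Type u} [Group G] [Fintype G] {d : Frame G} {g : G}

/-- The centraliser of the four group, as a subgroup of `C`. -/
def centU (d : Frame G) (g : G) : Subgroup G := d.C ⊓ Subgroup.centralizer ({inv2 d g} : Set G)

theorem mem_centU {x : G} : x ∈ centU d g ↔ x ∈ d.C ∧ x * inv2 d g = inv2 d g * x :=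
  and_congr_right fun _ => Subgroup.mem_centralizer_singleton_iff

/-- A three-cycle of the four group. -/
theorem Ctx.exists_three (c : Ctx d g) : ∃ g' : G, Ctx d g' ∧ inv2 d g' = inv2 d g ∧
    g' * inv2 d g * g'⁻¹ = d.z * inv2 d g ∧ g' * (d.z * inv2 d g) * g'⁻¹ = d.z := by
  set u := inv2 d g with hu
  have hzz : d.z * d.z = 1 := invol_mul_self c.spec.zord
  have huu : u * u = 1 := invol_mul_self c.inv2_order
  have hzu : d.z * u = u * d.z := c.hcm.symm
  obtain ⟨w, hwD, hwu⟩ := c.hyp.swap_D c.spec c.hq c.inv2_mem c.inv2_order c.inv2_ne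
  have hwz : w * d.z * w⁻¹ = d.z := by
    rw [Frame.Spec.z_central (d.D_le hwD), mul_inv_cancel_right]
  have m := c.mirror
  have hzm := m.inv2_mem
  have hz2 := m.inv2_order
  rw [c.mirror_inv2] at hzm hz2
  obtain ⟨w', hw'D, hw'⟩ := m.hyp.swap_D m.spec m.hq hzm hz2 (fun e => c.hne e.symm)
  replace hw' : w' * d.z * w'⁻¹ = u * d.z := hw'
  have hw'u : w' * u * w'⁻¹ = u := by
    have h1 : w' * u = u * w' := Frame.Spec.z_central ((d.cj g).D_le hw'D)
    rw [h1, mul_inv_cancel_right]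
  have e1 : w * w' * d.z * (w * w')⁻¹ = u := by
    calc w * w' * d.z * (w * w')⁻¹ = w * (w' * d.z * w'⁻¹) * w⁻¹ := by group
      _ = (w * u * w⁻¹) * (w * d.z * w⁻¹) := by rw [hw']; group
      _ = u := by rw [hwu, hwz, hzu, mul_assoc, hzz, mul_one]
  have e2 : w * w' * u * (w * w')⁻¹ = d.z * u := by
    calc w * w' * u * (w * w')⁻¹ = w * (w' * u * w'⁻¹) * w⁻¹ := by group
      _ = d.z * u := by rw [hw'u, hwu]
  refine ⟨w * w', ⟨c.hyp, c.spec, c.hq, c.od, ?_, ?_⟩, e1, e2, ?_⟩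
  · rw [e1]; exact c.inv2_ne
  · rw [e1]; exact c.hcm
  · calc w * w' * (d.z * u) * (w * w')⁻¹ = (w * w' * d.z * (w * w')⁻¹) * (w * w' * u * (w * w')⁻¹) := by group
      _ = d.z := by rw [e1, e2, hzu, ← mul_assoc, huu, one_mul]

variable (c : Ctx d g) (R : Rep d)
include c R

/-- **The centraliser of the four group is abelian.** -/
theorem Ctx.cent_comm (hsd : IsQuasiDihedral (d.S : Subgroup G)) (hin : R.Inner) {x y : G}
    (hx : x ∈ centU d g) (hy : y ∈ centU d g) : x * y = y * x := by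
  classical
  have hd := c.spec
  have hq := c.hq
  have h := c.hyp
  set u := inv2 d g with hu
  -- the commutator is without matrix at both frames
  set v := g⁻¹ * d.z * g with hv
  have hcar : ∀ k ∈ d.C, k * u = u * k → g⁻¹ * k * g ∈ d.C ∧ (g⁻¹ * k * g) * v = v * (g⁻¹ * k * g) :=
    fun k hk hku => by
      refine ⟨?_, ?_⟩
      · exact Subgroup.mem_centralizer_singleton_iff.2 (by
          calc g⁻¹ * k * g * d.z = g⁻¹ * (k * (g * d.z * g⁻¹)) * g := by group
            _ = g⁻¹ * (g * d.z * g⁻¹ * k) * g := by rw [show g * d.z * g⁻¹ = u from rfl, hku]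
            _ = d.z * (g⁻¹ * k * g) := by group)
      · have e := Frame.Spec.z_central hk
        rw [hv]
        calc g⁻¹ * k * g * (g⁻¹ * d.z * g) = g⁻¹ * (k * d.z) * g := by group
          _ = g⁻¹ * (d.z * k) * g := by rw [e]
          _ = _ := by group
  have hvC : v ∈ d.C := Subgroup.mem_centralizer_singleton_iff.2 (by
    calc g⁻¹ * d.z * g * d.z = g⁻¹ * (d.z * (g * d.z * g⁻¹)) * g := by group
      _ = g⁻¹ * (g * d.z * g⁻¹ * d.z) * g := by rw [c.hcm]
      _ = d.z * (g⁻¹ * d.z * g) := by group)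
  have hv2 : orderOf v = 2 := by rw [hv]; simpa using (orderOf_cj g⁻¹ d.z).trans hd.zord
  have hvz : v ≠ d.z := fun e => c.hne (by
    calc g * d.z * g⁻¹ = g * v * g⁻¹ := by rw [e]
      _ = d.z := by rw [hv]; group)
  have key : ∀ (w : G) (hwC : w ∈ d.C), orderOf w = 2 → w ≠ d.z → ∀ (a b : G) (ha : a ∈ d.C) (hb : b ∈ d.C),
      a * w = w * a → b * w = w * b → R.σ ⟨a * b * a⁻¹ * b⁻¹,
        mul_mem (mul_mem (mul_mem ha hb) (inv_mem ha)) (inv_mem hb)⟩ = 1 := by
    intro w hwC hw2 hwz a b ha hb haw hbw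
    obtain ⟨g₀, -, hns, hg₀⟩ := R.invol hd hq h hwC hw2 hwz
    obtain ⟨k, hk⟩ := hin ⟨a, ha⟩
    obtain ⟨m, hm⟩ := hin ⟨b, hb⟩
    have hcom := SL2.commute_conj_torus hns (R.commute_of_comm hd hq h ha hwC haw hk hg₀)
      (R.commute_of_comm hd hq h hb hwC hbw hm hg₀) hk hm
    rw [show (⟨a * b * a⁻¹ * b⁻¹, _⟩ : ↥d.C) = ⟨a, ha⟩ * ⟨b, hb⟩ * ⟨a, ha⟩⁻¹ * ⟨b, hb⟩⁻¹ from rfl,
      map_mul, map_mul, map_mul, map_inv, map_inv, hcom, mul_inv_cancel_right, mul_inv_cancel]
  obtain ⟨hxC, hxu⟩ := mem_centU.1 hx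
  obtain ⟨hyC, hyu⟩ := mem_centU.1 hy
  obtain ⟨hx', hx'v⟩ := hcar x hxC hxu
  obtain ⟨hy', hy'v⟩ := hcar y hyC hyu
  set e := x * y * x⁻¹ * y⁻¹ with he
  obtain ⟨o, ho, h1⟩ := R.sigma_kernel hd hq h hsd
    (mul_mem (mul_mem (mul_mem hxC hyC) (inv_mem hxC)) (inv_mem hyC))
    (key u c.inv2_mem c.inv2_order c.inv2_ne x y hxC hyC hxu hyu)
  obtain ⟨o', ho', h2⟩ := R.sigma_kernel hd hq h hsd
    (mul_mem (mul_mem (mul_mem hx' hy') (inv_mem hx')) (inv_mem hy'))
    (key v hvC hv2 hvz _ _ hx' hy' hx'v hy'v)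
  have hege : g⁻¹ * x * g * (g⁻¹ * y * g) * (g⁻¹ * x * g)⁻¹ * (g⁻¹ * y * g)⁻¹ = g⁻¹ * e * g := by
    rw [he]; group
  rw [hege] at h2
  have hpw : ∀ a : G, a * a = 1 → ∀ n : ℕ, Odd n → a ^ n = a := fun a ha n ⟨k, hk⟩ => by
    rw [hk, pow_succ, pow_mul, pow_two, ha, one_pow, one_mul]
  have hN := d.O_odd
  have hp1 : ∀ {a : G}, a ∈ d.O → a ^ Nat.card d.O = 1 := fun {a} ha =>
    orderOf_dvd_iff_pow_eq_one.1 (Subgroup.orderOf_dvd_natCard _ ha)
  have hu1 : u ≠ 1 := fun e1 => by have := c.inv2_order; rw [← hu, e1, orderOf_one] at this; norm_num at this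
  have hz1 : d.z ≠ 1 := fun e1 => by have := hd.zord; rw [e1, orderOf_one] at this; norm_num at this
  have hzz : d.z * d.z = 1 := invol_mul_self hd.zord
  have hpz : ∀ {a : G}, a ∈ d.O → (d.z * a) ^ Nat.card d.O = d.z := fun {a} ha => by
    rw [(show Commute d.z a from (Frame.Spec.z_central (d.O_le ha)).symm).mul_pow, hp1 ha, mul_one,
      hpw _ hzz _ hN]
  have hpow : (g⁻¹ * e * g) ^ Nat.card d.O = g⁻¹ * e ^ Nat.card d.O * g := by
    have := conj_pow (i := Nat.card d.O) (a := g⁻¹) (b := e)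
    rwa [inv_inv] at this
  have heO : e ∈ d.O ∧ g⁻¹ * e * g ∈ d.O := by
    rcases h1 with h1 | h1 <;> rcases h2 with h2 | h2
    · exact ⟨by rw [← he] at h1; exact h1 ▸ ho, h2 ▸ ho'⟩
    all_goals exfalso; rw [← he] at h1
    · rw [h2, hpz ho', h1, hp1 ho, mul_one, inv_mul_cancel] at hpow
      exact hz1 hpow
    · rw [h2, hp1 ho', h1, hpz ho] at hpow
      exact hz1 (by simpa [mul_assoc] using congrArg (fun a => g * a * g⁻¹) hpow.symm)
    · rw [h2, hpz ho', h1, hpz ho] at hpow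
      exact c.inv2_ne (by
        show g * d.z * g⁻¹ = d.z
        nth_rewrite 1 [hpow]
        group)
  have h1 := h.core_meet hd hq c.od c.hne c.hcm heO.1 heO.2
  rw [he, mul_inv_eq_one, mul_inv_eq_iff_eq_mul] at h1
  exact h1

omit c R in
/-- The four group of the frame and its second involution, as a set. -/
def Four (d : Frame G) (g : G) (p : G) : Prop := p = d.z ∨ p = inv2 d g ∨ p = d.z * inv2 d g

omit c R in
/-- One of three elements of a progression avoids two values. -/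
theorem pick {a b a' b' : ℂˣ} (ha : a ≠ 1) (ha2 : a * a ≠ 1) (hb : b ≠ 1) (hb2 : b * b ≠ 1) :
    ∃ i : ℕ, a ^ i * a' ≠ 1 ∧ b ^ i * b' ≠ 1 := by
  by_contra hcon
  push Not at hcon
  have key : ∀ {x x' : ℂˣ}, x ≠ 1 → x * x ≠ 1 → ∀ i j : ℕ, i < j → j < 3 → x ^ i * x' = 1 → x ^ j * x' = 1 → False := by
    intro x x' hx hx2 i j hij hj e1 e2
    have h := mul_right_cancel (e1.trans e2.symm)
    obtain ⟨rfl, rfl⟩ | ⟨rfl, rfl⟩ | ⟨rfl, rfl⟩ : (i = 0 ∧ j = 1) ∨ (i = 0 ∧ j = 2) ∨ (i = 1 ∧ j = 2) := by omega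
    · exact hx (by simpa using h.symm)
    · exact hx2 (by simpa [pow_two] using h.symm)
    · exact hx (mul_left_cancel (a := x) (by simpa [pow_two] using h.symm))
  rcases eq_or_ne (a ^ 0 * a') 1 with h0 | h0
  · rcases eq_or_ne (a ^ 1 * a') 1 with h1 | h1
    · exact key ha ha2 0 1 (by omega) (by omega) h0 h1
    · rcases eq_or_ne (a ^ 2 * a') 1 with h2 | h2
      · exact key ha ha2 0 2 (by omega) (by omega) h0 h2
      · exact key hb hb2 1 2 (by omega) (by omega) (hcon 1 h1) (hcon 2 h2)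
  · rcases eq_or_ne (a ^ 1 * a') 1 with h1 | h1
    · rcases eq_or_ne (a ^ 2 * a') 1 with h2 | h2
      · exact key ha ha2 1 2 (by omega) (by omega) h1 h2
      · exact key hb hb2 0 2 (by omega) (by omega) (hcon 0 h0) (hcon 2 h2)
    · exact key hb hb2 0 1 (by omega) (by omega) (hcon 0 h0) (hcon 1 h1)

omit c R in
/-- A character of odd order separating three elements of odd order. -/
theorem exists_sep {A : Type*} [CommGroup A] [Finite A] {a b e : A} (ha : a ≠ 1) (hb : b ≠ 1) (he : e ≠ 1)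
    (oa : Odd (orderOf a)) (ob : Odd (orderOf b)) (oe : Odd (orderOf e)) :
    ∃ φ : A →* ℂˣ, (∃ k, Odd k ∧ ∀ x, φ x ^ k = 1) ∧ φ a ≠ 1 ∧ φ b ≠ 1 ∧ φ e ≠ 1 := by
  classical
  obtain ⟨j, k, hk, hn⟩ := Nat.exists_eq_two_pow_mul_odd (Nat.card_pos (α := A)).ne'
  have one : ∀ {x : A}, x ≠ 1 → Odd (orderOf x) → ∃ φ : A →* ℂˣ, (∀ y, φ y ^ k = 1) ∧ φ x ≠ 1 := by
    intro x hx ox
    have h2 : x ^ 2 ^ j ≠ 1 := fun e' => hx (orderOf_eq_one_iff.1
      (Nat.eq_one_of_dvd_coprimes ((Nat.coprime_two_left.2 ox).pow_left j) (orderOf_dvd_of_pow_eq_one e') dvd_rfl))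
    obtain ⟨φ, hφ⟩ := CommGroup.exists_apply_ne_one_of_hasEnoughRootsOfUnity A ℂ h2
    refine ⟨φ ^ 2 ^ j, fun y => ?_, ?_⟩
    · rw [MonoidHom.pow_apply, ← pow_mul, ← hn, ← map_pow, pow_card_eq_one', map_one]
    · rwa [MonoidHom.pow_apply, ← map_pow]
  have sq : ∀ {φ : A →* ℂˣ} {x : A}, (∀ y, φ y ^ k = 1) → φ x ≠ 1 → φ x * φ x ≠ 1 := fun {φ x} hφ hx e' =>
    hx (orderOf_eq_one_iff.1 (Nat.eq_one_of_dvd_coprimes (Nat.coprime_two_left.2 hk)
      (orderOf_dvd_of_pow_eq_one ((pow_two _).trans e')) (orderOf_dvd_of_pow_eq_one (hφ x))))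
  have mul : ∀ {φ χ : A →* ℂˣ}, (∀ y, φ y ^ k = 1) → (∀ y, χ y ^ k = 1) → ∀ i : ℕ,
      ∀ y, (φ ^ i * χ) y ^ k = 1 := fun {φ χ} hφ hχ i y => by
    rw [MonoidHom.mul_apply, MonoidHom.pow_apply, mul_pow, ← pow_mul, mul_comm i, pow_mul, hφ, one_pow, hχ, one_mul]
  obtain ⟨φ, hφ, fa, fb⟩ : ∃ φ : A →* ℂˣ, (∀ y, φ y ^ k = 1) ∧ φ a ≠ 1 ∧ φ b ≠ 1 := by
    obtain ⟨φ, hφ, fa⟩ := one ha oa
    by_cases fb : φ b = 1
    · obtain ⟨χ, hχ, xb⟩ := one hb ob
      obtain ⟨i, hi, -⟩ := pick (a' := χ a) (b' := 1) fa (sq hφ fa) fa (sq hφ fa)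
      exact ⟨φ ^ i * χ, mul hφ hχ i, by rwa [MonoidHom.mul_apply, MonoidHom.pow_apply],
        by rwa [MonoidHom.mul_apply, MonoidHom.pow_apply, fb, one_pow, one_mul]⟩
    · exact ⟨φ, hφ, fa, fb⟩
  by_cases fe : φ e = 1
  · obtain ⟨χ, hχ, xe⟩ := one he oe
    obtain ⟨i, hi, hi'⟩ := pick (a' := χ a) (b' := χ b) fa (sq hφ fa) fb (sq hφ fb)
    exact ⟨φ ^ i * χ, ⟨k, hk, mul hφ hχ i⟩, by rwa [MonoidHom.mul_apply, MonoidHom.pow_apply],
      by rwa [MonoidHom.mul_apply, MonoidHom.pow_apply],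
      by rwa [MonoidHom.mul_apply, MonoidHom.pow_apply, fe, one_pow, one_mul]⟩
  · exact ⟨φ, ⟨k, hk, hφ⟩, fa, fb, fe⟩

/-- **`C_O(u) = 1`**, when no character of `C(z, u)` of odd order has a regular orbit under the automiser of the
four group. -/
theorem Ctx.fixed_trivial (hsd : IsQuasiDihedral (d.S : Subgroup G)) (hin : R.Inner)
    (hfalse : ∀ φ : ↥(centU d g) →* ℂˣ, (∃ k, Odd k ∧ ∀ x, φ x ^ k = 1) →
      (∀ g' : G, (∀ p, Four d g p → Four d g (g' * p * g'⁻¹)) → g' ∉ centU d g →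
        ∃ x x' : ↥(centU d g), (x' : G) = g' * x * g'⁻¹ ∧ φ x' ≠ φ x) → False)
    {x : G} (hx : x ∈ d.O) (hxu : x * inv2 d g = inv2 d g * x) : x = 1 := by
  classical
  by_contra hx1
  obtain ⟨s, c', hs', hsu, hszu⟩ := c.exists_three
  set u := inv2 d g with hu
  have hsz : s * d.z * s⁻¹ = u := hs'
  set A := centU d g with hA
  letI : CommGroup ↥A :=
    { (inferInstance : Group ↥A) with
      mul_comm := fun a b => Subtype.ext (c.cent_comm R hsd hin a.2 b.2) }
  have hzz : d.z * d.z = 1 := invol_mul_self c.spec.zord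
  have hzu : d.z * u = u * d.z := c.hcm.symm
  have hxz : x * d.z = d.z * x := Frame.Spec.z_central (d.O_le hx)
  have hxA : x ∈ A := mem_centU.2 ⟨d.O_le hx, hxu⟩
  obtain ⟨w, hwD, hwu⟩ := c.hyp.swap_D c.spec c.hq c.inv2_mem c.inv2_order c.inv2_ne
  have hwx : w * x = x * w := (c.od x hx w hwD).symm
  have hne : ∀ {a : G}, a * d.z * a⁻¹ = d.z → a * u * a⁻¹ ≠ d.z := fun {a} h1 h2 => c.inv2_ne
    (mul_right_injective a (mul_left_injective a⁻¹ (h2.trans h1.symm)))
  -- elements of `C` permuting the four group centralise `x`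
  have hfix : ∀ a : G, a * d.z * a⁻¹ = d.z → Four d g (a * u * a⁻¹) → a * x * a⁻¹ = x := by
    intro a haz hau
    have haC : a ∈ d.C := Subgroup.mem_centralizer_singleton_iff.2 (mul_inv_eq_iff_eq_mul.1 haz)
    have hcA : ∀ b ∈ A, b * x * b⁻¹ = x := fun b hb => by
      rw [c.cent_comm R hsd hin hb hxA, mul_inv_cancel_right]
    rcases hau with e | e | e
    · exact absurd e (hne haz)
    · exact hcA a (mem_centU.2 ⟨haC, mul_inv_eq_iff_eq_mul.1 e⟩)
    · have hb : w⁻¹ * a ∈ A := mem_centU.2 ⟨mul_mem (inv_mem (d.D_le hwD)) haC, mul_inv_eq_iff_eq_mul.1 (by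
        calc w⁻¹ * a * u * (w⁻¹ * a)⁻¹ = w⁻¹ * (a * u * a⁻¹) * w := by group
          _ = w⁻¹ * (w * u * w⁻¹) * w := by rw [e, hwu]
          _ = u := by group)⟩
      calc a * x * a⁻¹ = w * (w⁻¹ * a * x * (w⁻¹ * a)⁻¹) * w⁻¹ := by group
        _ = x := by rw [hcA _ hb, hwx, mul_inv_cancel_right]
  -- the element at each point of the four group
  have hss : ∀ {p}, Four d g p → Four d g (s * p * s⁻¹) := by
    rintro p (rfl | rfl | rfl)
    · exact Or.inr (Or.inl hsz)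
    · exact Or.inr (Or.inr hsu)
    · exact Or.inl hszu
  have hperm : ∀ {a : G}, (∀ p, Four d g p → Four d g (a * p * a⁻¹)) → ∀ i : ℕ,
      ∀ p, Four d g p → Four d g (s ^ i * a * p * (s ^ i * a)⁻¹) := by
    intro a ha i p hp
    induction i with
    | zero => simpa using ha p hp
    | succ i ih =>
      rw [show s ^ (i + 1) * a * p * (s ^ (i + 1) * a)⁻¹ = s * (s ^ i * a * p * (s ^ i * a)⁻¹) * s⁻¹ by
        rw [pow_succ']; group]
      exact hss ih
  have hsucc : ∀ (i : ℕ) (q : G), s ^ (i + 1) * q * (s ^ (i + 1))⁻¹ = s * (s ^ i * q * (s ^ i)⁻¹) * s⁻¹ :=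
    fun i q => by rw [pow_succ']; group
  have h2q : ∀ q : G, s ^ 2 * q * (s ^ 2)⁻¹ = s * (s * q * s⁻¹) * s⁻¹ := fun q => by
    rw [hsucc 1, pow_one]
  have hs3z : s ^ 3 * d.z * (s ^ 3)⁻¹ = d.z := by
    rw [hsucc 2, h2q, hsz, hsu, hszu]
  -- conjugates of `x` by permuting elements depend only on the image of `z`
  have hwd : ∀ {a b : G}, (∀ p, Four d g p → Four d g (a * p * a⁻¹)) →
      (∀ p, Four d g p → Four d g (b * p * b⁻¹)) → a * d.z * a⁻¹ = b * d.z * b⁻¹ → a * x * a⁻¹ = b * x * b⁻¹ := by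
    intro a b ha hb hab
    have h1 : b⁻¹ * a * d.z * (b⁻¹ * a)⁻¹ = d.z := by
      calc b⁻¹ * a * d.z * (b⁻¹ * a)⁻¹ = b⁻¹ * (a * d.z * a⁻¹) * b := by group
        _ = d.z := by rw [hab]; group
    have h2 : Four d g (b⁻¹ * a * u * (b⁻¹ * a)⁻¹) := by
      have hq : Four d g (a * u * a⁻¹) := ha u (Or.inr (Or.inl rfl))
      have himg : ∃ p, Four d g p ∧ b * p * b⁻¹ = a * u * a⁻¹ := by
        have hb0 := hb _ (Or.inl rfl)
        have hb1 := hb _ (Or.inr (Or.inl rfl))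
        have hb2 := hb _ (Or.inr (Or.inr rfl))
        have i01 : b * d.z * b⁻¹ ≠ b * u * b⁻¹ := fun e =>
          c.inv2_ne (mul_right_injective b (mul_left_injective b⁻¹ e.symm))
        have i02 : b * d.z * b⁻¹ ≠ b * (d.z * u) * b⁻¹ := fun e => by
          have h3 : d.z = d.z * u := mul_right_injective b (mul_left_injective b⁻¹ e)
          have := c.inv2_order
          rw [← hu, left_eq_mul.1 h3, orderOf_one] at this
          norm_num at this
        have i12 : b * u * b⁻¹ ≠ b * (d.z * u) * b⁻¹ := fun e => by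
          have h3 : u = d.z * u := mul_right_injective b (mul_left_injective b⁻¹ e)
          have := c.spec.zord
          rw [right_eq_mul.1 h3, orderOf_one] at this
          norm_num at this
        rcases hq with e | e | e <;> rcases hb0 with f | f | f <;> rcases hb1 with f' | f' | f' <;>
          rcases hb2 with f'' | f'' | f'' <;>
          first
            | exact ⟨_, Or.inl rfl, f.trans e.symm⟩
            | exact ⟨_, Or.inr (Or.inl rfl), f'.trans e.symm⟩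
            | exact ⟨_, Or.inr (Or.inr rfl), f''.trans e.symm⟩
            | exact absurd (f.trans f'.symm) i01
            | exact absurd (f.trans f''.symm) i02
            | exact absurd (f'.trans f''.symm) i12
      obtain ⟨p, hp, e⟩ := himg
      rwa [show b⁻¹ * a * u * (b⁻¹ * a)⁻¹ = b⁻¹ * (a * u * a⁻¹) * b by group, ← e,
        show b⁻¹ * (b * p * b⁻¹) * b = p by group]
    calc a * x * a⁻¹ = b * (b⁻¹ * a * x * (b⁻¹ * a)⁻¹) * b⁻¹ := by group
      _ = b * x * b⁻¹ := by rw [hfix _ h1 h2]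
  set X : ℕ → G := fun i => s ^ i * x * (s ^ i)⁻¹ with hX
  have hXperm : ∀ i, ∀ p, Four d g p → Four d g (s ^ i * p * (s ^ i)⁻¹) := fun i p hp => by
    have := hperm (a := 1) (fun p hp => by simpa using hp) i p hp
    simpa using this
  have hX3 : X 3 = x := by
    have := hwd (a := s ^ 3) (b := 1) (hXperm 3) (fun p hp => by simpa using hp) (by simpa using hs3z)
    simpa [hX] using this
  have hXA : ∀ i, i < 3 → X i ∈ A := by
    intro i hi
    have hc : ∀ p, Four d g p → X i * (s ^ i * p * (s ^ i)⁻¹) = s ^ i * p * (s ^ i)⁻¹ * X i := fun p hp => by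
      refine ((show Commute x p from ?_).map (MulAut.conj (s ^ i)).toMonoidHom).eq
      rcases hp with rfl | rfl | rfl
      exacts [hxz, hxu, (show Commute x d.z from hxz).mul_right hxu]
    interval_cases i
    · simpa [hX] using hxA
    · refine mem_centU.2 ⟨Subgroup.mem_centralizer_singleton_iff.2 ?_, ?_⟩
      · have := hc _ (Or.inr (Or.inr rfl))
        rwa [← hu, pow_one, hszu] at this
      · have := hc _ (Or.inl rfl)
        rwa [pow_one, hsz] at this
    · refine mem_centU.2 ⟨Subgroup.mem_centralizer_singleton_iff.2 ?_, ?_⟩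
      · have := hc _ (Or.inr (Or.inl rfl))
        rwa [← hu, h2q, hsu, hszu] at this
      · have := hc _ (Or.inr (Or.inr rfl))
        rwa [← hu, h2q, hszu, hsz] at this
  -- the three are distinct
  have h01 : x ≠ s * x * s⁻¹ := fun e => by
    have h1 := c.hyp.core_meet c.spec c.hq c.od c'.hne c'.hcm (e ▸ hx : s * x * s⁻¹ ∈ d.O)
      (by rw [show s⁻¹ * (s * x * s⁻¹) * s = x by group]; exact hx)
    exact hx1 (e.trans h1)
  have hX1 : X 1 = s * x * s⁻¹ := by simp [hX]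
  have hX2 : X 2 = s * X 1 * s⁻¹ := hsucc 1 x
  have hX3' : X 3 = s * X 2 * s⁻¹ := hsucc 2 x
  have h12 : X 1 ≠ X 2 := fun e => h01 (by
    rw [hX2, hX1] at e
    exact (mul_right_injective s (mul_left_injective s⁻¹ e)))
  have h20 : X 2 ≠ x := fun e => by
    rw [e] at hX3'
    exact h01 (hX3.symm.trans hX3')
  have hodd : ∀ i, Odd (orderOf (X i)) := fun i => by
    rw [hX]; simp only [orderOf_cj]
    exact d.O_odd.of_dvd_nat (Subgroup.orderOf_dvd_natCard _ hx)
  let P : ℕ → ↥A := fun i => if h : i < 3 then ⟨X i, hXA i h⟩ else 1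
  have hP : ∀ i, i < 3 → (P i : G) = X i := fun i hi => by simp [P, hi]
  have oq : ∀ i j, i < 3 → j < 3 → Odd (orderOf (P i * (P j)⁻¹)) := fun i j hi hj => by
    refine Odd.of_dvd_nat ?_ (Commute.orderOf_mul_dvd_mul_orderOf (Commute.all _ _))
    rw [orderOf_inv, ← Subgroup.orderOf_coe (P i), ← Subgroup.orderOf_coe (P j), hP i hi, hP j hj]
    exact (hodd i).mul (hodd j)
  have nq : ∀ i j, i < 3 → j < 3 → X i ≠ X j → P i * (P j)⁻¹ ≠ 1 := fun i j hi hj hne' e =>
    hne' (by rw [← hP i hi, ← hP j hj, mul_inv_eq_one.1 e])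
  have hX0 : X 0 = x := by simp [hX]
  obtain ⟨φ, hk, fa, fb, fe⟩ := exists_sep
    (nq 0 1 (by omega) (by omega) (by rw [hX0, hX1]; exact h01))
    (nq 1 2 (by omega) (by omega) h12) (nq 2 0 (by omega) (by omega) (by rw [hX0]; exact h20))
    (oq 0 1 (by omega) (by omega)) (oq 1 2 (by omega) (by omega)) (oq 2 0 (by omega) (by omega))
  refine hfalse φ hk fun a ha hanA => ?_
  have hidx : ∀ {p}, Four d g p → ∃ i < 3, s ^ i * d.z * (s ^ i)⁻¹ = p := by
    rintro p (rfl | rfl | rfl)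
    · exact ⟨0, by omega, by simp⟩
    · exact ⟨1, by omega, by simpa using hsz⟩
    · exact ⟨2, by omega, by
        rw [h2q, hsz, hsu]⟩
  obtain ⟨p, hp, hpne⟩ : ∃ p, Four d g p ∧ a * p * a⁻¹ ≠ p := by
    by_contra hcon
    push Not at hcon
    exact hanA (mem_centU.2 ⟨Subgroup.mem_centralizer_singleton_iff.2
      (mul_inv_eq_iff_eq_mul.1 (hcon _ (Or.inl rfl))), mul_inv_eq_iff_eq_mul.1 (hcon _ (Or.inr (Or.inl rfl)))⟩)
  obtain ⟨i, hi, hip⟩ := hidx hp
  obtain ⟨j, hj, hjp⟩ := hidx (ha p hp)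
  refine ⟨P i, P j, ?_, ?_⟩
  · rw [hP i hi, hP j hj]
    have := hwd (a := s ^ j) (b := a * s ^ i) (hXperm j) (fun q hq => by
      have := ha _ (hXperm i q hq)
      rwa [show a * (s ^ i * q * (s ^ i)⁻¹) * a⁻¹ = a * s ^ i * q * (a * s ^ i)⁻¹ by group] at this) (by
      rw [hjp, show a * s ^ i * d.z * (a * s ^ i)⁻¹ = a * (s ^ i * d.z * (s ^ i)⁻¹) * a⁻¹ by group, hip])
    rw [hX]
    simp only
    rw [this]
    group
  · intro e
    have e' : φ (P j * (P i)⁻¹) = 1 := by rw [map_mul, map_inv, e, mul_inv_cancel]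
    have e'' : φ (P i * (P j)⁻¹) = 1 := by rw [map_mul, map_inv, e, mul_inv_cancel]
    have hij : i ≠ j := by
      rintro rfl
      exact hpne (hjp.symm.trans hip)
    interval_cases i <;> interval_cases j <;>
      first
        | omega
        | exact fa e'
        | exact fa e''
        | exact fb e'
        | exact fb e''
        | exact fe e'
        | exact fe e''

end CfsgLib.RankTwoModel.L4
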