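import Cfsg.Agent.Lib.RankTwoModel.L4.Extend
import Cfsg.Agent.Lib.RankTwoModel.L4.Safety.Structure
import Cfsg.Agent.Lib.RankTwoModel.L4.Safety.Arith
import Cfsg.Agent.Lib.RankTwoModel.L4.W.Main
import Cfsg.Agent.Lib.BrauerOrder.Main

/-!
The flat situation of L4 from `C_O(u) = 1` (blueprint/RankTwo_L45.md, v4).

* `Ctx.index_prime`: the consequence of step W for the index;
* `Ctx.flat`: `Flat d g` when `C_O(u) = 1` and no element has a field part.
-/

set_option autoImplicit false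
set_option linter.unusedSectionVars false
set_option linter.style.haveILetI false

namespace CfsgLib.RankTwoModel.L4

open Cfsg CfsgLib.BrauerOrder CfsgLib.GW CfsgLib.BG CfsgLib.RankTwo

universe u

variable {G : Type u} [Group G] [Fintype G] {d : Frame G} {g : G} (c : Ctx d g)
include c

/-- A prime dividing the inverted part does not divide the index. -/
theorem Ctx.index_prime {r : ℕ} (hr : r.Prime) (hdvd : r ∣ Nat.card (invI d (inv2 d g))) : ¬ r ∣ d.C.index := by
  haveI := Fact.mk hr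
  intro hd
  have e := congrArg (padicValNat r) (Subgroup.index_mul_card d.C)
  rw [padicValNat.mul Subgroup.index_ne_zero_of_finite Nat.card_pos.ne', c.v_eq hdvd] at e
  have := one_le_padicValNat_of_dvd Subgroup.index_ne_zero_of_finite hd
  omega

/-- The centraliser has odd index. -/
theorem Ctx.index_odd : Odd d.C.index := by
  haveI : Fact (Nat.Prime 2) := ⟨Nat.prime_two⟩
  haveI : Fintype (Cz d.z) := Fintype.ofFinite _
  obtain ⟨Ω, iΩ, D, -, -, -, hv, -⟩ := c.spec.exists_sys_core c.hyp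
  have e := congrArg (padicValNat 2) (Subgroup.index_mul_card d.C)
  rw [padicValNat.mul Subgroup.index_ne_zero_of_finite Nat.card_pos.ne', hv] at e
  rw [← Nat.not_even_iff_odd, even_iff_two_dvd]
  intro hd
  have := one_le_padicValNat_of_dvd Subgroup.index_ne_zero_of_finite hd
  have e2 : padicValNat 2 (Nat.card d.C) = padicValNat 2 (Nat.card ↥(Subgroup.centralizer ({d.z} : Set G))) := rfl
  omega

variable (R : Rep d)
include R

/-- **The size bound.** -/
theorem Ctx.size (hsd : IsQuasiDihedral (d.S : Subgroup G))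
    (hI : invI d (inv2 d g) = d.O) (hp : d.p ∣ Nat.card d.O) :
    2 ≤ d.n ∧ 27 ≤ d.q ∧ 16 * d.C.index ≤ (d.q + 1) ^ 6 := by
  haveI := c.hyp.simple
  haveI : Fintype (Cz d.z) := Fintype.ofFinite _
  obtain ⟨Ω, iΩ, D, -, hD, hqc, -, hZ⟩ := c.spec.exists_sys_core c.hyp
  haveI : Finite Ω := BrauerOrder.finite_omega hD.core
  have h2 : Nat.card D.core.Z = 2 := by
    rcases hZ with ⟨-, h⟩ | ⟨hw, -⟩
    · exact h
    · exact (BrauerOrder.not_qd_wreathed hsd hw).elim
  obtain ⟨g', c', hw⟩ := exists_ctx c.spec c.hyp c.hq c.od hD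
  have hidx := c'.index_sd R hD hw hqc hsd
  have hI' : Nat.card (invI d (inv2 d g')) = Nat.card d.O := by
    obtain ⟨k, hk, e⟩ := c.spec.conj_noncentral c.hyp c.inv2_mem c'.inv2_mem c.inv2_order c'.inv2_order c.inv2_ne
      c'.inv2_ne
    refine congrArg (fun H : Subgroup G => Nat.card H) (le_antisymm c'.invI_le fun x hx => ?_)
    have h1 : k⁻¹ * x * k ∈ invI d (inv2 d g) := hI ▸ (by simpa using Frame.Spec.O_conj (inv_mem hk) hx)
    refine c'.mem_invI.2 ⟨hx, ?_⟩
    rw [← e]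
    calc k * inv2 d g * k⁻¹ * x * (k * inv2 d g * k⁻¹)⁻¹
        = k * (inv2 d g * (k⁻¹ * x * k) * (inv2 d g)⁻¹) * k⁻¹ := by group
      _ = x⁻¹ := by rw [c.invI_inv h1]; group
  set i := Nat.card (invI d (inv2 d g')) with hidef
  obtain ⟨B, C, hB, hB1, -, -, hC, hN, -⟩ := data_qd hD h2
  obtain ⟨hQ, hQ1, hQm⟩ := Q_facts hD
  have hQ' : D.Q ≠ 0 := by exact_mod_cast hQ
  have hQ1' : D.Q + 1 ≠ 0 := by exact_mod_cast hQ1
  set N := d.C.index with hNdef
  have hN' : (N : ℤ) * (B + D.Q) ^ 2 = (i : ℤ) ^ 2 * (D.Q * (D.Q + 1) ^ 3 * B * (B - 1)) := by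
    have hG : (Nat.card G : ℤ) = (N : ℤ) * (Nat.card (Cz d.z) : ℤ) := by
      rw [hNdef, show Nat.card (Cz d.z) = Nat.card d.C from rfl]
      exact_mod_cast (Subgroup.index_mul_card d.C).symm
    have hc2 : (Nat.card (Cz d.z) : ℤ) ^ 2 =
        (Nat.card (Subgroup.centralizer ({(D.w : G), d.z} : Set G)) : ℤ) ^ 2 * (i : ℤ) ^ 2 *
          (D.Q * (D.Q + 1)) ^ 2 := by
      have := congrArg (fun m : ℕ => (m : ℤ) ^ 2) hidx
      simpa [mul_pow, Int.natCast_natAbs, sq_abs] using this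
    have hcz : (Nat.card (Cz d.z) : ℤ) ≠ 0 := Int.natCast_ne_zero.2 Nat.card_pos.ne'
    have hcw : (Nat.card (Subgroup.centralizer ({(D.w : G), d.z} : Set G)) : ℤ) ≠ 0 :=
      Int.natCast_ne_zero.2 Nat.card_pos.ne'
    refine mul_left_cancel₀ (mul_ne_zero (mul_ne_zero hcz (pow_ne_zero 2 hcw)) hQ') ?_
    linear_combination -hN + ((Nat.card (Cz d.z) : ℤ) * ((D.Q + 1) * B * (B - 1))) * hc2 -
      ((Nat.card (Subgroup.centralizer ({(D.w : G), d.z} : Set G)) : ℤ) ^ 2 * (D.Q * (B + D.Q) ^ 2)) * hG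
  have h4 : (4 : ℤ) ∣ D.Q + 1 := by
    have hf := (four_dvd_sigma hD).1 h2
    rw [Sys.Q]
    rcases hD.core.sgn true with e | e <;> rw [e] at hf ⊢
    · simpa using hf
    · rw [show (-1 : ℤ) * D.core.q + 1 = -((D.core.q : ℤ) + -1) by ring]
      exact dvd_neg.2 hf
  obtain ⟨k, hko, hki, hk, hE, hNk⟩ := Safety.exists_k c.index_odd Nat.card_pos.ne'
    (fun r hr hri => c'.index_prime hr hri) hQ' hQ1' h4 hB hB1 hC hN'
  have hqabs : D.Q.natAbs = d.p ^ d.n := by
    rw [Sys.Q, Int.natAbs_mul, hqc]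
    rcases hD.core.sgn true with e | e <;> rw [e] <;> simp [Frame.q]
  have hpi : d.p ∣ i := hI' ▸ hp
  obtain ⟨h16, hN16⟩ := Safety.bounds c.spec.prime hqabs hpi hko hki hk hE hQ1'
    (by exact_mod_cast hQm) h4 hNk
  obtain ⟨hn, h27⟩ := Safety.size_cases c.spec.prime c.spec.podd c.spec.npos c.hq
    (Nat.le_of_dvd Nat.card_pos hpi) h16
  exact ⟨hn, h27, hN16⟩

/-- **The flat situation.** -/
theorem Ctx.flat (hsd : IsQuasiDihedral (d.S : Subgroup G)) (hin : R.Inner)
    (hK : ∀ x ∈ d.O, x * inv2 d g = inv2 d g * x → x = 1) : Flat d g := by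
  have hI : invI d (inv2 d g) = d.O := by
    refine le_antisymm c.invI_le fun x hx => ?_
    obtain ⟨f, hf, hfu, i, hi, e⟩ := c.fixed_mul_invI hx
    rw [e, hK f hf hfu, one_mul]
    exact hi
  refine ⟨c, hsd, fun x hx => ?_, fun x hx => (c.mem_invI.1 (hI ▸ hx)).2, fun r hr hrd => ?_, fun a ha ha1 => ?_,
    c.size R hsd hI⟩
  · obtain ⟨k, hk⟩ := hin ⟨x, hx⟩
    have hf : R.field c.spec ⟨x, hx⟩ = 1 := R.field_eq c.spec (g := k) (e := RingEquiv.refl d.F) fun A => by
      rw [hk, show A.1.map (RingEquiv.refl d.F) = A.1 from Matrix.ext fun _ _ => rfl]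
    refine (c.mem_L_or R hsd hx hf).imp id fun h => ?_
    have := d.L_conj c.inv2_mem h
    rwa [← mul_assoc, mul_inv_cancel_right] at this
  · haveI := Fact.mk hr
    exact c.v_eq (hI.symm ▸ hrd)
  · exact c.cent_le (hI.symm ▸ ha) ha1

end CfsgLib.RankTwoModel.L4
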