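import Cfsg.Agent.Lib.RankTwoModel.L4.Index
import Cfsg.Agent.Lib.QuasiDihedralClasses
import Cfsg.Agent.Lib.BrauerOrder.Formula
import Cfsg.Agent.Lib.RankTwoModel.Glue.FieldPair

/-!
The class of the second involution in the semidihedral case (blueprint/RankTwo_L45.md, D: the index hypothesis,
also with a field part).

`L` with the involution is normal of odd index in `C`; all noncentral involutions of a semidihedral group are
conjugate; so `C = L C_C(u)` and the index hypothesis is an equality.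
-/

set_option autoImplicit false
set_option linter.unusedSectionVars false
set_option linter.style.haveILetI false

namespace CfsgLib.RankTwoModel.L4

open Cfsg CfsgLib.BrauerOrder CfsgLib.Blocks.AbelianFree CfsgLib.GW CfsgLib.BG CfsgLib.RankTwo

universe u v

/-- The noncentral involutions of a semidihedral group are conjugate. -/
theorem qd_invol_conj {S : Type*} [Group S] [Finite S] (hS : IsQuasiDihedral S) {a b c : S}
    (hc : c ∈ Subgroup.center S) (hc2 : orderOf c = 2) (ha : orderOf a = 2) (hac : a ≠ c) (hb : orderOf b = 2)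
    (hbc : b ≠ c) : IsConj a b := by
  obtain ⟨-, -, -, dd, -⟩ := CfsgLib.QD.exists_data hS
  have hcz : c = dd.z := by
    rw [CfsgLib.QD.center_eq_zpowers dd] at hc
    obtain ⟨i, rfl⟩ := Subgroup.mem_zpowers_iff.1 hc
    have h2j : ∀ j : ℤ, dd.z ^ (2 * j) = 1 := fun j => by
      rw [zpow_mul, zpow_two, invol_mul_self (CfsgLib.QD.orderOf_z dd), one_zpow]
    rcases Int.even_or_odd i with ⟨j, rfl⟩ | ⟨j, rfl⟩
    · rw [← two_mul, h2j, orderOf_one] at hc2
      norm_num at hc2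
    · rw [zpow_add_one, h2j, one_mul]
  have key : ∀ x : S, orderOf x = 2 → x ≠ c → IsConj x (dd.x ^ (2 * (0 : ℤ)) * dd.y) := by
    intro x hx hxc
    rcases CfsgLib.QD.involution_cases dd hx with e | ⟨j, e⟩
    · exact absurd (e.trans hcz.symm) hxc
    · rw [e]
      exact isConj_iff.2 (CfsgLib.QD.even_shift_all dd j 0)
  exact (key a ha hac).trans (key b hb hbc).symm

variable {G : Type u} [Group G] [Fintype G] {d : Frame G} {g : G} (c : Ctx d g) (R : Rep d)
include c R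

/-- An element of `C` without field part is in `L` or in the coset of the second involution. -/
theorem Ctx.mem_L_or (hsd : IsQuasiDihedral (d.S : Subgroup G)) {x : G} (hx : x ∈ d.C)
    (hf : R.field c.spec ⟨x, hx⟩ = 1) : x ∈ d.L ∨ x * inv2 d g ∈ d.L := by
  haveI : Fintype (Cz d.z) := Fintype.ofFinite _
  obtain ⟨g₀, htr, hns, hg₀⟩ := R.invol c.spec c.hq c.hyp c.inv2_mem c.inv2_order c.inv2_ne
  have hσu : R.σ ⟨inv2 d g, c.inv2_mem⟩ = PSL2.conjSL g₀ :=
    MulEquiv.ext fun A => Subtype.ext (by rw [hg₀, PSL2.coe_conjSL])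
  have hout := R.outer c.spec c.hq c.hyp hsd c.inv2_mem c.inv2_order c.inv2_ne hσu
  obtain ⟨k, hk⟩ := R.exists_conj_of_field c.spec c.hq hf
  have hσb : R.σ ⟨x, hx⟩ = PSL2.conjSL k := MulEquiv.ext fun A => Subtype.ext (by rw [hk, PSL2.coe_conjSL])
  by_cases hs : IsSquare k.1.det
  · exact Or.inl (c.mem_L_of_square R hsd hx hσb hs)
  refine Or.inr (c.mem_L_of_square R hsd (mul_mem hx c.inv2_mem) (k := k * g₀) ?_ ?_)
  · show R.σ ((⟨x, hx⟩ : ↥d.C) * ⟨inv2 d g, c.inv2_mem⟩) = _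
    rw [map_mul, hσb, hσu]
    refine MulEquiv.ext fun A => Subtype.ext ?_
    rw [MulAut.mul_apply, PSL2.coe_conjSL, PSL2.coe_conjSL, PSL2.coe_conjSL, _root_.mul_inv_rev,
      Units.val_mul, Units.val_mul]
    simp only [Matrix.mul_assoc]
  · have hc' : ringChar d.F ≠ 2 := fun e => by
      haveI : CharP d.F 2 := ringChar.of_eq e
      exact SL2Orders.two_ne_zero_of_odd c.spec.odd_card (CharP.cast_eq_zero d.F 2)
    have h1 := GW.Model.det_ne k
    have h2 := GW.Model.det_ne g₀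
    rw [Units.val_mul, Matrix.det_mul, FiniteField.isSquare_iff hc' (mul_ne_zero h1 h2), mul_pow]
    rw [FiniteField.isSquare_iff hc' h1] at hs
    rw [FiniteField.isSquare_iff hc' h2] at hout
    rw [(FiniteField.pow_dichotomy hc' h1).resolve_left hs, (FiniteField.pow_dichotomy hc' h2).resolve_left hout]
    ring

/-- The second involution has no field part. -/
theorem Ctx.field_inv2 : R.field c.spec ⟨inv2 d g, c.inv2_mem⟩ = 1 := by
  obtain ⟨g₀, -, -, hg₀⟩ := R.invol c.spec c.hq c.hyp c.inv2_mem c.inv2_order c.inv2_ne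
  exact R.field_eq c.spec (g := g₀) (e := RingEquiv.refl d.F) fun A => by
    rw [hg₀, show A.1.map (RingEquiv.refl d.F) = A.1 from Matrix.ext fun _ _ => rfl]

/-- A two-subgroup of `C` through the second involution has no field part. -/
theorem Ctx.field_two_trivial (hsd : IsQuasiDihedral (d.S : Subgroup G)) {Q : Subgroup ↥d.C} (hQ : IsPGroup 2 Q)
    (hu : (⟨inv2 d g, c.inv2_mem⟩ : ↥d.C) ∈ Q) {s : ↥d.C} (hs : s ∈ Q) : R.field c.spec s = 1 := by
  haveI : Fact (Nat.Prime 2) := ⟨Nat.prime_two⟩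
  haveI : Fintype (Cz d.z) := Fintype.ofFinite _
  obtain ⟨Ω, iΩ, D, hD, hqc, -, -, hZ⟩ := c.spec.exists_sys c.hyp
  have h2Z : Nat.card D.core.Z = 2 := by
    rcases hZ with ⟨-, h⟩ | ⟨hw, -⟩
    · exact h
    · exact absurd hw ((BrauerOrder.not_qd_wreathed hsd))
  set LC : Subgroup ↥d.C := d.L.subgroupOf d.C with hLC
  haveI : LC.Normal := ⟨fun x hx y => d.L_conj y.2 hx⟩
  obtain ⟨b, x, h, hr⟩ := hD.rot
  have hcard : Nat.card d.L * d.L.relIndex d.C = Nat.card d.C := by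
    rw [← Subgroup.relIndex_bot_left, ← Subgroup.relIndex_bot_left,
      Subgroup.relIndex_mul_relIndex _ _ _ bot_le d.L_le]
  have hq : 3 < d.q := c.hq
  have hq2 : d.q ^ 2 - 1 ≠ 0 := by
    have : 4 ^ 2 ≤ d.q ^ 2 := Nat.pow_le_pow_left (by omega) 2
    omega
  have hm0 : d.L.relIndex d.C ≠ 0 := fun e => by
    rw [e, mul_zero] at hcard; exact Nat.card_pos.ne' hcard.symm
  have hm : padicValNat 2 (d.L.relIndex d.C) = 1 := by
    have hS : padicValNat 2 (Nat.card (Cz d.z)) = padicValNat 2 (d.q ^ 2 - 1) + 1 := by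
      have h1 := D.core.S.card_eq_multiplicity
      rw [← hr.exact, hqc, h2Z, ← pow_succ, Nat.factorization_def _ Nat.prime_two] at h1
      exact (Nat.pow_right_injective le_rfl h1).symm
    have hqodd : ¬ 2 ∣ d.q := fun hd => c.spec.podd
      ((Nat.prime_dvd_prime_iff_eq Nat.prime_two c.spec.prime).1 (Nat.prime_two.dvd_of_dvd_pow hd)).symm
    rw [show Nat.card (Cz d.z) = Nat.card d.C from rfl, ← hcard, card_L_core R c.spec,
      padicValNat.mul (mul_ne_zero Nat.card_pos.ne' (mul_ne_zero (by omega) hq2)) hm0,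
      padicValNat.mul Nat.card_pos.ne' (mul_ne_zero (by omega) hq2), padicValNat.mul (by omega) hq2,
      padicValNat.eq_zero_of_not_dvd d.O_odd.not_two_dvd_nat, padicValNat.eq_zero_of_not_dvd hqodd] at hS
    omega
  set M : Subgroup ↥Q := LC.subgroupOf Q with hM
  obtain ⟨j, hj⟩ := IsPGroup.iff_card.1 hQ
  have hdvd : M.index ∣ d.L.relIndex d.C := by
    exact Subgroup.relIndex_dvd_index_of_normal LC Q
  have hd2 : M.index ∣ 2 := by
    obtain ⟨a, -, ha⟩ := (Nat.dvd_prime_pow Nat.prime_two).1 (hj ▸ Subgroup.index_dvd_card M)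
    rw [ha] at hdvd ⊢
    exact pow_one 2 ▸ pow_dvd_pow 2 (by
      have := (padicValNat_dvd_iff_le (p := 2) hm0).1 hdvd
      omega)
  have huM : (⟨⟨inv2 d g, c.inv2_mem⟩, hu⟩ : ↥Q) ∉ M :=
    c.spec.invol_not_mem c.inv2_order c.inv2_ne
  rcases (Nat.dvd_prime Nat.prime_two).1 hd2 with e | e
  · exact absurd (Subgroup.index_eq_one.1 e ▸ Subgroup.mem_top _) huM
  by_cases hsL : (⟨s, hs⟩ : ↥Q) ∈ M
  · exact R.field_L c.spec hsL
  have h1 : (⟨s, hs⟩ : ↥Q) * ⟨⟨inv2 d g, c.inv2_mem⟩, hu⟩ ∈ M :=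
    (Subgroup.mul_mem_iff_of_index_two e).2 (iff_of_false hsL huM)
  have h2 : R.field c.spec (s * ⟨inv2 d g, c.inv2_mem⟩) = 1 := R.field_L c.spec h1
  rwa [map_mul, c.field_inv2 R, mul_one] at h2

/-- `C = L C_C(u)`. -/
theorem Ctx.exists_L_mul (hsd : IsQuasiDihedral (d.S : Subgroup G)) {x : G} (hx : x ∈ d.C) :
    ∃ l ∈ d.L, Commute (l * x) (inv2 d g) := by
  haveI : Fact (Nat.Prime 2) := ⟨Nat.prime_two⟩
  set u := inv2 d g with hu
  set N : Subgroup ↥d.C := (R.field c.spec).ker with hN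
  have huN : (⟨u, c.inv2_mem⟩ : ↥d.C) ∈ N := c.field_inv2 R
  have hSC : (d.S : Subgroup G) ≤ d.C := fun s hs => Subgroup.mem_centralizer_singleton_iff.mpr (c.spec.zc s hs)
  let P : Sylow 2 ↥d.C := d.S.subtype hSC
  set uC : ↥d.C := ⟨u, c.inv2_mem⟩ with huC
  set v : ↥d.C := ⟨x, hx⟩ * uC * (⟨x, hx⟩ : ↥d.C)⁻¹ with hv
  have hvN : v ∈ N := Subgroup.Normal.conj_mem inferInstance _ huN _
  -- a Sylow subgroup of `N` through each
  have hsyl : ∀ w : ↥N, orderOf w = 2 → ∃ T : Sylow 2 ↥N, w ∈ (T : Subgroup ↥N) := fun w hw => by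
    obtain ⟨T, hT⟩ := (IsPGroup.of_card (n := 1) (by rw [Nat.card_zpowers, hw, pow_one]) :
      IsPGroup 2 (Subgroup.zpowers w)).exists_le_sylow
    exact ⟨T, hT (Subgroup.mem_zpowers w)⟩
  have ho2 : orderOf uC = 2 := by rw [← Subgroup.orderOf_coe]; exact c.inv2_order
  have hvo : orderOf v = 2 := by rw [hv, CfsgLib.Involutions.orderOf_conj, ho2]
  obtain ⟨T, huT⟩ := hsyl ⟨uC, huN⟩ (by rw [Subgroup.orderOf_mk]; exact ho2)
  obtain ⟨T', hvT'⟩ := hsyl ⟨v, hvN⟩ (by rw [Subgroup.orderOf_mk]; exact hvo)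
  obtain ⟨n, hn⟩ := MulAction.exists_smul_eq ↥N T' T
  have hvn : n * ⟨v, hvN⟩ * n⁻¹ ∈ (T : Subgroup ↥N) := by
    rw [← hn, Sylow.coe_subgroup_smul]
    exact ⟨_, hvT', rfl⟩
  -- the two-group of `N` in a Sylow subgroup of `C`
  obtain ⟨Q, hQ⟩ := (T.2.map N.subtype).exists_le_sylow
  obtain ⟨e⟩ : Nonempty (↥(Q : Subgroup ↥d.C) ≃* ↥(d.S : Subgroup G)) :=
    ⟨(Sylow.equiv Q P).trans (Subgroup.subgroupOfEquivOfLe hSC)⟩
  have hQsd : IsQuasiDihedral ↥(Q : Subgroup ↥d.C) := cj_quasiDihedral e.symm hsd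
  set zC : ↥d.C := ⟨d.z, Subgroup.mem_centralizer_singleton_iff.2 rfl⟩ with hzC
  have hzcen : ∀ y : ↥d.C, y * zC = zC * y := fun y =>
    Subtype.ext (Subgroup.mem_centralizer_singleton_iff.1 y.2)
  have hzQ : zC ∈ (Q : Subgroup ↥d.C) := by
    have hsup : IsPGroup 2 ↥((Q : Subgroup ↥d.C) ⊔ Subgroup.zpowers zC) := by
      refine Q.2.to_sup_of_normal_left' (IsPGroup.of_card (n := 1) (by
        rw [Nat.card_zpowers, ← Subgroup.orderOf_coe, pow_one]; exact c.spec.zord))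
        (Subgroup.zpowers_le.2 (Subgroup.mem_normalizer_fintype fun y hy => by
          rw [← hzcen y, mul_inv_cancel_right]; exact hy))
    exact (Q.3 hsup le_sup_left).le (Subgroup.mem_sup_right (Subgroup.mem_zpowers _))
  have hb : (n : ↥d.C) * v * (n : ↥d.C)⁻¹ ∈ (Q : Subgroup ↥d.C) := hQ ⟨_, hvn, rfl⟩
  have ha : uC ∈ (Q : Subgroup ↥d.C) := hQ ⟨_, huT, rfl⟩
  have hne : ∀ y : ↥d.C, IsConj uC y → y ≠ zC := fun y hy e1 => by
    obtain ⟨k, hk⟩ := isConj_iff.1 hy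
    rw [e1] at hk
    have : uC = zC := by
      calc uC = k⁻¹ * (k * uC * k⁻¹) * k := by group
        _ = k⁻¹ * (zC * k) := by rw [hk, mul_assoc]
        _ = zC := by rw [← hzcen k, inv_mul_cancel_left]
    exact c.inv2_ne (congrArg Subtype.val this)
  have hbconj : IsConj uC ((n : ↥d.C) * v * (n : ↥d.C)⁻¹) :=
    isConj_iff.2 ⟨(n : ↥d.C) * ⟨x, hx⟩, by rw [hv]; group⟩
  have hcm := qd_invol_conj hQsd (c := ⟨zC, hzQ⟩) (a := ⟨uC, ha⟩) (b := ⟨_, hb⟩)
    (Subgroup.mem_center_iff.2 fun y => Subtype.ext (hzcen y))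
    (by rw [Subgroup.orderOf_mk, ← Subgroup.orderOf_coe]; exact c.spec.zord)
    (by rw [Subgroup.orderOf_mk, ho2]) (fun e1 => hne uC (IsConj.refl _) (congrArg Subtype.val e1))
    (by rw [Subgroup.orderOf_mk, CfsgLib.Involutions.orderOf_conj]; exact hvo)
    (fun e1 => hne _ hbconj (congrArg Subtype.val e1))
  obtain ⟨s, hs⟩ := isConj_iff.1 hcm
  have hs' : (s : ↥d.C) * uC * (s : ↥d.C)⁻¹ = (n : ↥d.C) * v * (n : ↥d.C)⁻¹ := congrArg Subtype.val hs
  -- two-elements have no field part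
  have hsN : (s : ↥d.C) ∈ N := MonoidHom.mem_ker.2 (c.field_two_trivial R hsd Q.2 ha s.2)
  set k : ↥d.C := (s : ↥d.C)⁻¹ * n with hk
  have hkN : k ∈ N := mul_mem (inv_mem hsN) n.2
  have hcomm : Commute ((k : G) * x) u := by
    have h1 : k * ⟨x, hx⟩ * uC * (k * (⟨x, hx⟩ : ↥d.C))⁻¹ = uC := by
      rw [hk, show (s : ↥d.C)⁻¹ * n * ⟨x, hx⟩ * uC * ((s : ↥d.C)⁻¹ * n * ⟨x, hx⟩)⁻¹ =
        (s : ↥d.C)⁻¹ * ((n : ↥d.C) * v * (n : ↥d.C)⁻¹) * s by rw [hv]; group, ← hs']
      group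
    exact mul_inv_eq_iff_eq_mul.1 (congrArg Subtype.val h1)
  rcases c.mem_L_or R hsd k.2 hkN with hl | hl
  · exact ⟨k, hl, hcomm⟩
  · have hl' : u * k ∈ d.L := by
      have := d.L_conj (inv_mem k.2) hl
      have := d.L_conj c.inv2_mem hl
      rwa [← mul_assoc, mul_inv_cancel_right] at this
    refine ⟨u * k, hl', ?_⟩
    rw [mul_assoc]
    exact (Commute.refl u).mul_left hcomm

include R in
/-- **The index hypothesis in the semidihedral case**, also with a field part. -/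
theorem Ctx.index_sd [Fintype (Cz d.z)] {Ω : Type v} [MulAction (Cz d.z) Ω] {D : Sys G d.z} (hD : D.Spec Ω)
    (hw : (D.w : G) = inv2 d g) (hqc : D.core.q = d.q) (hsd : IsQuasiDihedral (d.S : Subgroup G)) :
    Nat.card (Cz d.z) = Nat.card (Subgroup.centralizer ({(D.w : G), d.z} : Set G)) *
      Nat.card (invI d (inv2 d g)) * (D.Q * (D.Q + 1)).natAbs := by
  set Cu := Subgroup.centralizer ({(D.w : G), d.z} : Set G) with hCu
  have hCu' := c.cent_w hw
  have hCuC : Cu ≤ d.C := by rw [hCu, hCu']; exact inf_le_left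
  have hfix : fixL d g = d.L ⊓ Cu := by rw [hCu, hCu', ← inf_assoc, inf_of_le_left d.L_le]; rfl
  haveI : (d.L.subgroupOf d.C).Normal := ⟨fun x hx y => d.L_conj y.2 hx⟩
  have hmul : ∀ {A B : Subgroup G}, A ≤ B → Nat.card A * A.relIndex B = Nat.card B := fun {A B} hAB => by
    rw [← Subgroup.relIndex_bot_left, ← Subgroup.relIndex_bot_left, Subgroup.relIndex_mul_relIndex _ _ _ bot_le hAB]
  have hsup : d.L.subgroupOf d.C ⊔ Cu.subgroupOf d.C = ⊤ := by
    refine eq_top_iff.2 fun x _ => ?_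
    obtain ⟨l, hl, hlx⟩ := c.exists_L_mul R hsd x.2
    have hlC := d.L_le hl
    have e : x = (⟨l, hlC⟩ : ↥d.C)⁻¹ * (⟨l, hlC⟩ * x) := by group
    rw [e]
    refine Subgroup.mul_mem_sup (inv_mem (Subgroup.mem_subgroupOf.2 hl)) ?_
    rw [Subgroup.mem_subgroupOf, hCu, hCu']
    exact ⟨mul_mem hlC x.2, Subgroup.mem_centralizer_singleton_iff.2 hlx⟩
  have hrel : d.L.relIndex Cu = d.L.relIndex d.C := by
    conv_lhs => rw [← Subgroup.relIndex_subgroupOf hCuC]
    rw [← Subgroup.relIndex_sup_left (K := d.L.subgroupOf d.C), hsup, Subgroup.relIndex_top_right]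
    rfl
  have hk : Nat.card (fixL d g) * d.L.relIndex d.C = Nat.card Cu := by
    rw [← hmul (inf_le_right : d.L ⊓ Cu ≤ Cu), ← hfix, hfix, Subgroup.inf_relIndex_right, hrel]
  rw [← hk, show Nat.card (Cz d.z) = Nat.card d.C from rfl, ← hmul d.L_le, c.card_L R hD hw hqc]
  ring

end CfsgLib.RankTwoModel.L4
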