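import Cfsg.Agent.Lib.BrauerTwist.Modular
import Cfsg.Agent.Lib.RankTwoModel.L4.Arith

/-!
Parts of signed irreducible characters for the unions of blocks cut out by the residue of the central character
at an element (blueprint/RankTwo_L45.md, D3).
-/

set_option autoImplicit false
set_option linter.unusedSectionVars false
set_option linter.style.haveILetI false

namespace CfsgLib.RankTwoModel.L4

open Cfsg CfsgLib.CharTheory CfsgLib.BrauerOrder CfsgLib.Blocks CfsgLib.BrauerTwist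

universe u

variable {G : Type u} [Group G] [Fintype G] {r : ℕ} {M : Ideal AlgInt}

/-- A member of the set, up to sign. -/
def SMem (U : Set (IrrCharacter G)) (a : G → ℂ) : Prop :=
  ∃ χ ∈ U, ∃ ε : ℂ, (ε = 1 ∨ ε = -1) ∧ a = ε • (χ : G → ℂ)

theorem sign_irr_unique {χ ψ : IrrCharacter G} {ε δ : ℂ} (hε : ε ≠ 0)
    (h : ε • (χ : G → ℂ) = δ • (ψ : G → ℂ)) : χ = ψ := by
  by_contra hne
  have := congrArg (fun f => classInner f (χ : G → ℂ)) h
  simp only [classInner_smul_left, classInner_irr_self χ.2,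
    classInner_irr_ne ψ.2 χ.2 (fun e => hne (Subtype.ext e.symm)), mul_one, mul_zero] at this
  exact hε this

theorem part_mem {U : Set (IrrCharacter G)} {a : G → ℂ} (h : SMem U a) (y : G) : part U a y = a y := by
  obtain ⟨χ, hχ, ε, -, rfl⟩ := h
  rw [part_smul, if_pos hχ]
  rfl

theorem part_not_mem {U : Set (IrrCharacter G)} {a : G → ℂ} (ha : IsSignedIrr a) (h : ¬ SMem U a) (y : G) :
    part U a y = 0 := by
  obtain ⟨χ, ε, hε, rfl⟩ := exists_irr ha
  rw [part_smul, if_neg fun hχ => h ⟨χ, hχ, ε, hε, rfl⟩]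

/-- Members and non-members are orthogonal. -/
theorem inner_mem_not_mem {U : Set (IrrCharacter G)} {a b : G → ℂ} (ha : SMem U a) (hb : IsSignedIrr b)
    (h : ¬ SMem U b) : classInner a b = 0 := by
  obtain ⟨χ, hχ, ε, hε, rfl⟩ := ha
  obtain ⟨ψ, δ, hδ, rfl⟩ := exists_irr hb
  rw [classInner_smul_left, classInner_smul_right,
    classInner_irr_ne χ.2 ψ.2 (fun e => h ⟨ψ, (Subtype.ext e : χ = ψ) ▸ hχ, δ, hδ, rfl⟩)]
  simp

/-- The characters whose central character at `g` is congruent to `|G : C(g)|`. -/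
def congrAt (M : Ideal AlgInt) (g : G) : Set (IrrCharacter G) :=
  {χ | MemLocalIdeal M (centralChar (χ : G → ℂ) g - ((Subgroup.centralizer ({g} : Set G)).index : ℂ))}

theorem congrAt_blocks (hM : IsPModular r M) (g : G) :
    ∀ ψ ∈ congrAt M g, blockOf M (ψ : G → ℂ) ⊆ congrAt M g := by
  intro ψ hψ φ hφ
  have hψ' : MemLocalIdeal M
      (centralChar (ψ : G → ℂ) g - ((Subgroup.centralizer ({g} : Set G)).index : ℂ)) := hψ
  have h := memIdeal_add hM (memIdeal_neg hM (hφ g)) hψ'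
  show MemLocalIdeal M _
  convert h using 1
  ring

/-- The residue at an involution decides the membership. -/
theorem smem_congrAt [Fact r.Prime] (hM : IsPModular r M) (hr2 : r ≠ 2) {z : G}
    (hN : ¬ r ∣ (Subgroup.centralizer ({z} : Set G)).index) {a : G → ℂ} (ha : IsSignedIrr a)
    {c d : ℤ} (hc : a z = (c : ℂ)) (hd : a 1 = (d : ℂ)) (hc0 : c ≠ 0) :
    (Near r d c → SMem (congrAt M z) a) ∧ (Near r d (-c) → ¬ SMem (congrAt M z) a) := by
  obtain ⟨χ, ε, hε, rfl⟩ := exists_irr ha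
  have he : ε ≠ 0 := by rcases hε with rfl | rfl <;> norm_num
  set N := (Subgroup.centralizer ({z} : Set G)).index with hNdef
  have hd0 : (d : ℂ) ≠ 0 := by rw [← hd]; exact mul_ne_zero he (irr_ne_zero χ.2)
  have hω : centralChar (χ : G → ℂ) z = (N : ℂ) * c / d := by
    rw [centralChar, ← hNdef, ← hc, ← hd, Pi.smul_apply, Pi.smul_apply, smul_eq_mul, smul_eq_mul,
      mul_left_comm, mul_div_mul_left _ _ he]
  obtain ⟨w, hw⟩ : ∃ w : ℤ, centralChar (χ : G → ℂ) z = (w : ℂ) := by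
    have hint : IsIntegral ℤ (centralChar (χ : G → ℂ) z) := isIntegral_clv z χ
    rw [hω, show ((N : ℂ) * c / d) = (((N : ℚ) * c / d : ℚ) : ℂ) by push_cast; rfl] at hint
    obtain ⟨w, hw⟩ := exists_int_of_isIntegral_ratCast hint
    refine ⟨w, ?_⟩
    rw [hω, show ((N : ℂ) * c / d) = (((N : ℚ) * c / d : ℚ) : ℂ) by push_cast; rfl, hw]
    norm_cast
  have hwd : w * d = (N : ℤ) * c := by
    apply Int.cast_injective (α := ℂ)
    push_cast
    rw [← hw, hω, div_mul_cancel₀ _ hd0]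
  have hp := Nat.prime_iff_prime_int.1 (Fact.out : r.Prime)
  have hN0 : N ≠ 0 := Subgroup.index_ne_zero_of_finite
  have key : ∀ {c' : ℤ} {ε' : ℤ}, c' = ε' * c → ε' * ε' = 1 → Near r d c' → (r : ℤ) ∣ w - ε' * N := by
    rintro c' ε' rfl hee ⟨k, l, hk, e⟩
    have h1 : c * (w * ε' * (k + r * l)) = c * ((N : ℤ) * k) := by
      linear_combination -w * e + k * hwd
    have h2 := mul_left_cancel₀ hc0 h1
    refine (hp.dvd_or_dvd (a := w - ε' * N) (b := k) ⟨-(w * l), ?_⟩).resolve_right hk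
    linear_combination ε' * h2 - w * (k + r * l) * hee
  have hmem : ∀ {x : ℂ}, x = ((w - N : ℤ) : ℂ) → (MemLocalIdeal M x ↔ (r : ℤ) ∣ w - N) := fun {x} hx => by
    rw [hx, memIdeal_intCast_iff hM]
  constructor
  · intro h
    refine ⟨χ, ?_, ε, hε, rfl⟩
    show MemLocalIdeal M _
    rw [hw, hmem (by push_cast; rfl)]
    simpa using key (ε' := 1) (by ring) (by ring) h
  · rintro h ⟨ψ, hψ, δ, -, e⟩
    obtain rfl : χ = ψ := sign_irr_unique he e
    have hψ' : MemLocalIdeal M (centralChar (χ : G → ℂ) z - (N : ℂ)) := hψ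
    rw [hw, hmem (by push_cast; rfl)] at hψ'
    have h1 := key (ε' := -1) (by ring) (by ring) h
    have h3 : (r : ℤ) ∣ 2 * (N : ℤ) := by
      have := dvd_sub h1 hψ'
      rwa [show w - -1 * (N : ℤ) - (w - N) = 2 * N by ring] at this
    rcases hp.dvd_or_dvd h3 with h4 | h4
    · exact hr2 ((Nat.prime_dvd_prime_iff_eq Fact.out Nat.prime_two).1 (Int.natCast_dvd_natCast.1 h4))
    · exact hN (Int.natCast_dvd_natCast.1 h4)

theorem Near.neg {r : ℕ} {X Y : ℤ} (h : Near r X Y) : Near r (-X) (-Y) := by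
  obtain ⟨k, l, hk, e⟩ := h
  exact ⟨k, l, hk, by linear_combination -e⟩

/-- The weighted squares of a generalized character of three signed irreducible constituents. -/
theorem sum_three {f a b c : G → ℂ} (ha : IsSignedIrr a) (hb : IsSignedIrr b) (hc : IsSignedIrr c)
    (hf : f = -a + b + c) (x : G) :
    ∑ χ : IrrCharacter G, classInner f (χ : G → ℂ) * (χ : G → ℂ) x ^ 2 / (χ : G → ℂ) 1 =
      -(a x ^ 2 / a 1) + b x ^ 2 / b 1 + c x ^ 2 / c 1 := by
  simp only [hf, classInner_add_left, classInner_neg_left, add_mul, neg_mul, add_div, neg_div,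
    Finset.sum_add_distrib, Finset.sum_neg_distrib, sum_signed ha, sum_signed hb, sum_signed hc]

end CfsgLib.RankTwoModel.L4
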