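import Cfsg.Agent.Lib.RankTwoModel.L4.SemiLocal
import Cfsg.Agent.Lib.RankTwoModel.L4.SemiParts

/-!
The character contradiction of the semidihedral half of L4 (blueprint/RankTwo_L45.md, D3).

`upF = -1 + F_ + b` with `F_` the fifth character of the principal system; the parts of `upX` at the residue of the
central character give `upX = -b + p + q`, and Brauer's identity forces `(Q - 1) (B + Q)² = 0`.
-/

set_option autoImplicit false
set_option linter.unusedSectionVars false
set_option linter.style.haveILetI false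

namespace CfsgLib.RankTwoModel.L4

open Cfsg CfsgLib.CharTheory CfsgLib.BrauerOrder CfsgLib.Blocks CfsgLib.BrauerTwist
open scoped ComplexConjugate

universe u v

variable {G : Type u} [Group G] [Fintype G] {z : G} [Fintype (Cz z)] {Ω : Type v} [MulAction (Cz z) Ω]
  [Finite Ω] {D : Sys G z}

/-- The coordinates of the induced sign twist. -/
theorem twist_coords {c : Fin 6 → ℤ} (h0 : c 0 = 0) (h1 : c 1 + c 2 = -1) (h2 : c 1 + c 3 + c 5 = 1)
    (h3 : c 4 + c 3 = 0) (hb : c 0 ^ 2 + c 1 ^ 2 + c 2 ^ 2 + c 3 ^ 2 + c 4 ^ 2 + c 5 ^ 2 ≤ 3) :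
    c 1 = 0 ∧ c 2 = -1 ∧ ((c 3 = 0 ∧ c 4 = 0 ∧ c 5 = 1) ∨ (c 3 = 1 ∧ c 4 = -1 ∧ c 5 = 0)) := by
  have e2 : c 2 = -1 - c 1 := by omega
  have e4 : c 4 = -c 3 := by omega
  have e5 : c 5 = 1 - c 1 - c 3 := by omega
  rw [h0, e2, e4, e5] at hb
  rw [e2, e4, e5]
  have b1 : -1 ≤ c 1 ∧ c 1 ≤ 1 := by constructor <;> nlinarith
  have b3 : -1 ≤ c 3 ∧ c 3 ≤ 1 := by constructor <;> nlinarith
  generalize c 1 = a at hb b1 ⊢
  generalize c 3 = b at hb b3 ⊢
  obtain ⟨l1, u1⟩ := b1
  obtain ⟨l3, u3⟩ := b3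
  interval_cases a <;> interval_cases b <;> simp_all

/-- The coordinates of the twisted function against the system. -/
theorem main_coords {c : Fin 6 → ℤ} {m : ℤ} (h0 : c 0 = 0) (h1 : c 1 + c 2 = 0) (h2 : c 1 + c 3 + c 5 = 0)
    (h3 : c 4 + c 3 = 0) (hm : m + c 5 = -1)
    (hb : c 0 ^ 2 + c 1 ^ 2 + c 2 ^ 2 + c 3 ^ 2 + c 4 ^ 2 + c 5 ^ 2 ≤ 3 - m ^ 2) :
    (c 5 = 0 ∧ m = -1) ∨ (m = 0 ∧ c 5 = -1 ∧
      ((c 1 = 1 ∧ c 2 = -1 ∧ c 3 = 0 ∧ c 4 = 0) ∨ (c 1 = 0 ∧ c 2 = 0 ∧ c 3 = 1 ∧ c 4 = -1))) := by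
  have e2 : c 2 = -c 1 := by omega
  have e4 : c 4 = -c 3 := by omega
  have e5 : c 5 = -c 1 - c 3 := by omega
  have em : m = -1 + c 1 + c 3 := by omega
  rw [h0, e2, e4, e5, em] at hb
  rw [e2, e4, e5, em]
  have b1 : -1 ≤ c 1 ∧ c 1 ≤ 1 := by constructor <;> nlinarith
  have b3 : -1 ≤ c 3 ∧ c 3 ≤ 1 := by constructor <;> nlinarith
  generalize c 1 = a at hb b1 ⊢
  generalize c 3 = b at hb b3 ⊢
  obtain ⟨l1, u1⟩ := b1
  obtain ⟨l3, u3⟩ := b3
  interval_cases a <;> interval_cases b <;> simp_all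

variable (hD : D.Spec Ω)
include hD

/-- **The semidihedral system has no character of the inverted part of the core.** -/
theorem semi_false [IsSimpleGroup G] (h2 : Nat.card D.core.Z = 2)
    (hth : (D.θ ⟨D.zc, hD.core.zle false hD.zcZ⟩ : ℂ) = -1) {r : ℕ} [Fact r.Prime] (hr2 : r ≠ 2)
    (hN : Odd (Subgroup.centralizer ({z} : Set G)).index) {i : ℕ}
    (hidx : Nat.card (Cz z) =
      Nat.card (Subgroup.centralizer ({(D.w : G), z} : Set G)) * i * (D.Q * (D.Q + 1)).natAbs)
    (hri : r ∣ i) (hgc : padicValNat r (Nat.card G) = padicValNat r (Nat.card (Cz z)))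
    {F X : Cz z → ℂ} (hL : SemiLocal D Ω r F X) : False := by
  classical
  have hrp : r.Prime := Fact.out
  have hgen := hgen_all hD
  obtain ⟨M₂, hM₂⟩ := exists_isPModular Nat.prime_two
  obtain ⟨M, hM⟩ := exists_isPModular (p := r) hrp
  obtain ⟨e, he⟩ := exists_six hD hgen (M := M₂) hM₂
  obtain ⟨n₀, B, C, s, -, hsθ, E⟩ := sd_data hD h2 IsField.one (SixT.of_six he) hN hidx
  obtain rfl : n₀ = 1 := by
    have := E.d0
    rw [he.zero] at this
    change (1 : ℂ) = (n₀ : ℂ) at this
    exact_mod_cast this.symm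
  obtain rfl : s = -1 := by
    have : (s : ℂ) = ((-1 : ℤ) : ℂ) := by rw [← hsθ, hth]; norm_num
    exact_mod_cast this
  obtain ⟨hQ, hQ1, hQm⟩ := Q_facts hD
  have hQ0 : D.Q ≠ 0 := by exact_mod_cast hQ
  have hQ10 : D.Q + 1 ≠ 0 := by exact_mod_cast hQ1
  have hQm0 : D.Q - 1 ≠ 0 := by exact_mod_cast hQm
  set N := (Subgroup.centralizer ({z} : Set G)).index with hNdef
  set g := Nat.card G with hg
  set cC := Nat.card (Cz z) with hcC
  set w := Nat.card (Subgroup.centralizer ({(D.w : G), z} : Set G)) with hw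
  have hgN : g = N * cC := (Subgroup.index_mul_card _).symm
  have hNr : ¬ r ∣ N := fun hd => by
    have h1 := one_le_padicValNat_of_dvd hN.pos.ne' hd
    rw [hgN, padicValNat.mul (show N ≠ 0 from hN.pos.ne') (show cC ≠ 0 from Nat.card_pos.ne')] at hgc
    omega
  have hi0 : i ≠ 0 := fun e0 => by rw [e0, mul_zero, zero_mul] at hidx; exact Nat.card_pos.ne' hidx
  have hB0 := E.hB
  have hC0 := E.hC
  have hA0 := E.hA
  have hY0 := E.hY
  have hF0 := E.hF
  have heqN : (N : ℤ) * (B + D.Q) ^ 2 = (i : ℤ) ^ 2 * (D.Q * (D.Q + 1) ^ 3 * B * (B - 1)) := by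
    linear_combination E.eqN
  have heqC : C * (D.Q ^ 2 - B) = D.Q ^ 2 * (B - 1) := by linear_combination E.eqC
  -- the congruences
  have hκ : (cC : ℤ) ^ 3 * ((D.Q + 1) * B * (B - 1)) = (g : ℤ) * (w : ℤ) ^ 2 * (D.Q * (B + D.Q) ^ 2) := by
    have hsq : (cC : ℤ) ^ 2 = (w : ℤ) ^ 2 * (i : ℤ) ^ 2 * (D.Q * (D.Q + 1)) ^ 2 := by
      have : (cC : ℤ) = (w : ℤ) * i * |D.Q * (D.Q + 1)| := by
        rw [← Int.natCast_natAbs]
        exact_mod_cast hidx
      rw [this]
      linear_combination ((w : ℤ) ^ 2 * (i : ℤ) ^ 2) * sq_abs (D.Q * (D.Q + 1))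
    have hg' : (g : ℤ) = (N : ℤ) * cC := by exact_mod_cast hgN
    rw [hg']
    linear_combination ((cC : ℤ) * (D.Q + 1) * B * (B - 1)) * hsq - ((cC : ℤ) * (w : ℤ) ^ 2 * D.Q) * heqN
  obtain ⟨-, nB, nA, nC, nY, nF⟩ := qd_near (r := r) (g := g) (c := cC) (w := w) (i := i) (B := B) (C := C)
    Nat.card_pos.ne' Nat.card_pos.ne' hi0 hri hQ0 hQ10 hB0 (fun h => hA0 (by rw [h]; ring)) hidx hgc heqC hκ
  set U := congrAt (G := G) M z with hUdef
  have hU := congrAt_blocks (G := G) hM z
  have hy1 : ¬ r ∣ orderOf (1 : G) := by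
    rw [orderOf_one, Nat.dvd_one]; exact hrp.ne_one
  have hyz : ¬ r ∣ orderOf z := by
    rw [hD.zord]
    exact fun h => hr2 ((Nat.prime_dvd_prime_iff_eq hrp Nat.prime_two).1 h)
  have m0 : SMem U (e 0) := (smem_congrAt hM hr2 hNr (he.signed 0) (c := 1) (d := 1)
    (by rw [E.v0]; norm_num) (by rw [E.d0]) one_ne_zero).1 ⟨1, 0, fun h => by
      have := Int.eq_one_of_dvd_one (by omega) h
      exact hrp.ne_one (by omega), by ring⟩
  have m1 : ¬ SMem U (e 1) := (smem_congrAt hM hr2 hNr (he.signed 1) (c := -(D.Q + 1)) (d := 1 - B)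
    (by rw [E.v1]; push_cast; ring) (by rw [E.d1]) (neg_ne_zero.2 hQ10)).2 (by rwa [neg_neg])
  have m2 : SMem U (e 2) := (smem_congrAt hM hr2 hNr (he.signed 2) (c := -D.Q) (d := B)
    (by rw [E.v2]; push_cast; ring) (by rw [E.d2]) (neg_ne_zero.2 hQ0)).1 nB
  have m3 : SMem U (e 3) := (smem_congrAt hM hr2 hNr (he.signed 3) (c := -D.Q) (d := C)
    (by rw [E.v3]; push_cast; ring) (by rw [E.d3]) (neg_ne_zero.2 hQ0)).1 nC
  have m4 : ¬ SMem U (e 4) := (smem_congrAt hM hr2 hNr (he.signed 4) (c := 1 - D.Q) (d := -1 - C)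
    (by rw [E.v4]; push_cast; ring) (by rw [E.d4]) (fun h => hQm0 (by linarith))).2 (by rwa [neg_sub])
  have m5 : SMem U (e 5) := (smem_congrAt hM hr2 hNr (he.signed 5) (c := -1) (d := B - 1 - C)
    (by rw [E.v5]; norm_num) (by rw [E.d5]) (by norm_num)).1 nF
  have e0v : ∀ y, e 0 y = 1 := fun y => congrFun he.zero y
  have sw : ∀ {a b : G → ℂ} {c : ℤ}, classInner a b = (c : ℂ) → classInner b a = (c : ℂ) := fun {a b c} h => by
    rw [← classInner_comm, h, map_intCast]
  -- the first function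
  set P := D.up F with hPdef
  have gP : IsGeneralizedCharacter G P := isGenChar_indFun _ hL.genF
  have PP : classInner P P = 3 := (inner_up_safe hL.clF hL.safe).trans hL.FF
  have Pth : ∀ {h : Cz z → ℂ}, classInner F h = 1 → classInner (D.up h) P = 1 := fun {h} e1 => by
    rw [hPdef, inner_up_safe hL.clF hL.safe, ← classInner_comm, e1, map_one]
  have P0 : classInner P (e 0) = ((-1 : ℤ) : ℂ) := by
    rw [he.zero, hPdef, inner_up_one hD, hL.F1]; norm_num
  have Pzero : ∀ y, ¬ r ∣ orderOf y → P y = 0 := fun y hy => up_regular_zero hL.regF hy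
  obtain ⟨a, b, sa, sb, hab, eab⟩ := exists_two (isGenChar_add gP (signed_gen (he.signed 0))) (by
    rw [classInner_add_left, classInner_add_right, classInner_add_right, PP, P0, sw P0,
      classInner_self_signed (he.signed 0)]
    norm_num)
  have habU : ∀ {a b : G → ℂ}, IsSignedIrr a → IsSignedIrr b → P + e 0 = a + b → SMem U a := by
    intro a b sa sb eab
    by_contra hna
    have hp : ∀ y, ¬ r ∣ orderOf y → part U (a + b) y = 1 := fun y hy => by
      rw [← eab, part_add, part_eq_zero hM hU (fun c hc => Pzero c hc) hy, part_mem m0, e0v, zero_add]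
    have h1 := hp 1 hy1
    rw [part_add, part_not_mem sa hna, zero_add] at h1
    by_cases hb : SMem U b
    · rw [part_mem hb] at h1
      have h := congrFun eab 1
      rw [Pi.add_apply, Pi.add_apply, Pzero 1 hy1, e0v, zero_add, h1] at h
      obtain ⟨n, hn0, hn⟩ := signed_degree sa
      rw [hn] at h
      exact hn0 (by apply Int.cast_injective (α := ℂ); push_cast; linear_combination -h)
    · rw [part_not_mem sb hb] at h1
      exact zero_ne_one h1
  have ma := habU sa sb eab
  have mb := habU sb sa (eab.trans (add_comm a b))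
  obtain ⟨p, hp⟩ := coords (Sys.Six.orth6 he) gP
  have hpn : ∀ {j}, ¬ SMem U (e j) → j ≠ 0 → p j = 0 := fun {j} hj hj0 => by
    have h1 : classInner (P + e 0) (e j) = 0 := by
      rw [eab, classInner_add_left, inner_mem_not_mem ma (he.signed j) hj,
        inner_mem_not_mem mb (he.signed j) hj, add_zero]
    rw [classInner_add_left, he.orth, if_neg (Ne.symm hj0), add_zero, hp] at h1
    exact_mod_cast h1
  have p00 : p 0 = -1 := by
    have := (hp 0).symm.trans P0
    exact_mod_cast this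
  have p10 := hpn m1 (by decide)
  have p40 := hpn m4 (by decide)
  obtain ⟨p20, p30, p50⟩ : p 2 = 0 ∧ p 3 = 0 ∧ p 5 = 1 := by
    have k1 := Pth hL.Fth1
    have k2 := Pth hL.Fth2
    have k3 := Pth hL.Fth1'
    have hp' : ∀ j, classInner (e j) P = (p j : ℂ) := fun j => sw (hp j)
    rw [he.th1, classInner_add_left, classInner_add_left, classInner_neg_left, hp', hp', hp'] at k1
    rw [he.th2, classInner_neg_left, classInner_add_left, classInner_add_left, hp', hp', hp'] at k2
    rw [he.th1', classInner_add_left, classInner_add_left, hp', hp', hp'] at k3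
    have i1 : -p 0 + p 1 + p 2 = 1 := by exact_mod_cast k1
    have i2 : -(p 0 + p 4 + p 3) = 1 := by exact_mod_cast k2
    have i3 : p 1 + p 3 + p 5 = 1 := by exact_mod_cast k3
    omega
  -- the partner of the fifth character
  set bb := P + e 0 - e 5 with hbb
  have gbb : IsGeneralizedCharacter G bb :=
    isGenChar_sub (isGenChar_add gP (signed_gen (he.signed 0))) (signed_gen (he.signed 5))
  have bbj : ∀ j, classInner bb (e j) = 0 := by
    intro j
    rw [hbb, classInner_sub_left, classInner_add_left, hp, he.orth, he.orth]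
    fin_cases j <;> simp [p00, p10, p20, p30, p40, p50]
  have sbb : IsSignedIrr bb := irr_or_neg_of_norm_one gbb (by
    nth_rewrite 2 [hbb]
    rw [classInner_sub_right, classInner_add_right, bbj, bbj, hbb, classInner_sub_left, classInner_add_left, PP,
      sw P0, sw (hp 5), p50]
    norm_num)
  have bbv : ∀ y, ¬ r ∣ orderOf y → bb y = 1 - e 5 y := fun y hy => by
    rw [hbb, Pi.sub_apply, Pi.add_apply, Pzero y hy, e0v, zero_add]
  have mbb : SMem U bb := by
    by_contra h
    have h' := part_not_mem sbb h z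
    rw [hbb, part_sub, part_add, part_eq_zero hM hU (fun c hc => Pzero c hc) hyz, part_mem m0, part_mem m5,
      e0v, E.v5] at h'
    norm_num at h'
  -- the twist of the third function
  set gl : Cz z → ℂ := fun c => D.lamF c * D.th2 Ω c with hgl
  obtain ⟨gg, g1, gt1, gt1', gt2⟩ := inner_lam_th2 hD h2 hth
  obtain ⟨t1g, t1'g, t2g⟩ := gen_th hD hgen
  obtain ⟨s1, s1', s2⟩ := supp_th hD
  obtain ⟨c1, c1', c2⟩ := classFun_th hD
  have clg : IsClassFunction (Cz z) gl := fun x y => by simp only [gl, c2 x y, Sys.lamF, lam_conj hD]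
  have sg : D.Supp gl := fun x hx => by simp only [gl, s2 x hx, mul_zero]
  set W := D.up gl with hWdef
  have gW : IsGeneralizedCharacter G W := isGenChar_indFun _
    (isGenChar_mul (a := D.lamF) (isGenChar_of_char (isCharacter_of_irr (isIrrCharacter_linear D.lam))) t2g)
  have WW : classInner W W = ((3 : ℤ) : ℂ) := by rw [inner_up hD sg sg clg, gg]; norm_num
  obtain ⟨cW, hcW⟩ := coords (Sys.Six.orth6 he) gW
  have cW0 : cW 0 = 0 := by
    have := hcW 0
    rw [he.zero, hWdef, inner_up_one hD, g1] at this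
    exact_mod_cast this.symm
  obtain ⟨cw1, cw2, cwc⟩ := twist_coords cW0 (by
      have h := (inner_up hD sg s1 c1).trans gt1
      rw [he.th1, classInner_add_right, classInner_add_right, classInner_neg_right, hcW, hcW, hcW] at h
      have : -cW 0 + cW 1 + cW 2 = -1 := by exact_mod_cast h
      omega) (by
      have h := (inner_up hD sg s1' c1').trans gt1'
      rw [he.th1', classInner_add_right, classInner_add_right, hcW, hcW, hcW] at h
      exact_mod_cast h) (by
      have h := (inner_up hD sg s2 c2).trans gt2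
      rw [he.th2, classInner_neg_right, classInner_add_right, classInner_add_right, hcW, hcW, hcW] at h
      have : -(cW 0 + cW 4 + cW 3) = 0 := by exact_mod_cast h
      omega) (bessel_six (Sys.Six.orth6 he) gW hcW WW).1
  have up2z : D.up (D.th2 Ω) z = -2 * (1 - (D.Q : ℂ)) := by
    rw [he.th2, Pi.neg_apply, Pi.add_apply, Pi.add_apply, e0v, E.v4, E.v3]
    push_cast; ring
  have Wz : W z = -2 * (1 - (D.Q : ℂ)) := by
    have h := up_invol_zero hD (f := gl - D.th2 Ω) (isClassFunction_sub clg c2)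
      (by
        simp only [gl, Pi.sub_apply, Sys.lamF, hD.lamz, Units.val_one, one_mul, sub_self])
      (by simp only [gl, Pi.sub_apply, th2_w hD, mul_zero, sub_zero])
    rw [Sys.up, indFun_sub, Pi.sub_apply, sub_eq_zero] at h
    exact h.trans up2z
  have W1 : W 1 = 0 := up_one hD sg
  obtain ⟨cw3, cw4, cw5⟩ : cW 3 = 0 ∧ cW 4 = 0 ∧ cW 5 = 1 := by
    refine cwc.resolve_right fun h => ?_
    obtain ⟨d3, d4, d5⟩ := h
    have e1 := congrFun ((bessel (Sys.Six.orth6 he) gW hcW WW).2 (by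
      rw [Fin.sum_univ_six, cW0, cw1, cw2, d3, d4, d5]; norm_num)) z
    rw [Fin.sum_univ_six, Wz] at e1
    simp only [Pi.add_apply, Pi.smul_apply, smul_eq_mul, cW0, cw1, cw2, d3, d4, d5, E.v2, E.v3, E.v4] at e1
    push_cast at e1
    have : (D.Q : ℤ) - 1 = 0 := by
      apply Int.cast_injective (α := ℂ); push_cast; linear_combination e1
    exact hQm0 this
  set sW := W + e 2 - e 5 with hsW
  have ssW : IsSignedIrr sW := irr_or_neg_of_norm_one
    (isGenChar_sub (isGenChar_add gW (signed_gen (he.signed 2))) (signed_gen (he.signed 5))) (by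
      rw [hsW, classInner_sub_left, classInner_add_left, classInner_sub_right, classInner_sub_right,
        classInner_sub_right, classInner_add_right, classInner_add_right, classInner_add_right, WW, hcW, hcW,
        sw (hcW 2), sw (hcW 5), he.orth, he.orth, he.orth, he.orth, cw2, cw5]
      simp
      norm_num)
  have msW : ¬ SMem U sW := (smem_congrAt hM hr2 hNr ssW (c := D.Q - 1) (d := 1 + C)
    (by rw [hsW, Pi.sub_apply, Pi.add_apply, Wz, E.v2, E.v5]; push_cast; ring)
    (by rw [hsW, Pi.sub_apply, Pi.add_apply, W1, E.d2, E.d5]; push_cast; ring) hQm0).2 (by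
      have := Near.neg nY
      rwa [show -(-1 - C) = 1 + C by ring] at this)
  -- the second function
  set R := D.up X with hRdef
  have gR : IsGeneralizedCharacter G R := isGenChar_indFun _ hL.genX
  have RR : classInner R R = 3 := (inner_up hD hL.suppX hL.suppX hL.clX).trans hL.XX
  have RP : classInner R P = -1 := (inner_up_safe hL.clF hL.safe).trans hL.XF
  have Rreg : ∀ y, ¬ r ∣ orderOf y → R y = D.up (D.th2 Ω) y + W y := fun y hy => by
    have h := up_regular_zero (D := D) (f := X - D.th2 Ω - gl)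
      (fun c hc => by simp only [Pi.sub_apply, gl, hL.regX c hc]; ring) hy
    rw [Sys.up, indFun_sub, indFun_sub, Pi.sub_apply, Pi.sub_apply] at h
    linear_combination h
  obtain ⟨cR, hcR⟩ := coords (Sys.Six.orth6 he) gR
  have cR0 : cR 0 = 0 := by
    have := hcR 0
    rw [he.zero, hRdef, inner_up_one hD, hL.X1] at this
    exact_mod_cast this.symm
  obtain ⟨m, hm⟩ := coeff_int gR sbb
  have hmR : m + cR 5 = -1 := by
    have h : classInner R bb = ((-1 - cR 5 : ℤ) : ℂ) := by
      rw [hbb, classInner_sub_right, classInner_add_right, RP, hcR, hcR, cR0]; push_cast; ring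
    have : m = -1 - cR 5 := by exact_mod_cast hm.symm.trans h
    omega
  set φ := R - (m : ℂ) • bb with hφdef
  have gφ : IsGeneralizedCharacter G φ := isGenChar_sub gR (isGenChar_intSmul m gbb)
  have hcφ : ∀ j, classInner φ (e j) = (cR j : ℂ) := fun j => by
    rw [hφdef, classInner_sub_left, classInner_smul_left, bbj, hcR, mul_zero, sub_zero]
  have Nφ : classInner φ φ = ((3 - m ^ 2 : ℤ) : ℂ) := by
    rw [hφdef, classInner_sub_left, classInner_sub_right, classInner_sub_right, classInner_smul_left,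
      classInner_smul_left, classInner_smul_right, classInner_smul_right, RR, hm, sw hm,
      classInner_self_signed sbb, map_intCast]
    push_cast; ring
  have r1 : cR 1 + cR 2 = 0 := by
    have h := (inner_up hD hL.suppX s1 c1).trans hL.Xth1
    rw [he.th1, classInner_add_right, classInner_add_right, classInner_neg_right, hcR, hcR, hcR] at h
    have : -cR 0 + cR 1 + cR 2 = 0 := by exact_mod_cast h
    omega
  have r2 : cR 1 + cR 3 + cR 5 = 0 := by
    have h := (inner_up hD hL.suppX s1' c1').trans hL.Xth1'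
    rw [he.th1', classInner_add_right, classInner_add_right, hcR, hcR, hcR] at h
    exact_mod_cast h
  have r3 : cR 4 + cR 3 = 0 := by
    have h := (inner_up hD hL.suppX s2 c2).trans hL.Xth2
    rw [he.th2, classInner_neg_right, classInner_add_right, classInner_add_right, hcR, hcR, hcR] at h
    have : -(cR 0 + cR 4 + cR 3) = 0 := by exact_mod_cast h
    omega
  have Rz : R z = -4 * (1 - (D.Q : ℂ)) := by rw [Rreg z hyz, up2z, Wz]; ring
  have R1 : R 1 = 0 := up_one hD hL.suppX
  obtain ⟨-, hmv⟩ : cR 5 = 0 ∧ m = -1 := by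
    refine (main_coords cR0 r1 r2 r3 hmR (bessel_six (Sys.Six.orth6 he) gφ hcφ Nφ).1).resolve_right fun h => ?_
    obtain ⟨d0, d5, hd⟩ := h
    have e1 := congrFun ((bessel (Sys.Six.orth6 he) gφ hcφ Nφ).2 (by
      rw [Fin.sum_univ_six, cR0, d5, d0]
      rcases hd with ⟨a1, a2, a3, a4⟩ | ⟨a1, a2, a3, a4⟩ <;> rw [a1, a2, a3, a4] <;> norm_num)) z
    rw [Fin.sum_univ_six, hφdef, d0] at e1
    simp only [Pi.sub_apply, Pi.add_apply, Pi.smul_apply, smul_eq_mul, Rz, cR0, d5, E.v1, E.v2, E.v3, E.v4,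
      E.v5] at e1
    have : (D.Q : ℤ) - 1 = 0 := by
      apply Int.cast_injective (α := ℂ)
      rcases hd with ⟨a1, a2, a3, a4⟩ | ⟨a1, a2, a3, a4⟩ <;> rw [a1, a2, a3, a4] at e1 <;> push_cast at e1 ⊢ <;>
        linear_combination (1 / 4 : ℂ) * e1
    exact hQm0 this
  obtain ⟨p', q', sp, sq', -, epq⟩ := exists_two (isGenChar_add gR gbb) (by
    rw [classInner_add_left, classInner_add_right, classInner_add_right, RR, hm, sw hm,
      classInner_self_signed sbb, hmv]
    norm_num)
  have hWy : ∀ y, part U W y = -e 2 y + e 5 y := fun y => by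
    have e1 : W = sW - e 2 + e 5 := by rw [hsW]; ring
    rw [e1, part_add, part_sub, part_not_mem ssW msW, part_mem m2, part_mem m5, zero_sub]
  have hpart : ∀ y, ¬ r ∣ orderOf y → part U p' y + part U q' y = -(e 2 y + e 3 y) := fun y hy => by
    have h0 := part_eq_zero hM hU (f := R - D.up (D.th2 Ω) - W)
      (fun c hc => by rw [Pi.sub_apply, Pi.sub_apply, Rreg c hc]; ring) hy
    rw [part_sub, part_sub, hWy, he.th2, part_neg, part_add, part_add, part_mem m0, part_mem m3,
      part_not_mem (he.signed 4) m4, e0v] at h0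
    rw [← part_add, ← epq, part_add, part_mem mbb, bbv y hy]
    linear_combination h0
  have htot : ∀ y, R y + bb y = p' y + q' y := fun y => congrFun epq y
  obtain ⟨p, q, sp, sq', mp, mq, epq'⟩ : ∃ p q : G → ℂ, IsSignedIrr p ∧ IsSignedIrr q ∧ SMem U p ∧ ¬ SMem U q ∧
      p' + q' = p + q := by
    have k := hpart z hyz
    by_cases hp' : SMem U p' <;> by_cases hq' : SMem U q'
    · exfalso
      rw [part_mem hp', part_mem hq', ← htot, Rz, bbv z hyz, E.v2, E.v3, E.v5] at k
      have : D.Q - 1 = 0 := by apply Int.cast_injective (α := ℂ); push_cast; linear_combination k / 2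
      exact hQm0 this
    · exact ⟨p', q', sp, sq', hp', hq', rfl⟩
    · exact ⟨q', p', sq', sp, hq', hp', add_comm _ _⟩
    · exfalso
      rw [part_not_mem sp hp', part_not_mem sq' hq', E.v2, E.v3] at k
      have : D.Q = 0 := by apply Int.cast_injective (α := ℂ); push_cast; linear_combination -k / 2
      exact hQ0 this
  have hval : ∀ y, ¬ r ∣ orderOf y → p y = -(e 2 y + e 3 y) ∧ p y + q y = R y + bb y := fun y hy => by
    refine ⟨?_, ((congrFun epq' y).symm.trans (htot y).symm)⟩
    have h := hpart y hy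
    rwa [← part_add, epq', part_add, part_mem mp, part_not_mem sq' mq, add_zero] at h
  obtain ⟨p1, pq1⟩ := hval 1 hy1
  obtain ⟨pz, pqz⟩ := hval z hyz
  rw [E.d2, E.d3] at p1
  rw [E.v2, E.v3] at pz
  rw [p1, R1, bbv 1 hy1, E.d5] at pq1
  rw [pz, Rz, bbv z hyz, E.v5] at pqz
  have q1 : q 1 = ((2 + 2 * C : ℤ) : ℂ) := by push_cast at pq1 ⊢; linear_combination pq1
  have qz : q z = 2 * (D.Q : ℂ) - 2 := by linear_combination pqz
  have eR : R = -bb + p + q := by
    have : R + bb = p + q := epq.trans epq'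
    rw [eq_sub_of_add_eq this]; ring
  -- Brauer's identity
  have hid := pair_identity hD (zcw_conj hD) hL.suppX hL.clX
  rw [hL.Xw, mul_zero, ← hRdef, sum_three sbb sp sq' eR, pz, qz, q1, bbv z hyz, bbv 1 hy1, E.v5, E.d5, p1] at hid
  have hb1 : (2 + C - B : ℤ) ≠ 0 := by
    obtain ⟨n, hn0, hn⟩ := signed_degree sbb
    rw [bbv 1 hy1, E.d5] at hn
    intro h
    exact hn0 (by
      apply Int.cast_injective (α := ℂ)
      rw [← hn, show B - 1 - C = 1 by omega]; simp)
  have hp1 : (-B - C : ℤ) ≠ 0 := by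
    obtain ⟨n, hn0, hn⟩ := signed_degree sp
    rw [p1] at hn
    intro h
    exact hn0 (by
      apply Int.cast_injective (α := ℂ)
      rw [← hn, show B = -C by omega]; simp)
  have hsq : ((2 + 2 * C) + (D.Q - 1) * (2 + C - B)) ^ 2 = 0 := by
    apply Int.cast_injective (α := ℂ)
    have a1 : (2 : ℂ) + C - B ≠ 0 := fun h => hb1 (by
      apply Int.cast_injective (α := ℂ); push_cast; linear_combination h)
    have a2 : -(B : ℂ) - C ≠ 0 := fun h => hp1 (by
      apply Int.cast_injective (α := ℂ); push_cast; linear_combination h)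
    have a3 : (2 : ℂ) + 2 * C ≠ 0 := fun h => hY0 (by
      have : (2 + 2 * C : ℤ) = 0 := by apply Int.cast_injective (α := ℂ); push_cast; linear_combination h
      omega)
    have h4 : -(4 / ((2 : ℂ) + C - B)) + (2 * (D.Q : ℂ)) ^ 2 / (-(B : ℂ) - C) +
        (2 * (D.Q : ℂ) - 2) ^ 2 / ((2 : ℂ) + 2 * C) = 0 := by
      push_cast at hid
      convert hid using 3 <;> ring
    rw [← neg_div, div_add_div _ _ a1 a2, div_add_div _ _ (mul_ne_zero a1 a2) a3] at h4
    have h5 := (div_eq_zero_iff.1 h4).resolve_right (mul_ne_zero (mul_ne_zero a1 a2) a3)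
    push_cast
    linear_combination h5 / 4
  have hlin := eq_zero_of_pow_eq_zero hsq
  have hfin : (D.Q - 1) * (B + D.Q) ^ 2 = 0 := by
    linear_combination (D.Q ^ 2 - B) * hlin - (D.Q + 1) * heqC
  rw [(mul_eq_zero.1 hfin).resolve_left hQm0, mul_zero] at heqN
  refine mul_ne_zero (pow_ne_zero 2 (Int.natCast_ne_zero.2 hi0)) ?_ heqN.symm
  exact mul_ne_zero (mul_ne_zero (mul_ne_zero hQ0 (pow_ne_zero 3 hQ10)) hB0) (fun h => hA0 (by linarith))

end CfsgLib.RankTwoModel.L4
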