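import Cfsg.Agent.Lib.RankTwoModel.L4.SemiChar.Inner
import Cfsg.Agent.Lib.RankTwoModel.L4.SemiChar
import Mathlib.GroupTheory.FiniteAbelian.Duality

/-!
# The semidihedral case without moved character

A character of `r`-power order of the kernel of `lam`, inverted by `w`, non-trivial on a central element of `O`
and with safe `r`-elements gives the data of `SemiLocal`; so there is none.

Blueprint: `blueprint/RankTwo_L45.md`, D3.
-/

set_option autoImplicit false
set_option linter.unusedSectionVars false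
set_option linter.style.haveILetI false

namespace CfsgLib.RankTwoModel.L4

open Cfsg CfsgLib.CharTheory CfsgLib.BrauerOrder CfsgLib.Blocks CfsgLib.Blocks.AbelianFree SemiChar
open scoped ComplexConjugate

universe u v

variable {G : Type u} [Group G] [Fintype G] {z : G} [Fintype (Cz z)] {Ω : Type v} [MulAction (Cz z) Ω]

/-- The two functions of the character have the properties of `SemiLocal`. -/
theorem semiLocal_of {D : Sys G z} {r : ℕ} {χ : ↥D.lam.ker →* ℂˣ} (H : Hyps D Ω r χ)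
    (hθ : (D.θ ⟨D.zc, H.spec.core.zle false H.spec.zcZ⟩ : ℂ) = -1) :
    SemiLocal D Ω r (fun1 D χ) (psi χ * D.th2 Ω) := by
  haveI := finite_omega H.spec.core
  have hgen := hgen_all H.spec
  obtain ⟨-, -, g2⟩ := gen_th H.spec hgen
  obtain ⟨-, -, c2⟩ := classFun_th H.spec
  obtain ⟨i1, i2, i3, i4, i5, i6, i7, i8, i9, i10, i11⟩ := inner_local H hθ
  refine
    { genF := fun1_gen H
      genX := isGenChar_mul (psi_gen H.spec.lamsq (lam_w H) H.inv) g2
      clF := fun1_classFun H
      clX := isClassFunction_mul (psi_classFun H.spec.lamsq (lam_w H) H.inv) c2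
      suppX := supp_psi H
      safe := fun1_safe H
      regF := fun c hc => fun1_regular H hc
      regX := fun c hc => ?_
      FF := i1, F1 := i2, Fth1 := i3, Fth1' := i4, Fth2 := i5, XX := i6, X1 := i7
      XF := by rw [← classInner_comm, i11, map_neg, map_one]
      Xth1 := i8, Xth1' := i9, Xth2 := i10
      Xw := ?_ }
  · show psi χ c * D.th2 Ω c = _
    rw [psi_regular H hc, Sys.lamF, add_mul, one_mul]
  · have hw : D.w ∉ D.lam.ker := fun h => by
      have e := lam_w H
      rw [MonoidHom.mem_ker.1 h, Units.val_one] at e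
      norm_num at e
    obtain ⟨s1, s2, s3⟩ := signed_parts H hθ
    simp only [psi_th2_eq H, classInner_add_left, classInner_sub_left, add_mul, sub_mul, add_div, sub_div,
      Finset.sum_add_distrib, Finset.sum_sub_distrib, sum_signed s1, sum_signed s2, sum_signed s3, Pi.mul_apply,
      psi_not_mem χ hw]
    ring

/-- The character of the cyclic torus may be taken non-trivial at the involution. -/
theorem exists_theta {D : Sys G z} (hD : D.Spec Ω) :
    ∃ φ : ↥(D.core.T false) →* ℂˣ, (φ ⟨D.zc, hD.core.zle false hD.zcZ⟩ : ℂ) = -1 ∧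
      ({ D with θ := φ } : Sys G z).Spec Ω := by
  set zz : ↥(D.core.T false) := ⟨D.zc, hD.core.zle false hD.zcZ⟩
  set cj := D.core.conjChar (hD.core.nnorm false)
  have hzz : zz * zz = 1 := Subtype.ext (zc_ne hD).2
  have hval : ∀ μ : ↥(D.core.T false) →* ℂˣ, (μ zz : ℂ) = 1 ∨ (μ zz : ℂ) = -1 := fun μ =>
    mul_self_eq_one_iff.1 (by rw [← Units.val_mul, ← map_mul, hzz, map_one, Units.val_one])
  have hcj : ∀ μ : ↥(D.core.T false) →* ℂˣ, (cj μ zz : ℂ) = (μ zz : ℂ) := fun μ => by
    show ((μ ⟨D.core.n false * D.zc * (D.core.n false)⁻¹, _⟩ : ℂˣ) : ℂ) = _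
    congr 2
    exact Subtype.ext ((hD.core.nfix false _ (hD.core.zle false hD.zcZ)).2 hD.zcZ)
  rcases hval D.θ with h1 | h1
  swap
  · exact ⟨D.θ, h1, hD⟩
  obtain ⟨φ, hφ⟩ : ∃ φ : ↥(D.core.T false) →* ℂˣ, (φ zz : ℂ) = -1 := by
    letI : CommGroup ↥(D.core.T false) :=
      { (inferInstance : Group ↥(D.core.T false)) with
        mul_comm := fun a b => Subtype.ext (hD.core.tcomm false a a.2 b b.2) }
    obtain ⟨φ, hφ⟩ := CommGroup.exists_apply_ne_one_of_hasEnoughRootsOfUnity (↥(D.core.T false)) ℂ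
      (show zz ≠ 1 from fun e => (zc_ne hD).1 (congrArg Subtype.val e))
    exact ⟨φ, (hval φ).resolve_left fun e => hφ (Units.ext (by simpa using e))⟩
  have hne : cj φ ≠ φ := fun e => by
    have := hD.thfix φ e
    rw [hφ] at this
    norm_num at this
  have hval_ne : ∀ {μ ν : ↥(D.core.T false) →* ℂˣ}, (μ zz : ℂ) = 1 → (ν zz : ℂ) = -1 → μ ≠ ν :=
    fun {μ ν} hμ hν e => by rw [e, hν] at hμ; norm_num at hμ
  refine ⟨φ, hφ, { hD with thne := hne, extra := ?_ }⟩
  rcases hD.extra with h | h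
  swap
  · exact Or.inr h
  refine Or.inl fun ν hν => ?_
  have hcc : ∀ μ : ↥(D.core.T false) →* ℂˣ, cj (cj μ) = μ := fun μ => conjChar_conjChar hD false μ
  by_cases ho : ν = D.θ ∨ ν = cj D.θ
  · obtain ⟨ψ, p1, p2, p3, p4, p5⟩ := h φ hne
    refine ⟨ψ, p1, p4, p5, ?_, ?_⟩
    · rcases ho with rfl | rfl
      exacts [p2, p3]
    · rcases ho with rfl | rfl
      · exact p3
      · exact fun e => p2 (e.trans (hcc D.θ))
  · obtain ⟨ho1, ho2⟩ := not_or.1 ho
    exact ⟨D.θ, hD.thne, hval_ne h1 hφ, hval_ne h1 (by rw [hcj, hφ]), Ne.symm ho1,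
      fun e => ho2 (by rw [← hcc ν]; exact congrArg cj e.symm)⟩

/-- **The semidihedral case without a moved character is impossible.** -/
theorem semi_false_of_char [IsSimpleGroup G] {D : Sys G z} (hD : D.Spec Ω) [Finite Ω]
    (h2 : Nat.card D.core.Z = 2) {r : ℕ} [Fact r.Prime] (hr2 : r ≠ 2)
    (hN : Odd (Subgroup.centralizer ({z} : Set G)).index) {i : ℕ}
    (hidx : Nat.card (Cz z) =
      Nat.card (Subgroup.centralizer ({(D.w : G), z} : Set G)) * i * (D.Q * (D.Q + 1)).natAbs)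
    (hri : r ∣ i) (hgc : padicValNat r (Nat.card G) = padicValNat r (Nat.card (Cz z)))
    (lamh : ↥D.lam.ker →* ℂˣ) (hpow : ∀ k, ∃ n : ℕ, lamh k ^ r ^ n = 1)
    (hinv : ∀ k k' : ↥D.lam.ker, D.w * (k : Cz z) * D.w⁻¹ = k' → lamh k' = (lamh k)⁻¹)
    (hy : ∃ y : ↥D.lam.ker, lamh y ≠ 1 ∧ (y : Cz z) ∈ D.core.O ∧
      ∀ k ∈ D.lam.ker, (y : Cz z) * k = k * (y : Cz z))
    (hsafe : ∀ a : ↥D.lam.ker, lamh a ≠ 1 → (∃ n : ℕ, orderOf a = r ^ n) →
      Subgroup.centralizer ({((a : Cz z) : G)} : Set G) ≤ Subgroup.centralizer ({z} : Set G)) : False := by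
  obtain ⟨φ, hφ, hD'⟩ := exists_theta hD
  let D' : Sys G z := { D with θ := φ }
  have H : Hyps D' Ω r lamh :=
    { spec := hD', z2 := h2, rp := Fact.out, r2 := hr2, pow := hpow, inv := hinv, y0 := hy, safe := hsafe }
  exact semi_false (D := D') hD' h2 hφ hr2 hN hidx hri hgc (semiLocal_of H hφ)

end CfsgLib.RankTwoModel.L4
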