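import Cfsg.Agent.Lib.RankTwoModel.L4.FlatOf
import Cfsg.Agent.Lib.RankTwoModel.L4.SemiFun

/-!
The kernel of the sign and its character in the flat case of L4 (blueprint/RankTwo_L45.md, D3).

`ker lam = L = D × O`, so the characters of `O` of `r`-power order extend to it, and are inverted by the second
involution: with safe elements this is impossible.
-/

set_option autoImplicit false
set_option linter.unusedSectionVars false
set_option linter.style.haveILetI false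

namespace CfsgLib.RankTwoModel.L4

open Cfsg CfsgLib.BrauerOrder CfsgLib.GW CfsgLib.BG CfsgLib.RankTwo

universe u

variable {G : Type u} [Group G] [Fintype G] {d : Frame G} {g : G}

/-- A character of prime power order non-trivial somewhere. -/
theorem exists_r_char {A : Type*} [CommGroup A] [Finite A] {r : ℕ} [hr : Fact r.Prime] (h : r ∣ Nat.card A) :
    ∃ (χ : A →* ℂˣ) (y : A) (a : ℕ), χ y ≠ 1 ∧ ∀ x, χ x ^ r ^ a = 1 := by
  classical
  obtain ⟨y, hy⟩ := exists_prime_orderOf_dvd_card' r h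
  obtain ⟨a, m, hm, hn⟩ := Nat.exists_eq_pow_mul_and_not_dvd (Nat.card_pos (α := A)).ne' r hr.out.ne_one
  have hy2 : y ^ m ≠ 1 := fun e => hm (hy ▸ orderOf_dvd_of_pow_eq_one e)
  obtain ⟨φ, hφ⟩ := CommGroup.exists_apply_ne_one_of_hasEnoughRootsOfUnity A ℂ hy2
  refine ⟨φ ^ m, y, a, by rwa [MonoidHom.pow_apply, ← map_pow], fun x => ?_⟩
  rw [MonoidHom.pow_apply, ← pow_mul, mul_comm, ← hn, ← map_pow, pow_card_eq_one', map_one]

/-- **The flat semidihedral case is impossible**, given the safety of the `r`-elements outside `D`. -/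
theorem Flat.semi_false (F : Flat d g) (R : Rep d) {r : ℕ} [hr : Fact r.Prime] (hrO : r ∣ Nat.card d.O)
    (hsafe : ∀ x ∈ d.D, x ≠ 1 → ∀ o ∈ d.O, o ≠ 1 → ∀ j : ℕ, x ^ r ^ j = 1 → o ^ r ^ j = 1 →
      Subgroup.centralizer ({x * o} : Set G) ≤ d.C) : False := by
  classical
  have hd := F.ctx.spec
  haveI := F.ctx.hyp.simple
  haveI : Fintype (Cz d.z) := Fintype.ofFinite _
  haveI := d.D_perfect
  obtain ⟨Ω, iΩ, D, hOe, hD, hqc, -, hZ⟩ := hd.exists_sys_core F.ctx.hyp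
  haveI : Finite Ω := BrauerOrder.finite_omega hD.core
  have h2 : Nat.card D.core.Z = 2 := by
    rcases hZ with ⟨-, h⟩ | ⟨hw, -⟩
    · exact h
    · exact (BrauerOrder.not_qd_wreathed F.sd hw).elim
  obtain ⟨g', c', hw⟩ := exists_ctx hd F.ctx.hyp F.ctx.hq F.ctx.od hD
  have hwinv : ∀ o ∈ d.O, inv2 d g' * o * (inv2 d g')⁻¹ = o⁻¹ := fun o ho =>
    F.invol_inverts c'.inv2_mem c'.inv2_order c'.inv2_ne ho
  have hI : invI d (inv2 d g') = d.O :=
    le_antisymm c'.invI_le fun x hx => c'.mem_invI.2 ⟨hx, hwinv x hx⟩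
  have hidx := c'.index_sd R hD hw hqc F.sd
  rw [hI] at hidx
  have hr2 : r ≠ 2 := fun e => (d.O_odd.of_dvd_nat hrO).not_two_dvd_nat (dvd_of_eq e.symm)
  -- the kernel of the sign is `L`
  have hlamD : ∀ (x : G) (hx : x ∈ d.D), D.lam ⟨x, d.D_le hx⟩ = 1 := fun x hx => by
    have h1 := Abelianization.commutator_subset_ker (D.lam.comp (Subgroup.inclusion d.D_le))
    rw [Group.IsPerfect.commutator_eq_top (G := ↥d.D)] at h1
    exact h1 (Subgroup.mem_top ⟨x, hx⟩)
  have hlamO : ∀ (o : G) (ho : o ∈ d.O), D.lam ⟨o, d.O_le ho⟩ = 1 := fun o ho => by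
    have h1 : D.lam ⟨o, d.O_le ho⟩ ^ 2 = 1 := (pow_two _).trans (hD.lamsq _)
    have h3 : D.lam ⟨o, d.O_le ho⟩ ^ Nat.card d.O = 1 := by
      rw [← map_pow, show (⟨o, d.O_le ho⟩ : ↥(Subgroup.centralizer ({d.z} : Set G))) ^ Nat.card d.O = 1 from
        Subtype.ext (orderOf_dvd_iff_pow_eq_one.1 (Subgroup.orderOf_dvd_natCard _ ho)), map_one]
    rw [← pow_one (D.lam _), ← (Nat.coprime_two_left.2 d.O_odd).gcd_eq_one]
    exact pow_gcd_eq_one.mpr ⟨h1, h3⟩
  have hlamL : ∀ (x : G) (hx : x ∈ d.L), D.lam ⟨x, d.L_le hx⟩ = 1 := fun x hx => by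
    obtain ⟨y, hy, o, ho, rfl⟩ := F.decomp hx
    exact (map_mul D.lam ⟨y, d.D_le hy⟩ ⟨o, d.O_le ho⟩).trans (by rw [hlamD y hy, hlamO o ho, mul_one])
  have hlamu : D.lam ⟨inv2 d g, F.ctx.inv2_mem⟩ ≠ 1 := fun hu => by
    obtain ⟨t, -, ht⟩ := hD.lamN
    have : D.lam t = 1 := by
      rcases F.split t t.2 with h | h
      · exact hlamL _ h
      · have h1 := (map_mul D.lam ⟨inv2 d g, F.ctx.inv2_mem⟩ t).symm.trans (hlamL _ h)
        rwa [hu, one_mul] at h1
    rw [this] at ht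
    have := congrArg Units.val ht
    norm_num at this
  have hker : ∀ k : ↥D.lam.ker, ((k : Cz d.z) : G) ∈ d.L := fun k => by
    refine (F.split _ (k : Cz d.z).2).resolve_right fun h => hlamu ?_
    have h1 := (map_mul D.lam ⟨inv2 d g, F.ctx.inv2_mem⟩ (k : Cz d.z)).symm.trans (hlamL _ h)
    rwa [MonoidHom.mem_ker.1 k.2, mul_one] at h1
  -- the projection on the core
  letI : CommGroup d.O := { (inferInstance : Group d.O) with mul_comm := fun a b => Subtype.ext (F.O_comm a.2 b.2) }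
  choose px hpx po hpo hdec using fun k : ↥D.lam.ker => F.decomp (hker k)
  have hρ : ∀ (k : ↥D.lam.ker) {x o : G}, x ∈ d.D → o ∈ d.O → ((k : Cz d.z) : G) = x * o → po k = o :=
    fun k x o hx ho e => (F.eq_of_decomp (hpx k) hx (hpo k) ho ((hdec k).symm.trans e)).2
  let ρ : ↥D.lam.ker →* d.O := MonoidHom.mk' (fun k => ⟨po k, hpo k⟩) fun k k' => Subtype.ext (by
    show po (k * k') = po k * po k'
    refine hρ _ (mul_mem (hpx k) (hpx k')) (mul_mem (hpo k) (hpo k')) ?_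
    show ((k : Cz d.z) : G) * ((k' : Cz d.z) : G) = _
    rw [hdec k, hdec k']
    have hc : Commute (po k) (px k') := F.ctx.od _ (hpo k) _ (hpx k')
    calc px k * po k * (px k' * po k') = px k * (po k * px k') * po k' := by group
      _ = _ := by rw [hc.eq]; group)
  obtain ⟨χ, y, a, hy, hpow⟩ := exists_r_char hrO
  have hkerO : ∀ (o : G) (ho : o ∈ d.O), (⟨o, d.O_le ho⟩ : Cz d.z) ∈ D.lam.ker := fun o ho =>
    MonoidHom.mem_ker.2 (hlamO o ho)
  have hρO : ∀ (o : G) (ho : o ∈ d.O), ρ ⟨_, hkerO o ho⟩ = ⟨o, ho⟩ := fun o ho =>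
    Subtype.ext (hρ _ (one_mem _) ho (one_mul o).symm)
  refine semi_false_of_char hD h2 hr2 F.ctx.index_odd hidx hrO ?_ (χ.comp ρ) (fun k => ⟨a, hpow _⟩) ?_ ?_ ?_
  · exact F.vr r hr.out hrO
  · intro k k' hk
    have hk' : inv2 d g' * ((k : Cz d.z) : G) * (inv2 d g')⁻¹ = ((k' : Cz d.z) : G) := by
      rw [← hw]
      exact congrArg Subtype.val hk
    have e : ρ k' = (ρ k)⁻¹ := Subtype.ext (hρ k' (d.D_conj c'.inv2_mem (hpx k)) (inv_mem (hpo k)) (by
      show _ = _ * (po k)⁻¹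
      rw [← hk', hdec k, ← hwinv _ (hpo k)]
      group))
    show χ (ρ k') = (χ (ρ k))⁻¹
    rw [e, map_inv]
  · refine ⟨⟨_, hkerO y y.2⟩, ?_, (mem_core_iff hOe _).2 y.2, fun k hk => Subtype.ext ?_⟩
    · show χ (ρ _) ≠ 1
      rw [hρO]
      exact hy
    · exact (F.O_central (hker ⟨k, hk⟩) y.2).symm
  · intro b hb ⟨n, hn⟩
    have hbG : ((b : Cz d.z) : G) ^ r ^ n = 1 := by
      rw [← hn]
      exact congrArg (fun t : Cz d.z => (t : G)) (congrArg Subtype.val (pow_orderOf_eq_one b))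
    obtain ⟨x, hx, o, ho, e, hxn, hon⟩ := F.decomp_pow (hker b) hbG
    have ho1 : o ≠ 1 := fun e1 => hb (by
      show χ (ρ b) = 1
      rw [show ρ b = 1 from Subtype.ext ((hρ b hx ho e).trans e1), map_one])
    rw [e]
    by_cases hx1 : x = 1
    · rw [hx1, one_mul]
      exact F.cent o ho ho1
    · exact hsafe x hx hx1 o ho ho1 n hxn hon

end CfsgLib.RankTwoModel.L4
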