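import Cfsg.Agent.Lib.BrauerOrder.Formula
import Cfsg.Agent.Lib.RankTwoModel.Hyp

/-!
The wreathed half of L4 (blueprint/RankTwo_L45.md, section 2).

Brauer's formula gives `|G| = |C| (|C : C(U)| / |Q + 1|)² (Q² + Q + 1)`, so a prime dividing the inverted part of
the core divides `|G : C|`.
-/

set_option autoImplicit false
set_option linter.unusedSectionVars false
set_option linter.style.haveILetI false

namespace CfsgLib.RankTwoModel.L4

open Cfsg CfsgLib.BrauerOrder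

universe u v

/-- An odd or even prime `r` with `|C(U)| r |Q + 1|` dividing `|C|` divides `|G : C|` when the central part of the
torus has order at least four. -/
theorem wreathed_lt {G : Type u} [Group G] [Fintype G] [IsSimpleGroup G] {z : G} [Fintype (Cz z)]
    {Ω : Type v} [MulAction (Cz z) Ω] [Finite Ω] {D : Sys G z} (hD : D.Spec Ω) (h4 : 4 ≤ Nat.card D.core.Z)
    {r : ℕ} [Fact r.Prime]
    (hidx : Nat.card (Subgroup.centralizer ({(D.w : G), z} : Set G)) * r * (D.Q + 1).natAbs ∣ Nat.card (Cz z)) :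
    padicValNat r (Nat.card (Cz z)) < padicValNat r (Nat.card G) := by
  obtain ⟨j, hj⟩ := hidx
  have h := order_wreathed hD h4
  set g := Nat.card G
  set c := Nat.card (Cz z)
  set w := Nat.card (Subgroup.centralizer ({(D.w : G), z} : Set G))
  have hg : g ≠ 0 := Nat.card_pos.ne'
  have hc : c ≠ 0 := Nat.card_pos.ne'
  have hw : (w : ℤ) ≠ 0 := Int.natCast_ne_zero.2 Nat.card_pos.ne'
  have hQ1 : D.Q + 1 ≠ 0 := by exact_mod_cast (Q_facts hD).2.1
  have hcz : (c : ℤ) = (w : ℤ) * r * |D.Q + 1| * j := by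
    rw [← Int.natCast_natAbs]
    exact_mod_cast hj
  have hsq : (c : ℤ) ^ 2 = (w : ℤ) ^ 2 * (r : ℤ) ^ 2 * (D.Q + 1) ^ 2 * (j : ℤ) ^ 2 := by
    rw [hcz]
    linear_combination ((w : ℤ) ^ 2 * (r : ℤ) ^ 2 * (j : ℤ) ^ 2) * sq_abs (D.Q + 1)
  have key : (g : ℤ) = (c : ℤ) * r * ((r : ℤ) * (j : ℤ) ^ 2 * (D.Q ^ 2 + D.Q + 1)) := by
    refine mul_right_cancel₀ (mul_ne_zero (pow_ne_zero 2 hw) (pow_ne_zero 2 hQ1)) ?_
    linear_combination h + ((c : ℤ) * (D.Q ^ 2 + D.Q + 1)) * hsq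
  have hdvd : c * r ∣ g := Int.natCast_dvd_natCast.1 ⟨_, by push_cast; exact key⟩
  have hr0 : r ≠ 0 := (Fact.out : r.Prime).ne_zero
  have h1 : r ^ (padicValNat r c + 1) ∣ g := by
    rw [pow_succ]
    exact (Nat.mul_dvd_mul pow_padicValNat_dvd dvd_rfl).trans hdvd
  exact (padicValNat_dvd_iff_le hg).1 h1

/-- The wreathed case of L4. -/
theorem wreathed_false {G : Type u} [Group G] [Fintype G] [IsSimpleGroup G] {z : G} [Fintype (Cz z)]
    {Ω : Type v} [MulAction (Cz z) Ω] [Finite Ω] {D : Sys G z} (hD : D.Spec Ω) (h4 : 4 ≤ Nat.card D.core.Z)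
    {r : ℕ} [Fact r.Prime]
    (hidx : Nat.card (Subgroup.centralizer ({(D.w : G), z} : Set G)) * r * (D.Q + 1).natAbs ∣ Nat.card (Cz z))
    (hr : padicValNat r (Nat.card G) = padicValNat r (Nat.card (Cz z))) : False :=
  (wreathed_lt hD h4 hidx).ne' hr

end CfsgLib.RankTwoModel.L4
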