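import Cfsg.Agent.Lib.RankTwoModel.L4.KerChar
import Cfsg.Agent.Lib.RankTwoModel.L4.Wreathed
import Cfsg.Agent.Lib.RankTwoModel.L4.Safety.Semisimple
import Cfsg.Agent.Lib.RankTwoModel.L4.Safety.Unipotent

/-!
L4: with `[O, D] = 1` every involution of the centraliser centralises the core (blueprint/RankTwo_L45.md).

* `Hyp.index_prime_part`: step W as a statement about all involutions of `C`;
* `Ctx.wreathed_false`, `Flat.false_of_ne_bot`: the two cases;
* `Hyp.core_invol_of`: the conclusion, given the field lemma and the moved case.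
-/

set_option autoImplicit false
set_option linter.unusedSectionVars false
set_option linter.style.haveILetI false

namespace CfsgLib.RankTwoModel

open Cfsg CfsgLib.BrauerOrder CfsgLib.GW CfsgLib.BG CfsgLib.RankTwo

universe u

variable {G : Type u} [Group G] [Fintype G] {d : Frame G}

/-- A second involution of the centraliser as the second involution of a context. -/
theorem Frame.Spec.exists_ctx (hd : d.Spec) (h : Hyp G) (hq : 3 < d.q)
    (hOD : ∀ x ∈ d.O, ∀ y ∈ d.D, x * y = y * x) {v : G} (hv : v ∈ d.C) (hv2 : orderOf v = 2) (hvz : v ≠ d.z) :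
    ∃ g : G, L4.Ctx d g ∧ L4.inv2 d g = v := by
  obtain ⟨g, hg⟩ := isConj_iff.1 (h.all_conj d.z v hd.zord hv2)
  refine ⟨g, ⟨h, hd, hq, hOD, ?_, ?_⟩, hg⟩
  · rw [hg]; exact hvz
  · rw [hg]; exact Subgroup.mem_centralizer_singleton_iff.1 hv

/-- **Step W for all involutions**: a prime dividing the index has no inverted element in the core. -/
theorem Hyp.index_prime_part (h : Hyp G) (hd : d.Spec) (hq : 3 < d.q)
    (hOD : ∀ x ∈ d.O, ∀ y ∈ d.D, x * y = y * x) {r : ℕ} (hr : r.Prime) (hidx : r ∣ d.C.index) :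
    ∀ v ∈ d.C, orderOf v = 2 → ∀ x ∈ d.O, (∃ k : ℕ, x ^ r ^ k = 1) → v * x * v⁻¹ = x⁻¹ → x = 1 := by
  intro v hv hv2 x hx ⟨k, hk⟩ hvx
  by_contra hx1
  by_cases hvz : v = d.z
  · subst hvz
    rw [← Frame.Spec.z_central (d.O_le hx), mul_inv_cancel_right] at hvx
    exact hx1 (eq_one_of_sq_odd (mul_eq_one_iff_eq_inv.2 hvx)
      (d.O_odd.of_dvd_nat (Subgroup.orderOf_dvd_natCard _ hx)))
  obtain ⟨g, c, rfl⟩ := hd.exists_ctx h hq hOD hv hv2 hvz
  haveI := Fact.mk hr
  refine c.index_prime hr ?_ hidx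
  have hxI : x ∈ L4.invI d (L4.inv2 d g) := c.mem_invI.2 ⟨hx, hvx⟩
  obtain ⟨j, -, hj⟩ := (Nat.dvd_prime_pow hr).1 (orderOf_dvd_of_pow_eq_one hk)
  rcases j with _ | j
  · exact absurd (orderOf_eq_one_iff.1 (by rw [hj, pow_zero])) hx1
  · refine dvd_trans ?_ (Subgroup.orderOf_dvd_natCard _ hxI)
    exact hj ▸ dvd_pow_self r (Nat.succ_ne_zero j)

namespace L4

variable {g : G} (c : Ctx d g)
include c

/-- The wreathed case: the inverted part is trivial. -/
theorem Ctx.wreathed_bot (R : Rep d) (hW : IsWreathed (d.S : Subgroup G)) : invI d (inv2 d g) = ⊥ := by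
  classical
  haveI := c.hyp.simple
  haveI : Fintype (Cz d.z) := Fintype.ofFinite _
  obtain ⟨Ω, iΩ, D, -, hD, hqc, -, hZ⟩ := c.spec.exists_sys_core c.hyp
  haveI : Finite Ω := BrauerOrder.finite_omega hD.core
  have h4 : 4 ≤ Nat.card D.core.Z := by
    rcases hZ with ⟨hq, -⟩ | ⟨-, h⟩
    · exact (BrauerOrder.not_qd_wreathed hq hW).elim
    · exact h
  obtain ⟨g', c', hw⟩ := L4.exists_ctx c.spec c.hyp c.hq c.od hD
  by_contra hne
  obtain ⟨k, hk, hke⟩ := c.spec.conj_noncentral c.hyp c.inv2_mem c'.inv2_mem c.inv2_order c'.inv2_order c.inv2_ne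
    c'.inv2_ne
  have hne' : Nat.card (invI d (inv2 d g')) ≠ 1 := fun e => by
    refine hne ((Subgroup.eq_bot_iff_forall _).2 fun x hx => ?_)
    have h1 : k * x * k⁻¹ ∈ invI d (inv2 d g') := c'.mem_invI.2 ⟨Frame.Spec.O_conj hk (c.invI_le hx), by
      rw [← hke, show k * inv2 d g * k⁻¹ * (k * x * k⁻¹) * (k * inv2 d g * k⁻¹)⁻¹ =
        k * (inv2 d g * x * (inv2 d g)⁻¹) * k⁻¹ by group, c.invI_inv hx]
      group⟩
    rw [Subgroup.card_eq_one.1 e, Subgroup.mem_bot, mul_inv_eq_one] at h1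
    exact mul_left_cancel (a := k) (by rw [h1, mul_one])
  obtain ⟨r, hr, hri⟩ := Nat.exists_prime_and_dvd hne'
  haveI := Fact.mk hr
  refine L4.wreathed_false hD h4 (r := r) ?_ (c'.v_eq hri)
  refine dvd_trans ?_ (c'.index_dvd R hD hw hqc)
  rw [Int.natAbs_mul, ← mul_assoc]
  refine Nat.mul_dvd_mul ?_ dvd_rfl
  exact dvd_mul_of_dvd_left (Nat.mul_dvd_mul_left _ hri) _

omit c in
/-- Safety at the prime of the field, for elements of `p`-power order. -/
theorem Flat.safe_p (F : Flat d g) (R : Rep d) (hO : ∀ r : ℕ, r.Prime → r ∣ Nat.card d.O → r = d.p) {x o : G}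
    (hx : x ∈ d.D) (hx1 : x ≠ 1) (ho : o ∈ d.O) (ho1 : o ≠ 1) {j : ℕ} (hxj : x ^ d.p ^ j = 1) :
    Subgroup.centralizer ({x * o} : Set G) ≤ d.C := by
  have hd := F.ctx.spec
  haveI : Fact d.p.Prime := ⟨hd.prime⟩
  haveI := hd.charP
  have hxL := hd.D_le_L F.ctx.hq hx
  set A := R.π ⟨x, hxL⟩ with hA
  have hAj : A ^ d.p ^ j = 1 := by
    rw [hA, ← map_pow, show (⟨x, hxL⟩ : ↥d.L) ^ d.p ^ j = 1 from Subtype.ext hxj, map_one]
  obtain ⟨T, hT⟩ := (IsPGroup.of_card_dvd_pow (n := j) (by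
    rw [Nat.card_zpowers]; exact orderOf_dvd_of_pow_eq_one hAj) :
      IsPGroup d.p (Subgroup.zpowers A)).exists_le_sylow
  obtain ⟨k, hk⟩ := SL2Sylow.sylow_SL d.p T
  obtain ⟨_, ⟨s, rfl⟩, hs⟩ := hk.le (hT (Subgroup.mem_zpowers A))
  have hxp : x ^ d.p = 1 := by
    refine F.disjoint (pow_mem hx _) ((R.ker (⟨x, hxL⟩ ^ d.p)).1 ?_)
    rw [map_pow, ← hA, ← hs, ← map_pow, show SL2Sylow.us s ^ d.p = 1 by
      rw [← map_pow, show s ^ d.p = 1 from Multiplicative.toAdd.injective (by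
        simp [toAdd_pow, nsmul_eq_mul, CharP.cast_eq_zero d.F d.p]), map_one], map_one]
  by_cases hop : o ^ d.p = 1
  · exact F.safe_unipotent hO hx hx1 ho ho1 hxp hop
  · intro e he
    refine F.cent (o ^ d.p) (pow_mem ho _) hop (Subgroup.mem_centralizer_singleton_iff.2 ?_)
    have h1 : (x * o) ^ d.p = o ^ d.p := by
      rw [(show Commute x o from (F.ctx.od o ho x hx).symm).mul_pow, hxp, one_mul]
    rw [← h1]
    exact ((show Commute e (x * o) from Subgroup.mem_centralizer_singleton_iff.1 he).pow_right _).eq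

omit c in
/-- The flat case: the core is trivial. -/
theorem Flat.core_bot (F : Flat d g) (R : Rep d) : d.O = ⊥ := by
  by_contra hne
  have h1 : Nat.card d.O ≠ 1 := fun e => hne (Subgroup.card_eq_one.1 e)
  by_cases hex : ∃ r : ℕ, r.Prime ∧ r ∣ Nat.card d.O ∧ r ≠ d.p
  · obtain ⟨r, hr, hrd, hrp⟩ := hex
    haveI := Fact.mk hr
    exact F.semi_false R hrd fun x hx hx1 o ho ho1 j hxj hoj => F.safe_semisimple hx hx1 ho ho1 hrp hxj hoj
  · push Not at hex
    obtain ⟨r, hr, hrd⟩ := Nat.exists_prime_and_dvd h1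
    obtain rfl := hex r hr hrd
    haveI := Fact.mk hr
    exact F.semi_false R hrd fun x hx hx1 o ho ho1 j hxj hoj => F.safe_p R hex hx hx1 ho ho1 hxj

omit c in
/-- The field lemma at a frame (the supplier of `inner_sd`). -/
def FieldLemma {G : Type u} [Group G] [Finite G] (d : Frame G) : Prop :=
  ∀ (R : Rep d) (hd : d.Spec) (r : ℕ), IsQuasiDihedral (d.S : Subgroup G) → r.Prime → r ≠ 2 →
    (∀ v ∈ d.C, orderOf v = 2 → ∀ x ∈ d.O, (∃ k : ℕ, x ^ r ^ k = 1) → v * x * v⁻¹ = x⁻¹ → x = 1) →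
    r ∣ GW.Model.qm d.F → (∃ x : ↥d.C, orderOf (R.field hd x) = r) → ¬ r ∣ d.C.index

omit c in
/-- The moved case: `C_O(u) = 1` when the inverted part is non-trivial. -/
def FixedLemma {G : Type u} [Group G] [Finite G] (d : Frame G) : Prop :=
  ∀ (g : G) (R : Rep d), Ctx d g → IsQuasiDihedral (d.S : Subgroup G) → R.Inner → invI d (inv2 d g) ≠ ⊥ →
    ∀ x ∈ d.O, x * inv2 d g = inv2 d g * x → x = 1

/-- **The inverted part is trivial.** -/
theorem Ctx.invI_bot_of (hE : FieldLemma d) (hM : FixedLemma d) : invI d (inv2 d g) = ⊥ := by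
  obtain ⟨R⟩ := c.spec.exists_rep
  rcases c.spec.qw with hsd | hW
  swap
  · exact c.wreathed_bot R hW
  by_contra hne
  have hin : R.Inner := inner_sd R c.hyp c.spec c.hq hsd c.od
    (fun r hr hidx => c.hyp.index_prime_part c.spec c.hq c.od hr hidx)
    (fun r hr hr2 hI hqm hex => hE R c.spec r hsd hr hr2 hI hqm hex)
  have hK : ∀ x ∈ d.O, x * inv2 d g = inv2 d g * x → x = 1 := 
    hM g R c hsd hin hne
  have F := c.flat R hsd hin hK
  refine hne (le_bot_iff.1 ?_)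
  rw [← F.core_bot R]
  exact c.invI_le

end L4

/-- **L4, given the field lemma and the moved case**: every involution of `C` centralises the core. -/
theorem Hyp.core_invol_of (h : Hyp G) (hd : d.Spec) (hq : 3 < d.q) (hE : L4.FieldLemma d) (hM : L4.FixedLemma d)
    (hOD : ∀ x ∈ d.O, ∀ y ∈ d.D, x * y = y * x) :
    ∀ x ∈ d.O, ∀ v ∈ d.C, orderOf v = 2 → v * x = x * v := by
  intro x hx v hv hv2
  by_cases hvz : v = d.z
  · subst hvz
    exact (Frame.Spec.z_central (d.O_le hx)).symm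
  obtain ⟨g, c, rfl⟩ := hd.exists_ctx h hq hOD hv hv2 hvz
  obtain ⟨f, -, hfu, i, hi, e⟩ := c.fixed_mul_invI hx
  rw [c.invI_bot_of hE hM, Subgroup.mem_bot] at hi
  rw [e, hi, mul_one]
  exact hfu.symm

end CfsgLib.RankTwoModel
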