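import Cfsg.Agent.Lib.RankTwoModel.L4.Index

/-!
The tori of the second involution in the semidihedral case of L4 (blueprint/RankTwo_L45.md, D2).

* `SL2.conjSL_moved`: a torus element of odd order moved to another of the same torus fixes the class of the torus
  involution;
* `Rep.moved_ti`, `Ctx.moved_ti`: an odd element of `C(u)` outside the core whose conjugate centralises `u` modulo
  the core is moved by an element sending `u` to `u` or `z u` modulo the core.
-/

set_option autoImplicit false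
set_option linter.unusedSectionVars false
set_option linter.style.haveILetI false

namespace CfsgLib.RankTwoModel

universe u v

namespace SL2

open Matrix CfsgLib.PSL2
open scoped MatrixGroups

variable {F : Type} [Field F] [Fintype F]

local notation "M2" => Matrix (Fin 2) (Fin 2) F

theorem scalar_of_conjSL_one {g : GL (Fin 2) F} (h : conjSL g = 1) : g.1 = g.1 0 0 • (1 : M2) :=
  (semi_eq_one (g := g) (e := RingEquiv.refl F) (by
    rw [h, show fieldSL (RingEquiv.refl F) = 1 from fieldSL_one, one_mul])).2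

/-- Commuting trace zero matrices are proportional. -/
theorem smul_of_trace_zero (h2 : (2 : F) ≠ 0) {A B : M2} (hA : A.trace = 0) (hB : B.trace = 0) (hA0 : A ≠ 0)
    (h : A * B = B * A) : ∃ c : F, B = c • A := by
  have a11 : A 1 1 = -A 0 0 := by rw [Matrix.trace_fin_two] at hA; linear_combination hA
  have b11 : B 1 1 = -B 0 0 := by rw [Matrix.trace_fin_two] at hB; linear_combination hB
  have e00 := congrFun (congrFun h 0) 0
  have e01 := congrFun (congrFun h 0) 1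
  have e10 := congrFun (congrFun h 1) 0
  simp only [Matrix.mul_apply, Fin.sum_univ_two, a11, b11] at e00 e01 e10
  have k1 : A 0 0 * B 0 1 = A 0 1 * B 0 0 := mul_left_cancel₀ h2 (by linear_combination e01)
  have k2 : A 0 0 * B 1 0 = A 1 0 * B 0 0 := mul_left_cancel₀ h2 (by linear_combination -e10)
  have k3 : A 0 1 * B 1 0 = A 1 0 * B 0 1 := by linear_combination e00
  have key : ∀ p q, A p q ≠ 0 → (∀ i j, B i j * A p q = B p q * A i j) → ∃ c : F, B = c • A :=
    fun p q hpq h => ⟨B p q / A p q, by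
      ext i j
      rw [Matrix.smul_apply, smul_eq_mul, div_mul_eq_mul_div, eq_div_iff hpq, h]⟩
  by_cases h00 : A 0 0 = 0
  · by_cases h01 : A 0 1 = 0
    · refine key 1 0 (fun h10 => hA0 ?_) fun i j => ?_
      · ext i j; fin_cases i <;> fin_cases j <;> simp [h00, h01, h10, a11]
      · fin_cases i <;> fin_cases j <;> simp only [Fin.isValue, Fin.zero_eta, Fin.mk_one, a11, b11] <;>
          first | linear_combination k2 | linear_combination -k2 | linear_combination k3 | linear_combination -k3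
    · refine key 0 1 h01 fun i j => ?_
      fin_cases i <;> fin_cases j <;> simp only [Fin.isValue, Fin.zero_eta, Fin.mk_one, a11, b11] <;>
        first | linear_combination k1 | linear_combination -k1 | linear_combination k3
  · refine key 0 0 h00 fun i j => ?_
    fin_cases i <;> fin_cases j <;> simp only [Fin.isValue, Fin.zero_eta, Fin.mk_one, a11, b11] <;>
      first | linear_combination k1 | linear_combination -k1 | linear_combination k2 | linear_combination -k2 | ring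

/-- An odd element commuting with a matrix modulo scalars commutes with it. -/
theorem comm_of_odd {k a : GL (Fin 2) F} {m : ℕ} (hm : Odd m) (hk : conjSL k ^ m = 1)
    (hc : Commute (conjSL k) (conjSL a)) : k.1 * a.1 = a.1 * k.1 := by
  set c : F := (k * a * k⁻¹ * a⁻¹).1 0 0 with hcdef
  have hs : (k * a * k⁻¹ * a⁻¹).1 = c • (1 : M2) := scalar_of_conjSL_one (by
    rw [map_mul, map_mul, map_mul, map_inv, map_inv, hc.eq, mul_inv_cancel_right, mul_inv_cancel])
  have he : k.1 * a.1 = c • (a.1 * k.1) := by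
    have e := congrArg (· * (a.1 * k.1)) hs
    simp only [Units.val_mul, Matrix.smul_mul, one_mul] at e
    rw [← e]
    simp [Matrix.mul_assoc]
  have hd := congrArg Matrix.det he
  rw [Matrix.det_smul, Matrix.det_mul, Matrix.det_mul, Fintype.card_fin, mul_comm (Matrix.det a.1)] at hd
  have hc2 : c ^ 2 = 1 := (mul_eq_right₀ (mul_ne_zero (GW.Model.det_ne k) (GW.Model.det_ne a))).1 hd.symm
  have hn : ∀ n : ℕ, k.1 ^ n * a.1 = c ^ n • (a.1 * k.1 ^ n) := by
    intro n
    induction n with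
    | zero => simp
    | succ n ih =>
      rw [pow_succ', Matrix.mul_assoc, ih, Matrix.mul_smul, ← Matrix.mul_assoc, he, Matrix.smul_mul, smul_smul,
        Matrix.mul_assoc, ← pow_succ, ← pow_succ']
  have hkm := scalar_of_conjSL_one (g := k ^ m) (by rw [map_pow, hk])
  rw [Units.val_pow_eq_pow_val] at hkm
  have h1 := hn m
  rw [hkm, Matrix.smul_mul, one_mul, Matrix.mul_smul, mul_one, smul_smul] at h1
  have hs0 : (k.1 ^ m) 0 0 ≠ 0 := fun e => GW.Model.det_ne (k ^ m) (by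
    rw [Units.val_pow_eq_pow_val, hkm, e, zero_smul, Matrix.det_zero])
  have ha0 : a.1 ≠ 0 := fun e => GW.Model.det_ne a (by rw [e, Matrix.det_zero])
  have hc1 : c ^ m = 1 := (mul_eq_right₀ hs0).1 (smul_left_injective F ha0 h1).symm
  obtain ⟨j, rfl⟩ := hm
  rw [pow_succ, pow_mul, hc2, one_pow, one_mul] at hc1
  rw [he, hc1, one_smul]

/-- **A moved torus element fixes the torus involution.** -/
theorem conjSL_moved (h2 : (2 : F) ≠ 0) {k l a : GL (Fin 2) F} (ha : a.1.trace = 0) {m : ℕ} (hm : Odd m)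
    (hk : conjSL k ^ m = 1) (hk1 : conjSL k ≠ 1) (hka : Commute (conjSL k) (conjSL a))
    (hmov : Commute (conjSL l * conjSL k * (conjSL l)⁻¹) (conjSL a)) :
    conjSL l * conjSL a * (conjSL l)⁻¹ = conjSL a := by
  have e1 : conjSL (l * k * l⁻¹) = conjSL l * conjSL k * (conjSL l)⁻¹ := by rw [map_mul, map_mul, map_inv]
  rw [← e1] at hmov
  set k' := l * k * l⁻¹ with hk'
  set a' := l * a * l⁻¹ with ha'
  have c1 : k'.1 * a.1 = a.1 * k'.1 := comm_of_odd hm (by rw [e1, conj_pow, hk, mul_one, mul_inv_cancel]) hmov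
  have c0 : Commute k a := Units.ext (comm_of_odd hm hk hka)
  have c2 : k'.1 * a'.1 = a'.1 * k'.1 := congrArg Units.val ((Commute.conj_iff l).2 c0).eq
  set t : F := k'.1.trace / 2 with ht
  set A : M2 := k'.1 - t • 1 with hA
  have hAtr : A.trace = 0 := by
    rw [hA, Matrix.trace_sub, Matrix.trace_smul, Matrix.trace_one, Fintype.card_fin, ht, smul_eq_mul]
    push_cast
    field_simp
    ring
  have hA0 : A ≠ 0 := fun e => by
    have h1 : conjSL k' = 1 := conjSL_scalar (sub_eq_zero.1 e)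
    rw [e1] at h1
    exact hk1 (conj_eq_one_iff.1 h1)
  have hcm : ∀ {M : M2}, k'.1 * M = M * k'.1 → A * M = M * A := fun {M} hM => by
    rw [hA, sub_mul, mul_sub, hM, Matrix.smul_mul, Matrix.mul_smul, one_mul, mul_one]
  have ha'tr : a'.1.trace = 0 := by
    rw [ha', Units.val_mul, Units.val_mul, Matrix.trace_units_conj, ha]
  obtain ⟨u, hu⟩ := smul_of_trace_zero h2 hAtr ha hA0 (hcm c1)
  obtain ⟨w, hw⟩ := smul_of_trace_zero h2 hAtr ha'tr hA0 (hcm c2)
  have hu0 : u ≠ 0 := fun e => GW.Model.det_ne a (by rw [hu, e, zero_smul, Matrix.det_zero])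
  have hw0 : w ≠ 0 := fun e => GW.Model.det_ne a' (by rw [hw, e, zero_smul, Matrix.det_zero])
  rw [← map_inv, ← map_mul, ← map_mul, ← ha']
  exact conjSL_smul (c := w / u) (by rw [hw, hu, smul_smul, div_mul_cancel₀ w hu0]) (div_ne_zero hw0 hu0)

end SL2

open Cfsg CfsgLib.BrauerOrder CfsgLib.GW

variable {G : Type u} [Group G] [Fintype G] {d : Frame G}

/-- **The tori in `C`.** -/
theorem Rep.moved_ti (R : Rep d) (hd : d.Spec) (hq : 3 < d.q) (h : Hyp G)
    (hsd : IsQuasiDihedral (d.S : Subgroup G)) (hin : R.Inner) {v : G} (hv : v ∈ d.C) (hv2 : orderOf v = 2)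
    (hvz : v ≠ d.z) {g y : G} (hg : g ∈ d.C) (hy : y ∈ d.C) (hyv : y * v = v * y) (hodd : Odd (orderOf y))
    (hyO : y ∉ d.O) (hmov : (g * y * g⁻¹) * v * (g * y * g⁻¹)⁻¹ * v⁻¹ ∈ d.O) :
    g * v * g⁻¹ * v⁻¹ ∈ d.O ∨ g * v * g⁻¹ * (d.z * v)⁻¹ ∈ d.O := by
  obtain ⟨a, htr, -, ha⟩ := R.invol hd hq h hv hv2 hvz
  have hσv : R.σ ⟨v, hv⟩ = PSL2.conjSL a := MulEquiv.ext fun A => Subtype.ext (by rw [ha, PSL2.coe_conjSL])
  obtain ⟨k, hk⟩ := hin ⟨y, hy⟩
  obtain ⟨l, hl⟩ := hin ⟨g, hg⟩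
  have hσy : R.σ ⟨y, hy⟩ = PSL2.conjSL k := MulEquiv.ext fun A => Subtype.ext (by rw [hk, PSL2.coe_conjSL])
  have hσg : R.σ ⟨g, hg⟩ = PSL2.conjSL l := MulEquiv.ext fun A => Subtype.ext (by rw [hl, PSL2.coe_conjSL])
  have hpow : PSL2.conjSL k ^ orderOf y = 1 := by
    rw [← hσy, ← map_pow, show (⟨y, hy⟩ : ↥d.C) ^ orderOf y = 1 from Subtype.ext (pow_orderOf_eq_one y), map_one]
  have hne : PSL2.conjSL k ≠ 1 := fun e => hyO (R.sigma_eq_one hd hq h hy hodd (hσy.trans e))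
  have hka : Commute (PSL2.conjSL k) (PSL2.conjSL a) := by
    rw [← hσy, ← hσv]
    exact (show Commute (⟨y, hy⟩ : ↥d.C) ⟨v, hv⟩ from Subtype.ext hyv).map R.σ
  have hm : Commute (PSL2.conjSL l * PSL2.conjSL k * (PSL2.conjSL l)⁻¹) (PSL2.conjSL a) := by
    have h0 := R.sigma_O hmov
    rw [show (⟨g * y * g⁻¹ * v * (g * y * g⁻¹)⁻¹ * v⁻¹, d.O_le hmov⟩ : ↥d.C) =
      (⟨g, hg⟩ * ⟨y, hy⟩ * ⟨g, hg⟩⁻¹) * ⟨v, hv⟩ * (⟨g, hg⟩ * ⟨y, hy⟩ * ⟨g, hg⟩⁻¹)⁻¹ * (⟨v, hv⟩ : ↥d.C)⁻¹
      from rfl] at h0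
    simp only [map_mul, map_inv, hσy, hσv, hσg] at h0
    exact mul_inv_eq_iff_eq_mul.1 (mul_inv_eq_one.1 h0)
  have key := SL2.conjSL_moved (SL2Orders.two_ne_zero_of_odd hd.odd_card) htr hodd hpow hne hka hm
  have hC : g * v * g⁻¹ * v⁻¹ ∈ d.C := mul_mem (mul_mem (mul_mem hg hv) (inv_mem hg)) (inv_mem hv)
  obtain ⟨o, ho, e | e⟩ := R.sigma_kernel hd hq h hsd hC (by
    show R.σ (⟨g, hg⟩ * ⟨v, hv⟩ * ⟨g, hg⟩⁻¹ * (⟨v, hv⟩ : ↥d.C)⁻¹) = 1
    rw [map_mul, map_mul, map_mul, map_inv, map_inv, hσg, hσv, key, mul_inv_cancel])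
  · exact Or.inl (e ▸ ho)
  · refine Or.inr ?_
    rw [mul_inv_rev, ← mul_assoc, e]
    exact Frame.Spec.O_conj Frame.Spec.z_mem_C ho

namespace L4

variable {g : G}

/-- **The tori hypothesis of `moved_false`.** -/
theorem Ctx.moved_ti (c : Ctx d g) (R : Rep d) (hsd : IsQuasiDihedral (d.S : Subgroup G)) (hin : R.Inner)
    [Fintype (Cz d.z)] {Ω : Type v} [MulAction (Cz d.z) Ω] {D : Sys G d.z} (hD : D.Spec Ω)
    (hw : (D.w : G) = inv2 d g) (hO : ∀ x : Cz d.z, x ∈ D.core.O ↔ (x : G) ∈ d.O) :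
    ∀ g' y : Cz d.z, y * D.w = D.w * y → Odd (orderOf y) → y ∉ D.core.O →
      (g' * y * g'⁻¹) * D.w * (g' * y * g'⁻¹)⁻¹ * D.w⁻¹ ∈ D.core.O →
      g' * D.w * g'⁻¹ * D.w⁻¹ ∈ D.core.O ∨ g' * D.w * g'⁻¹ * (D.zc * D.w)⁻¹ ∈ D.core.O := by
  intro g' y hyw hodd hyO hmov
  simp only [hO, Subgroup.coe_mul, Subgroup.coe_inv, hw, hD.zcv] at hyO hmov ⊢
  refine R.moved_ti c.spec c.hq c.hyp hsd hin c.inv2_mem c.inv2_order c.inv2_ne g'.2 y.2 ?_ ?_ hyO hmov
  · rw [← hw]; exact congrArg Subtype.val hyw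
  · rwa [Subgroup.orderOf_coe]

end L4

end CfsgLib.RankTwoModel
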