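import Cfsg.Agent.Lib.RankTwoModel.L4.MovedTI
import Cfsg.Agent.Lib.RankTwoModel.L4.Main
import Cfsg.Agent.Lib.RankTwoModel.FieldElem.Main

/-!
The moved case of L4 from the statement about characters (blueprint/RankTwo_L45.md, D2).

* `MovedFalse`: the statement;
* `fixedLemma_of`: `C_O(u) = 1` from it;
* `Hyp.core_invol_of_moved`: L4 from it.
-/

set_option autoImplicit false
set_option linter.unusedSectionVars false
set_option linter.style.haveILetI false

namespace CfsgLib.RankTwoModel.L4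

open Cfsg CfsgLib.BrauerOrder CfsgLib.GW CfsgLib.BG CfsgLib.RankTwo

universe u

/-- No character of `C(U)` with a regular orbit whose conjugates extend from `C_O(w)` to `C`. -/
def MovedFalse (G : Type u) [Group G] [Fintype G] : Prop :=
  ∀ [IsSimpleGroup G] (z : G) [Fintype (Cz z)] (Ω : Type u) [MulAction (Cz z) Ω] [Finite Ω] (D : Sys G z),
    D.Spec Ω → Nat.card D.core.Z = 2 → IsPrimePow D.core.q →
    Odd (Subgroup.centralizer ({z} : Set G)).index → ∀ (i : ℕ),
    Nat.card (Cz z) =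
      Nat.card (Subgroup.centralizer ({(D.w : G), z} : Set G)) * i * (D.Q * (D.Q + 1)).natAbs →
    Nat.card D.core.O = Nat.card ↥(D.core.O ⊓ Subgroup.centralizer ({D.w} : Set (Cz z))) * i →
    Nat.card (Subgroup.centralizer ({(D.w : G), z} : Set G)) =
      2 * (D.Q - 1).natAbs * Nat.card ↥(D.core.O ⊓ Subgroup.centralizer ({D.w} : Set (Cz z))) →
    (∀ g y : Cz z, y * D.w = D.w * y → Odd (orderOf y) → y ∉ D.core.O →
      (g * y * g⁻¹) * D.w * (g * y * g⁻¹)⁻¹ * D.w⁻¹ ∈ D.core.O →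
      g * D.w * g⁻¹ * D.w⁻¹ ∈ D.core.O ∨ g * D.w * g⁻¹ * (D.zc * D.w)⁻¹ ∈ D.core.O) →
    ∀ ψ : ↥(Subgroup.centralizer ({(D.w : G), z} : Set G)) →* ℂˣ,
    (∀ x : ↥(Subgroup.centralizer ({(D.w : G), z} : Set G)), ((x : G) = (D.w : G) ∨ (x : G) = z) → ψ x = 1) →
    (∀ g ∈ Subgroup.normalizer (((D.core.T true).map (Subgroup.subtype _) : Subgroup G) : Set G),
      g ∉ Subgroup.centralizer ({(D.w : G), z} : Set G) →
        ∃ x x' : ↥(Subgroup.centralizer ({(D.w : G), z} : Set G)), (x' : G) = g * x * g⁻¹ ∧ ψ x' ≠ ψ x) →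
    (∀ g ∈ Subgroup.normalizer (((D.core.T true).map (Subgroup.subtype _) : Subgroup G) : Set G),
      ∃ θ : Cz z →* ℂˣ, ∀ (c : Cz z) (x' : ↥(Subgroup.centralizer ({(D.w : G), z} : Set G))),
        c ∈ D.core.O → c * D.w = D.w * c → (x' : G) = g * c * g⁻¹ → θ c = ψ x') →
    ∀ (r : ℕ), r.Prime → r ∣ i → padicValNat r (Nat.card G) = padicValNat r (Nat.card (Cz z)) → False

variable {G : Type u} [Group G] [Fintype G] {d : Frame G}

/-- **`C_O(u) = 1` from the moved case.** -/
theorem fixedLemma_of (hmf : MovedFalse G) : FixedLemma d := by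
  classical
  intro g R c hsd hin hne x hx hxu
  haveI := c.hyp.simple
  haveI : Fintype (Cz d.z) := Fintype.ofFinite _
  obtain ⟨Ω, iΩ, D, hOe, hD, hqc, -, hZ⟩ := c.spec.exists_sys_core c.hyp
  haveI : Finite Ω := BrauerOrder.finite_omega hD.core
  have h2 : Nat.card D.core.Z = 2 := by
    rcases hZ with ⟨-, h⟩ | ⟨hw, -⟩
    · exact h
    · exact (BrauerOrder.not_qd_wreathed hsd hw).elim
  obtain ⟨g', c', hw⟩ := exists_ctx c.spec c.hyp c.hq c.od hD
  obtain ⟨k, hk, hke⟩ := c.spec.conj_noncentral c.hyp c.inv2_mem c'.inv2_mem c.inv2_order c'.inv2_order c.inv2_ne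
    c'.inv2_ne
  suffices key : ∀ y ∈ d.O, y * inv2 d g' = inv2 d g' * y → y = 1 by
    have h1 := key (k * x * k⁻¹) (Frame.Spec.O_conj hk hx) (by
      rw [← hke]
      exact ((Commute.conj_iff k).2 (show Commute x (inv2 d g) from hxu)).eq)
    rw [mul_inv_eq_one] at h1
    exact mul_left_cancel (a := k) (by rw [h1, mul_one])
  have hne' : invI d (inv2 d g') ≠ ⊥ := fun e => hne ((Subgroup.eq_bot_iff_forall _).2 fun y hy => by
    have h1 : k * y * k⁻¹ ∈ invI d (inv2 d g') := c'.mem_invI.2 ⟨Frame.Spec.O_conj hk (c.invI_le hy), by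
      rw [← hke, show k * inv2 d g * k⁻¹ * (k * y * k⁻¹) * (k * inv2 d g * k⁻¹)⁻¹ =
        k * (inv2 d g * y * (inv2 d g)⁻¹) * k⁻¹ by group, c.invI_inv hy]
      group⟩
    rw [e, Subgroup.mem_bot, mul_inv_eq_one] at h1
    exact mul_left_cancel (a := k) (by rw [h1, mul_one]))
  set u := inv2 d g' with hu
  have hCu := c'.cent_w hw
  have hA : ∀ {y : G}, y ∈ centU d g' ↔ y ∈ Subgroup.centralizer ({(D.w : G), d.z} : Set G) := fun {y} => by
    rw [hCu]; rfl
  intro y hy hyu
  refine c'.fixed_trivial R hsd hin (fun φ ⟨n, hn, hφ⟩ hreg => ?_) hy hyu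
  let ψ : ↥(Subgroup.centralizer ({(D.w : G), d.z} : Set G)) →* ℂˣ :=
    φ.comp (Subgroup.inclusion fun y hy => hA.2 hy)
  -- the four group of the system
  have hU : ∀ p : G, p ∈ (D.core.T true).map (Subgroup.subtype _) ↔ p = 1 ∨ Four d g' p := by
    intro p
    constructor
    · rintro ⟨t, ht, rfl⟩
      rcases hD.invU t ht (sq_one_of_card hD h2.le ⟨t, ht⟩) with rfl | rfl | rfl | rfl
      · exact Or.inl rfl
      · exact Or.inr (Or.inl hD.zcv)
      · exact Or.inr (Or.inr (Or.inl hw))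
      · exact Or.inr (Or.inr (Or.inr (by
          show ((D.zc * D.w : Cz d.z) : G) = _
          rw [Subgroup.coe_mul, hD.zcv, hw])))
    · have hz := hD.core.zle true hD.zcZ
      rintro (rfl | rfl | rfl | rfl)
      · exact one_mem _
      · exact ⟨D.zc, hz, hD.zcv⟩
      · exact ⟨D.w, hD.wT, hw⟩
      · exact ⟨D.zc * D.w, mul_mem hz hD.wT, by rw [map_mul, Subgroup.subtype_apply, Subgroup.subtype_apply, hD.zcv, hw]⟩
  have hperm : ∀ {a : G}, a ∈ Subgroup.normalizer (((D.core.T true).map (Subgroup.subtype _) : Subgroup G) : Set G) →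
      ∀ p, Four d g' p → Four d g' (a * p * a⁻¹) := by
    intro a ha p hp
    have h1 := (hU _).1 ((Subgroup.mem_normalizer_iff.1 ha p).1 ((hU p).2 (Or.inr hp)))
    refine h1.resolve_left fun e => ?_
    have hp1 : p = 1 := by
      rw [mul_inv_eq_one] at e
      exact mul_left_cancel (a := a) (by rw [e, mul_one])
    rcases hp with rfl | rfl | rfl
    · have := c'.spec.zord
      rw [hp1, orderOf_one] at this
      norm_num at this
    · have := c'.inv2_order
      rw [hp1, orderOf_one] at this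
      norm_num at this
    · exact c'.inv2_ne ((eq_inv_of_mul_eq_one_right hp1).trans
        (inv_eq_of_mul_eq_one_right (invol_mul_self c'.spec.zord)))
  have hcentral : ∀ {a : G}, a ∈ Subgroup.normalizer (((D.core.T true).map (Subgroup.subtype _) : Subgroup G) : Set G) →
      ∀ {q : G}, q ∈ centU d g' → a * q * a⁻¹ ∈ centU d g' := by
    intro a ha q hq
    obtain ⟨hqC, hqu⟩ := mem_centU.1 hq
    have hcomm : ∀ p, Four d g' p → Commute q p := by
      rintro p (rfl | rfl | rfl)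
      exacts [Frame.Spec.z_central hqC, hqu, (show Commute q d.z from Frame.Spec.z_central hqC).mul_right hqu]
    have himg : ∀ p, Four d g' p → Commute (a * q * a⁻¹) p := by
      intro p hp
      have h1 := (hcomm _ (hperm (inv_mem ha) p hp))
      have h2 := (Commute.conj_iff a).2 h1
      rwa [show a * (a⁻¹ * p * a⁻¹⁻¹) * a⁻¹ = p by group] at h2
    exact mem_centU.2 ⟨Subgroup.mem_centralizer_singleton_iff.2 (himg _ (Or.inl rfl)).eq,
      (himg _ (Or.inr (Or.inl rfl))).eq⟩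
  obtain ⟨r, hr, hri⟩ := Nat.exists_prime_and_dvd
    (fun e : Nat.card (invI d u) = 1 => hne' (Subgroup.card_eq_one.1 e))
  haveI := Fact.mk hr
  have hcardK : Nat.card ↥(D.core.O ⊓ Subgroup.centralizer ({D.w} : Set (Cz d.z))) =
      Nat.card ↥(d.O ⊓ Subgroup.centralizer ({u} : Set G)) := by
    rw [← Subgroup.card_map_of_injective (Subgroup.subtype_injective (Subgroup.centralizer ({d.z} : Set G)))]
    congr 2
    ext q
    constructor
    · rintro ⟨t, ⟨ht, htw⟩, rfl⟩
      refine ⟨(mem_core_iff hOe t).1 ht, Subgroup.mem_centralizer_singleton_iff.2 ?_⟩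
      rw [← hw]
      exact congrArg Subtype.val (Subgroup.mem_centralizer_singleton_iff.1 htw)
    · rintro ⟨hq, hqu⟩
      exact ⟨⟨q, d.O_le hq⟩, ⟨(mem_core_iff hOe _).2 hq, Subgroup.mem_centralizer_singleton_iff.2 (Subtype.ext (by
        show q * (D.w : G) = (D.w : G) * q
        rw [hw]
        exact Subgroup.mem_centralizer_singleton_iff.1 hqu))⟩, rfl⟩
  have hcardO : Nat.card D.core.O = Nat.card d.O := by
    rw [hOe]
    exact (Subgroup.card_map_of_injective (Subgroup.subtype_injective d.C)).symm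
  refine hmf d.z Ω D hD h2 ?_ c'.index_odd _ (c'.index_sd R hD hw hqc hsd) ?_ ?_
    (c'.moved_ti R hsd hin hD hw (mem_core_iff hOe)) ψ ?_ ?_ ?_ r hr hri (c'.v_eq hri)
  · rw [hqc]
    exact c'.spec.prime.isPrimePow.pow (by have := c'.spec.npos; omega)
  · rw [hcardK, hcardO]
    exact c'.card_core
  · rw [hcardK]
    exact c'.card_centU R hD hw hqc hsd hin
  · intro q hq
    have hq2 : ψ q * ψ q = 1 := by
      rw [← map_mul, ← map_one ψ]
      congr 1
      refine Subtype.ext ?_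
      show (q : G) * q = 1
      rcases hq with e | e <;> rw [e]
      · rw [hw]; exact invol_mul_self c'.inv2_order
      · exact invol_mul_self c'.spec.zord
    rw [← pow_one (ψ q), ← (Nat.coprime_two_left.2 hn).gcd_eq_one]
    exact pow_gcd_eq_one.mpr ⟨(pow_two _).trans hq2, hφ _⟩
  · intro a ha hanot
    obtain ⟨q, q', e, hq⟩ := hreg a (hperm ha) fun h => hanot (hA.1 h)
    exact ⟨⟨q, hA.1 q.2⟩, ⟨q', hA.1 q'.2⟩, e, hq⟩
  · intro a ha
    have hKA : d.O ⊓ Subgroup.centralizer ({inv2 d g'} : Set G) ≤ centU d g' := inf_le_inf_right _ d.O_le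
    let φ₀ : ↥(d.O ⊓ Subgroup.centralizer ({inv2 d g'} : Set G)) →* ℂˣ :=
      φ.comp (MonoidHom.mk' (fun q => (⟨a * q * a⁻¹, hcentral ha (hKA q.2)⟩ : ↥(centU d g')))
        fun q q' => Subtype.ext (by show a * ((q : G) * q') * a⁻¹ = a * q * a⁻¹ * (a * q' * a⁻¹); group))
    obtain ⟨θ, hθ⟩ := c'.exists_ext R hsd hin hne' φ₀
    refine ⟨θ, fun t x' ht htw e => ?_⟩
    have htK : (t : G) ∈ d.O ⊓ Subgroup.centralizer ({inv2 d g'} : Set G) := by
      refine ⟨(mem_core_iff hOe t).1 ht, Subgroup.mem_centralizer_singleton_iff.2 ?_⟩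
      rw [← hu, ← hw]
      exact congrArg Subtype.val htw
    exact (hθ t ⟨t, htK⟩ rfl).trans (congrArg φ (Subtype.ext e.symm))

end CfsgLib.RankTwoModel.L4

namespace CfsgLib.RankTwoModel

open Cfsg CfsgLib.BrauerOrder

universe u

variable {G : Type u} [Group G] [Fintype G] {d : Frame G}

/-- **L4 from the moved case**: every involution of `C` centralises the core. -/
theorem Hyp.core_invol_of_moved (h : Hyp G) (hd : d.Spec) (hq : 3 < d.q) (hmf : L4.MovedFalse G)
    (hOD : ∀ x ∈ d.O, ∀ y ∈ d.D, x * y = y * x) :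
    ∀ x ∈ d.O, ∀ v ∈ d.C, orderOf v = 2 → v * x = x * v :=
  h.core_invol_of hd hq (fun R hd' r hsd hr hr2 hI hqm hex =>
    haveI := Fact.mk hr
    R.no_index_dvd hd' hq h hsd hOD hr2 hI hqm hex) (L4.fixedLemma_of hmf) hOD

end CfsgLib.RankTwoModel
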