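import Cfsg.Agent.Lib.RankTwo.InvertedCore
import Cfsg.Agent.Lib.RankTwo.SmallCharM

/-!
The context of L4 (`[O, D] = 1`, an involution `u = g z g⁻¹` of `C` other than `z`) and its transport to a conjugate
frame.

* `Frame.cj`: the frame conjugated by `g`, with `Spec.cj`, `cj_C`, `cj_O`, `cj_D`;
* `L4.Ctx d g`, `L4.invI d u`, `L4.tor d g`, `L4.gam d g`; `Ctx.mirror`: the same at `u` with the partner `z`.

Blueprint: `blueprint/RankTwo_L45.md`.
-/

set_option autoImplicit false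
set_option linter.unusedSectionVars false
set_option linter.style.haveILetI false

namespace CfsgLib.RankTwoModel

open Cfsg CfsgLib.RankTwo
open scoped Pointwise

universe u

variable {G : Type u} [Group G] [Finite G]

theorem cj_quasiDihedral {A B : Type*} [Group A] [Group B] (e : A ≃* B) (h : IsQuasiDihedral A) :
    IsQuasiDihedral B := by
  obtain ⟨n, hn, hc, x, y, hx, hy, hxy⟩ := h
  refine ⟨n, hn, (Nat.card_congr e.toEquiv).symm.trans hc, e x, e y, (e.orderOf_eq x).trans hx,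
    (e.orderOf_eq y).trans hy, ?_⟩
  rw [← map_inv, ← map_mul, ← map_mul, hxy, map_pow]

theorem cj_wreathed {A B : Type*} [Group A] [Group B] (e : A ≃* B) (h : IsWreathed A) : IsWreathed B := by
  obtain ⟨n, hn, hc, x, y, w, hx, hxy, hxy', hw, hwx⟩ := h
  refine ⟨n, hn, (Nat.card_congr e.toEquiv).symm.trans hc, e x, e y, e w, (e.orderOf_eq x).trans hx,
    by rw [← map_mul, ← map_mul, hxy], ?_, (e.orderOf_eq w).trans hw, by rw [← map_inv, ← map_mul, ← map_mul, hwx]⟩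
  refine (Subgroup.eq_bot_iff_forall _).2 fun b hb => ?_
  obtain ⟨i, hi⟩ := Subgroup.mem_zpowers_iff.1 hb.1
  obtain ⟨j, hj⟩ := Subgroup.mem_zpowers_iff.1 hb.2
  have h1 : x ^ i ∈ Subgroup.zpowers x ⊓ Subgroup.zpowers y := ⟨Subgroup.zpow_mem_zpowers x i,
    Subgroup.mem_zpowers_iff.2 ⟨j, e.injective (by rw [map_zpow, map_zpow, hj, hi])⟩⟩
  rw [hxy', Subgroup.mem_bot] at h1
  rw [← hi, ← map_zpow, h1, map_one]

/-- The frame conjugated by `g`. -/
noncomputable def Frame.cj (d : Frame G) (g : G) : Frame G where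
  S := g • d.S
  z := g * d.z * g⁻¹
  U := d.U.map (MulAut.conj g).toMonoidHom
  p := d.p
  n := d.n
  F := d.F

variable (d : Frame G) (g : G)

theorem Frame.cj_z : (d.cj g).z = g * d.z * g⁻¹ := rfl

theorem Frame.cj_q : (d.cj g).q = d.q := rfl

theorem Frame.cj_S : ((d.cj g).S : Subgroup G) = (d.S : Subgroup G).map (MulAut.conj g).toMonoidHom := by
  show ((g • d.S : Sylow 2 G) : Subgroup G) = _
  rw [Sylow.coe_subgroup_smul]
  rfl

theorem Frame.cj_C : (d.cj g).C = d.C.map (MulAut.conj g).toMonoidHom := by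
  ext x
  rw [Subgroup.mem_map_equiv]
  show x ∈ Subgroup.centralizer ({g * d.z * g⁻¹} : Set G) ↔ (MulAut.conj g).symm x ∈
    Subgroup.centralizer ({d.z} : Set G)
  rw [Subgroup.mem_centralizer_singleton_iff, Subgroup.mem_centralizer_singleton_iff, MulAut.conj_symm_apply]
  constructor <;> intro h
  · calc g⁻¹ * x * g * d.z = g⁻¹ * (x * (g * d.z * g⁻¹)) * g := by group
      _ = g⁻¹ * (g * d.z * g⁻¹ * x) * g := by rw [h]
      _ = _ := by group
  · calc x * (g * d.z * g⁻¹) = g * (g⁻¹ * x * g * d.z) * g⁻¹ := by group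
      _ = g * (d.z * (g⁻¹ * x * g)) * g⁻¹ := by rw [h]
      _ = _ := by group

/-- The centraliser and its conjugate. -/
noncomputable def Frame.cjEquiv : ↥d.C ≃* ↥(d.cj g).C :=
  (d.C.equivMapOfInjective (MulAut.conj g).toMonoidHom (MulAut.conj g).injective).trans
    (MulEquiv.subgroupCongr (d.cj_C g).symm)

theorem Frame.cjEquiv_coe (x : ↥d.C) : ((d.cjEquiv g x : ↥(d.cj g).C) : G) = g * x * g⁻¹ := rfl

theorem Frame.cj_O : (d.cj g).O = d.O.map (MulAut.conj g).toMonoidHom := by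
  show (oddCore ↥(d.cj g).C).map (d.cj g).C.subtype = ((oddCore ↥d.C).map d.C.subtype).map _
  rw [← (show (oddCore ↥d.C).map (d.cjEquiv g).toMonoidHom = oddCore ↥(d.cj g).C from
    pPrimeCore_map_equiv 2 (d.cjEquiv g)), Subgroup.map_map, Subgroup.map_map]
  rfl

theorem Frame.cj_D : (d.cj g).D = d.D.map (MulAut.conj g).toMonoidHom := by
  haveI := d.D_perfect
  haveI := (d.cj g).D_perfect
  haveI : Group.IsPerfect ↥(d.D.map (MulAut.conj g).toMonoidHom) := Group.IsPerfect.map _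
  refine le_antisymm ?_ ((d.cj g).le_D (by rw [d.cj_C g]; exact Subgroup.map_mono d.D_le))
  intro x hx
  haveI : Group.IsPerfect ↥((d.cj g).D.map (MulAut.conj g⁻¹).toMonoidHom) := Group.IsPerfect.map _
  have hle : (d.cj g).D.map (MulAut.conj g⁻¹).toMonoidHom ≤ d.C := by
    refine (Subgroup.map_mono (d.cj g).D_le).trans ?_
    rw [d.cj_C g]
    rintro _ ⟨_, ⟨c, hc, rfl⟩, rfl⟩
    simpa [mul_assoc] using hc
  rw [Subgroup.mem_map_equiv, MulAut.conj_symm_apply]
  exact d.le_D hle ⟨x, hx, by simp⟩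

variable {d} {g}

theorem Frame.Spec.cj (hd : d.Spec) (g : G) : (d.cj g).Spec where
  qw := by
    let e := ((d.S : Subgroup G).equivMapOfInjective (MulAut.conj g).toMonoidHom (MulAut.conj g).injective).trans
      (MulEquiv.subgroupCongr (d.cj_S g).symm)
    exact hd.qw.imp (cj_quasiDihedral e) (cj_wreathed e)
  zord := (orderOf_cj g d.z).trans hd.zord
  zS := by rw [d.cj_S g]; exact ⟨d.z, hd.zS, rfl⟩
  zc := by
    rw [d.cj_S g]
    rintro _ ⟨s, hs, rfl⟩
    exact ((Commute.conj_iff g).2 (hd.zc s hs : Commute s d.z)).eq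
  US := by rw [d.cj_S g]; exact Subgroup.map_mono hd.US
  klein := by
    haveI := hd.klein
    exact CfsgLib.DihedralFusion.isKleinFour_of_equiv
      (d.U.equivMapOfInjective (MulAut.conj g).toMonoidHom (MulAut.conj g).injective)
  zU := ⟨d.z, hd.zU, rfl⟩
  Un := by
    intro hW
    rw [d.cj_S g]
    let e := ((d.S : Subgroup G).equivMapOfInjective (MulAut.conj g).toMonoidHom (MulAut.conj g).injective).trans
      (MulEquiv.subgroupCongr (d.cj_S g).symm)
    rintro _ ⟨s, hs, rfl⟩ _ ⟨t, ht, rfl⟩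
    exact ⟨s * t * s⁻¹, hd.Un (cj_wreathed e.symm hW) s hs t ht, by simp [mul_assoc]⟩
  prime := hd.prime
  podd := hd.podd
  npos := hd.npos
  card := hd.card
  sl := by
    obtain ⟨e⟩ := hd.sl
    let e1 : ↥d.C ⧸ oddCore ↥d.C ≃* ↥(d.cj g).C ⧸ oddCore ↥(d.cj g).C :=
      QuotientGroup.congr _ _ (d.cjEquiv g) (pPrimeCore_map_equiv 2 (d.cjEquiv g))
    have hmap : (commutator (↥d.C ⧸ oddCore ↥d.C)).map e1.toMonoidHom =
        commutator (↥(d.cj g).C ⧸ oddCore ↥(d.cj g).C) := by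
      have ht : (⊤ : Subgroup (↥d.C ⧸ oddCore ↥d.C)).map e1.toMonoidHom = ⊤ :=
        Subgroup.map_top_of_surjective _ e1.surjective
      rw [commutator_def, Subgroup.map_commutator, ht, commutator_def]
    exact ⟨(((commutator (↥d.C ⧸ oddCore ↥d.C)).equivMapOfInjective e1.toMonoidHom e1.injective).trans
      (MulEquiv.subgroupCongr hmap)).symm.trans e⟩

namespace L4

/-- The standing hypotheses of L4. -/
structure Ctx (d : Frame G) (g : G) : Prop where
  hyp : Hyp G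
  spec : d.Spec
  hq : 3 < d.q
  od : ∀ x ∈ d.O, ∀ y ∈ d.D, x * y = y * x
  hne : g * d.z * g⁻¹ ≠ d.z
  hcm : g * d.z * g⁻¹ * d.z = d.z * (g * d.z * g⁻¹)

/-- The second involution. -/
def inv2 (d : Frame G) (g : G) : G := g * d.z * g⁻¹

/-- The elements of the core inverted by `v` (a subgroup in the context of L4). -/
def invI (d : Frame G) (v : G) : Subgroup G := Subgroup.closure {x | x ∈ d.O ∧ v * x * v⁻¹ = x⁻¹}

/-- `C ∩ D_u`, with `D_u` the conjugate of `D` at the second involution. -/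
noncomputable def tor (d : Frame G) (g : G) : Subgroup G := d.D.map (MulAut.conj g).toMonoidHom ⊓ d.C

/-- The acting group: `D` with the torus of the second involution. -/
noncomputable def gam (d : Frame G) (g : G) : Subgroup G := d.D ⊔ tor d g

variable {d : Frame G} {g : G} (c : Ctx d g)
include c

theorem Ctx.mirror : Ctx (d.cj g) g⁻¹ where
  hyp := c.hyp
  spec := c.spec.cj g
  hq := c.hq
  od := by
    rw [d.cj_O g, d.cj_D g]
    rintro _ ⟨x, hx, rfl⟩ _ ⟨y, hy, rfl⟩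
    exact ((show Commute x y from c.od x hx y hy).map (MulAut.conj g).toMonoidHom).eq
  hne := by
    show g⁻¹ * (g * d.z * g⁻¹) * g⁻¹⁻¹ ≠ g * d.z * g⁻¹
    rw [show g⁻¹ * (g * d.z * g⁻¹) * g⁻¹⁻¹ = d.z by group]
    exact fun e => c.hne e.symm
  hcm := by
    show g⁻¹ * (g * d.z * g⁻¹) * g⁻¹⁻¹ * (g * d.z * g⁻¹) = g * d.z * g⁻¹ * (g⁻¹ * (g * d.z * g⁻¹) * g⁻¹⁻¹)
    rw [show g⁻¹ * (g * d.z * g⁻¹) * g⁻¹⁻¹ = d.z by group]
    exact c.hcm.symm

theorem Ctx.mirror_inv2 : inv2 (d.cj g) g⁻¹ = d.z := by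
  show g⁻¹ * (g * d.z * g⁻¹) * g⁻¹⁻¹ = d.z
  group

theorem Ctx.inv2_mem : inv2 d g ∈ d.C := Subgroup.mem_centralizer_singleton_iff.2 c.hcm

theorem Ctx.inv2_order : orderOf (inv2 d g) = 2 := (orderOf_cj g d.z).trans c.spec.zord

theorem Ctx.inv2_ne : inv2 d g ≠ d.z := c.hne

theorem Ctx.mem_invI {x : G} :
    x ∈ invI d (inv2 d g) ↔ x ∈ d.O ∧ inv2 d g * x * (inv2 d g)⁻¹ = x⁻¹ := by
  obtain ⟨I, -, hI, -⟩ := c.hyp.inverted_core c.spec c.hq c.od c.hne c.hcm
  have e : invI d (inv2 d g) = I := by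
    refine le_antisymm ((Subgroup.closure_le _).2 fun y hy => (hI y).2 hy) fun y hy => ?_
    exact Subgroup.subset_closure ((hI y).1 hy)
  rw [e]
  exact hI x

theorem Ctx.invI_comm {x y : G} (hx : x ∈ invI d (inv2 d g)) (hy : y ∈ invI d (inv2 d g)) : x * y = y * x := by
  obtain ⟨I, -, hI, hc, -⟩ := c.hyp.inverted_core c.spec c.hq c.od c.hne c.hcm
  exact hc x ((hI x).2 (c.mem_invI.1 hx)) y ((hI y).2 (c.mem_invI.1 hy))

theorem Ctx.invI_conj {x y : G} (hx : x ∈ d.O) (hy : y ∈ invI d (inv2 d g)) :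
    x * y * x⁻¹ ∈ invI d (inv2 d g) := by
  obtain ⟨I, -, hI, -, hn, -⟩ := c.hyp.inverted_core c.spec c.hq c.od c.hne c.hcm
  exact c.mem_invI.2 ((hI _).1 (hn x hx y ((hI y).2 (c.mem_invI.1 hy))))

theorem Ctx.fixed_mul_invI {x : G} (hx : x ∈ d.O) :
    ∃ f ∈ d.O, f * inv2 d g = inv2 d g * f ∧ ∃ i ∈ invI d (inv2 d g), x = f * i := by
  obtain ⟨I, -, hI, -, -, hdec⟩ := c.hyp.inverted_core c.spec c.hq c.od c.hne c.hcm
  obtain ⟨f, hf, hfu, i, hi, e⟩ := hdec x hx
  exact ⟨f, hf, hfu, i, c.mem_invI.2 ((hI i).1 hi), e⟩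

theorem Ctx.tor_le_gam : tor d g ≤ gam d g := le_sup_right

theorem Ctx.D_le_gam : d.D ≤ gam d g := le_sup_left

theorem Ctx.gam_le : gam d g ≤ d.C := sup_le d.D_le inf_le_right

theorem Ctx.inv2_mem_tor : inv2 d g ∈ tor d g :=
  ⟨⟨d.z, c.spec.z_mem_D c.hq, rfl⟩, c.inv2_mem⟩

end L4

/-- The small character at a frame, with its value classes. -/
theorem Frame.Spec.smallCharM (hd : d.Spec) (h : Hyp G) :
    Nonempty (CfsgLib.RankTwo.SmallCharM d.z d.q) := by
  haveI : Fintype G := Fintype.ofFinite G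
  haveI : Fintype (BrauerOrder.Cz d.z) := Fintype.ofFinite _
  haveI : Fact d.p.Prime := ⟨hd.prime⟩
  haveI := h.simple
  exact exists_smallCharM h.noncomm d.S hd.qw hd.zord hd.zS hd.zc d.U hd.US hd.klein hd.Un hd.podd d.n hd.npos d.F
    hd.card ⟨_, inferInstance, hd.sl⟩

end CfsgLib.RankTwoModel
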