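import Cfsg.Agent.Lib.BrauerTwist.Modular

/-!
The functions on the centraliser used in the semidihedral half of L4 (blueprint/RankTwo_L45.md, D3): the two class
functions cut out by a character of the inverted part of the core, their transfer to the group, and the sign twist
of the function of the cyclic torus.
-/

set_option autoImplicit false
set_option linter.unusedSectionVars false
set_option linter.style.haveILetI false

namespace CfsgLib.RankTwoModel.L4

open Cfsg CfsgLib.CharTheory CfsgLib.BrauerOrder CfsgLib.Blocks CfsgLib.BrauerTwist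
open scoped ComplexConjugate

universe u v

variable {G : Type u} [Group G] [Fintype G] {z : G}

/-- The involution is the only conjugate of itself centralising a point of the support. -/
def Safe (z : G) (f : Cz z → ℂ) : Prop :=
  ∀ c : Cz z, f c ≠ 0 → ∀ a : G, IsConj z a → a * (c : G) = (c : G) * a → a = z

variable [Fintype (Cz z)]

/-- The induced function of a safe function restricts to it. -/
theorem indFun_safe {f : Cz z → ℂ} (hf : IsClassFunction (Cz z) f) (hs : Safe z f) (c : Cz z) :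
    indFun (Subgroup.centralizer ({z} : Set G)) f (c : G) = f c := by
  classical
  set N := Subgroup.centralizer ({z} : Set G)
  have key : ∀ x : G, extendByZero N f (x⁻¹ * (c : G) * x) = if x ∈ N then f c else 0 := by
    intro x
    by_cases hx : x ∈ N
    · have hm : x⁻¹ * (c : G) * x ∈ N := mul_mem (mul_mem (inv_mem hx) c.2) hx
      rw [if_pos hx, extendByZero_of_mem _ _ hm]
      have h := hf c (⟨x, hx⟩⁻¹ : Cz z)
      rw [inv_inv] at h
      exact (congrArg f (Subtype.ext rfl)).trans h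
    · rw [if_neg hx]
      by_cases hm : x⁻¹ * (c : G) * x ∈ N
      · rw [extendByZero_of_mem _ _ hm]
        by_contra hne
        refine hx (Subgroup.mem_centralizer_singleton_iff.2 ?_)
        have hc : z * (c : G) = (c : G) * z := (Subgroup.mem_centralizer_singleton_iff.1 c.2).symm
        have e := hs ⟨_, hm⟩ hne (x⁻¹ * z * x) (isConj_iff.2 ⟨x⁻¹, by rw [inv_inv]⟩) (by
          show x⁻¹ * z * x * (x⁻¹ * (c : G) * x) = x⁻¹ * (c : G) * x * (x⁻¹ * z * x)
          calc x⁻¹ * z * x * (x⁻¹ * (c : G) * x) = x⁻¹ * (z * (c : G)) * x := by group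
            _ = x⁻¹ * ((c : G) * z) * x := by rw [hc]
            _ = _ := by group)
        calc x * z = x * (x⁻¹ * z * x) := by rw [e]
          _ = z * x := by group
      · exact extendByZero_of_not_mem _ _ hm
  rw [indFun, Finset.sum_congr rfl fun x _ => key x, ← Finset.sum_filter, Finset.sum_const, nsmul_eq_mul,
    ← Fintype.card_subtype, ← Nat.card_eq_fintype_card, ← mul_assoc,
    inv_mul_cancel₀ (Nat.cast_ne_zero.mpr (Nat.card_pos (α := N)).ne'), one_mul]

/-- Induction preserves the products with a safe function. -/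
theorem inner_up_safe {D : Sys G z} {f h : Cz z → ℂ} (hf : IsClassFunction (Cz z) f) (hs : Safe z f) :
    classInner (D.up h) (D.up f) = classInner h f := by
  rw [Sys.up, frobenius_reciprocity _ h (indFun_isClassFunction _ f)]
  exact congrArg _ (funext fun c => indFun_safe hf hs c)

/-- Induction preserves vanishing at `r`-regular elements. -/
theorem up_regular_zero {D : Sys G z} {r : ℕ} {f : Cz z → ℂ} (hf : ∀ c : Cz z, ¬ r ∣ orderOf c → f c = 0)
    {g : G} (hg : ¬ r ∣ orderOf g) : D.up f g = 0 := by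
  rw [Sys.up, indFun]
  refine mul_eq_zero_of_right _ (Finset.sum_eq_zero fun x _ => ?_)
  by_cases hx : x⁻¹ * g * x ∈ Subgroup.centralizer ({z} : Set G)
  · rw [extendByZero_of_mem _ _ hx]
    refine hf ⟨_, hx⟩ ?_
    rw [← Subgroup.orderOf_coe]
    show ¬ r ∣ orderOf (x⁻¹ * g * x)
    have h1 : orderOf (x⁻¹ * g * x) = orderOf g := by
      have := conj_orderOf x⁻¹ g
      rwa [inv_inv] at this
    rwa [h1]
  · exact extendByZero_of_not_mem _ _ hx

variable {Ω : Type v} [MulAction (Cz z) Ω]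

/-- The two functions of a character of the inverted part of the core: `F = θ - 1 - lam` and `X = θ th2`. -/
structure SemiLocal (D : Sys G z) (Ω : Type v) [MulAction (Cz z) Ω] (r : ℕ) (F X : Cz z → ℂ) : Prop where
  genF : IsGeneralizedCharacter (Cz z) F
  genX : IsGeneralizedCharacter (Cz z) X
  clF : IsClassFunction (Cz z) F
  clX : IsClassFunction (Cz z) X
  suppX : D.Supp X
  safe : Safe z F
  regF : ∀ c : Cz z, ¬ r ∣ orderOf c → F c = 0
  regX : ∀ c : Cz z, ¬ r ∣ orderOf c → X c = D.th2 Ω c + D.lamF c * D.th2 Ω c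
  FF : classInner F F = 3
  F1 : classInner F D.one = -1
  Fth1 : classInner F (D.th1 Ω) = 1
  Fth1' : classInner F (D.th1' Ω) = 1
  Fth2 : classInner F (D.th2 Ω) = 1
  XX : classInner X X = 3
  X1 : classInner X D.one = 0
  XF : classInner X F = -1
  Xth1 : classInner X (D.th1 Ω) = 0
  Xth1' : classInner X (D.th1' Ω) = 0
  Xth2 : classInner X (D.th2 Ω) = 0
  Xw : ∑ ψ : IrrCharacter (Cz z), classInner X (ψ : Cz z → ℂ) * (ψ : Cz z → ℂ) D.w ^ 2 / (ψ : Cz z → ℂ) 1 = 0

variable {D : Sys G z} (hD : D.Spec Ω)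
include hD

/-- A class function vanishing at the central involution and at `w` induces to zero at `z`. -/
theorem up_invol_zero {f : Cz z → ℂ} (hf : IsClassFunction (Cz z) f) (h1 : f D.zc = 0) (h2 : f D.w = 0) :
    D.up f z = 0 := by
  rw [Sys.up, indFun]
  refine mul_eq_zero_of_right _ (Finset.sum_eq_zero fun x _ => ?_)
  by_cases hx : x⁻¹ * z * x ∈ Subgroup.centralizer ({z} : Set G)
  · rw [extendByZero_of_mem _ _ hx]
    have ho : orderOf (⟨x⁻¹ * z * x, hx⟩ : Cz z) = 2 := by
      rw [← Subgroup.orderOf_coe]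
      have := conj_orderOf x⁻¹ z
      rw [inv_inv] at this
      exact this.trans hD.zord
    rcases invol_cases hD ho with e | e
    · rw [e, h1]
    · obtain ⟨c, hc⟩ := isConj_iff.1 e
      rw [← hc, hf, h2]
  · exact extendByZero_of_not_mem _ _ hx

theorem th2_w : D.th2 Ω D.w = 0 := by
  have hp : p2 D.w = D.w := by
    obtain ⟨a, ha⟩ := two_of_mem hD.core hD.wT
    have := p2_mul ⟨a, ha⟩ (Commute.one_left D.w) (by simp)
    rwa [mul_one] at this
  have hT : TType D.core true D.w := ⟨D.w, hD.wT, hD.wZ, by rw [hp]⟩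
  rw [Sys.th2, Pi.sub_apply, Sys.Th, R_other hD.core false _ hT, R_other hD.core false _ hT, sub_zero]

/-- The twist of the character of the cyclic torus by the sign is outside its orbit. -/
theorem lam_theta_orbit (h2 : Nat.card D.core.Z = 2)
    (hth : (D.θ ⟨D.zc, hD.core.zle false hD.zcZ⟩ : ℂ) = -1) :
    ¬ Sys.ThOrbit hD (D.θ * D.lamT false) := by
  classical
  set T := D.core.T false with hT
  set zz : ↥T := ⟨D.zc, hD.core.zle false hD.zcZ⟩ with hzz
  obtain ⟨b0, x0, h0, hr⟩ := hD.rot
  intro ho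
  rcases ho with ho | ho
  · exact lamT_ne_one hD false (char_mul_self ho)
  set cn := D.core.conjChar (hD.core.nnorm false) D.θ with hcn
  have hzc : zz ≠ 1 := fun e => (zc_ne hD).1 (congrArg Subtype.val e)
  have hZ : ∀ t : ↥T, (t : Cz z) ∈ D.core.Z → t = 1 ∨ t = zz := by
    intro t ht
    haveI : Finite ↥D.core.Z := inferInstance
    have hsq : (⟨(t : Cz z), ht⟩ : ↥D.core.Z) * ⟨(t : Cz z), ht⟩ = 1 := by
      have := pow_card_eq_one' (x := (⟨(t : Cz z), ht⟩ : ↥D.core.Z))
      rwa [h2, sq] at this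
    rcases hD.zonly _ ht (congrArg Subtype.val hsq) with e | e
    · exact Or.inl (Subtype.ext e)
    · exact Or.inr (Subtype.ext e)
  have hcomm : ∀ a b : ↥T, a * b = b * a := fun a b => Subtype.ext (hD.core.tcomm false _ a.2 _ b.2)
  have hinv : ∀ t : ↥T, t ≠ 1 → t * t = 1 → t = zz := by
    intro t h1 ht
    obtain ⟨i, hi⟩ := hD.powN t t.2 (fun e => h1 (Subtype.ext e))
    rcases Nat.even_or_odd i with ⟨j, rfl⟩ | ⟨j, rfl⟩
    · rw [← two_mul, pow_mul, sq, show (t : Cz z) * t = 1 from congrArg Subtype.val ht, one_pow] at hi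
      exact absurd hi.symm (zc_ne hD).1
    · rw [pow_succ, pow_mul, sq, show (t : Cz z) * t = 1 from congrArg Subtype.val ht, one_pow, one_mul] at hi
      exact Subtype.ext hi
  let nc : ↥T → ↥T := fun t => ⟨D.core.n false * t * (D.core.n false)⁻¹, hD.core.nnorm false t t.2⟩
  have hnmul : ∀ a b, nc (a * b) = nc a * nc b := fun a b => Subtype.ext (by simp [nc, mul_assoc])
  have hlamZ : ∀ t : ↥T, (t : Cz z) ∈ D.core.Z → D.lamT false t = 1 := fun t ht => hr.lamZ _ ht
  -- the commutator of the torus is the central involution off the centre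
  have hlam2 : ∀ t : ↥T, D.lamT false t * D.lamT false t = 1 := fun t => hD.lamsq _
  have hθc : ∀ t : ↥T, D.θ (nc t * t⁻¹) = D.lamT false t := fun t => by
    have e : D.θ (nc t) = D.θ t * D.lamT false t := (DFunLike.congr_fun ho t).symm
    rw [map_mul, e, map_inv, mul_comm (D.θ t), mul_inv_cancel_right]
  have hcc : ∀ t : ↥T, (t : Cz z) ∉ D.core.Z → nc t * t⁻¹ = zz := by
    intro t ht
    refine hinv _ (fun e => ht ((hD.core.nfix false t t.2).1 (congrArg Subtype.val (mul_inv_eq_one.1 e)))) ?_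
    by_contra hne
    obtain ⟨i, hi⟩ := hD.powN _ (mul_mem (nc t * t⁻¹).2 (nc t * t⁻¹).2) (fun e => hne (Subtype.ext e))
    have h' : ((nc t * t⁻¹) * (nc t * t⁻¹)) ^ i = zz := Subtype.ext hi
    have h'' := congrArg D.θ h'
    rw [map_pow, map_mul, hθc, hlam2, one_pow] at h''
    rw [← h'', Units.val_one] at hth
    norm_num at hth
  obtain ⟨t0, ht0, hl0⟩ := hD.lamN
  set t1 : ↥T := ⟨t0, ht0⟩
  have hl1 : D.lamT false t1 = -1 := hl0
  have ht1 : (t1 : Cz z) ∉ D.core.Z := fun h => by
    have h' := congrArg (fun a : ℂˣ => (a : ℂ)) (hl1.symm.trans (hlamZ t1 h))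
    norm_num at h'
  have hall : ∀ t : ↥T, ∃ a, (a = 1 ∨ a = zz) ∧ (t = a ∨ t = a * t1) := by
    intro t
    by_cases ht : (t : Cz z) ∈ D.core.Z
    · exact ⟨t, hZ t ht, Or.inl rfl⟩
    · refine ⟨t * t1⁻¹, hZ _ ((hD.core.nfix false _ (t * t1⁻¹).2).1 ?_), Or.inr (by group)⟩
      have e1 : nc t = zz * t := mul_inv_eq_iff_eq_mul.1 (hcc t ht)
      have e2 : nc t1 = zz * t1 := mul_inv_eq_iff_eq_mul.1 (hcc t1 ht1)
      have e3 : nc (t * t1⁻¹) * nc t1 = nc t := by rw [← hnmul, inv_mul_cancel_right]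
      refine congrArg Subtype.val (show nc (t * t1⁻¹) = t * t1⁻¹ from ?_)
      rw [e1, e2, hcomm zz t1, ← mul_assoc, hcomm zz t] at e3
      exact eq_mul_inv_iff_mul_eq.2 (mul_right_cancel e3)
  have hsq : t1 * t1 = zz := by
    have h1 : t1 * t1 ≠ 1 := fun e => ht1 (hinv t1 (fun e' => ht1 (e' ▸ one_mem _)) e ▸ hD.zcZ)
    obtain ⟨a, ha, hat⟩ := hall (t1 * t1)
    rcases hat with e | e
    · rcases ha with rfl | rfl
      · exact absurd e h1
      · exact e
    · have e' : t1 = a := mul_right_cancel e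
      exfalso
      rcases ha with rfl | rfl
      · exact ht1 (e' ▸ one_mem _)
      · exact ht1 (e' ▸ hD.zcZ)
  -- there are only four characters
  have hext : ∀ φ ψ : ↥T →* ℂˣ, φ t1 = ψ t1 → φ = ψ := by
    intro φ ψ e
    refine MonoidHom.ext fun t => ?_
    have ez : φ zz = ψ zz := by rw [← hsq, map_mul, map_mul, e]
    obtain ⟨a, ha, hat⟩ := hall t
    rcases ha with rfl | rfl <;> rcases hat with rfl | rfl <;> simp [e, ez]
  have hθ1 : (D.θ t1 : ℂ) * D.θ t1 = -1 := by rw [← Units.val_mul, ← map_mul, hsq, hth]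
  have hn1 : (cn t1 : ℂ) = -(D.θ t1 : ℂ) := by
    have := congrArg (fun a : ℂˣ => (a : ℂ)) (DFunLike.congr_fun ho t1)
    simp only [MonoidHom.mul_apply, hl1, Units.val_mul, Units.val_neg, Units.val_one] at this
    rw [← this]; ring
  have four : ∀ ψ : ↥T →* ℂˣ, ψ = 1 ∨ ψ = D.lamT false ∨ ψ = D.θ ∨ ψ = cn := by
    intro ψ
    have h4 : (ψ zz : ℂ) * ψ zz = 1 := by
      rw [← Units.val_mul, ← map_mul, show zz * zz = 1 from Subtype.ext (zc_ne hD).2, map_one, Units.val_one]
    have hv : (ψ t1 : ℂ) * ψ t1 = ψ zz := by rw [← Units.val_mul, ← map_mul, hsq]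
    have hd : ((ψ t1 : ℂ) - 1) * ((ψ t1 : ℂ) + 1) * (((ψ t1 : ℂ) - D.θ t1) * ((ψ t1 : ℂ) + D.θ t1)) = 0 := by
      linear_combination ((ψ t1 : ℂ) * ψ t1 + ψ zz) * hv + h4 + (1 - (ψ t1 : ℂ) * ψ t1) * hθ1
    rcases mul_eq_zero.1 hd with h | h <;> rcases mul_eq_zero.1 h with h | h
    · exact Or.inl (hext _ _ (Units.ext (by simpa using sub_eq_zero.1 h)))
    · exact Or.inr (Or.inl (hext _ _ (Units.ext (by
        rw [hl1, Units.val_neg, Units.val_one]; exact eq_neg_of_add_eq_zero_left h))))
    · exact Or.inr (Or.inr (Or.inl (hext _ _ (Units.ext (sub_eq_zero.1 h)))))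
    · exact Or.inr (Or.inr (Or.inr (hext _ _ (Units.ext (by rw [hn1]; exact eq_neg_of_add_eq_zero_left h)))))
  rcases hD.extra with hex | ⟨μ, μ', -, hμ, -, hμ1, -, hμl, -⟩
  · obtain ⟨ψ, hψ, n1, n2, -, -⟩ := hex D.θ hD.thne
    rcases four ψ with rfl | rfl | e | e
    · exact hψ (conjChar_one hD false)
    · exact hψ (conjChar_lamT hD false)
    · exact n1 e
    · exact n2 e
  · rcases four μ with e | e | e | e
    · exact hμ1 e
    · exact hμl e
    · exact hD.thne (e ▸ hμ)
    · exact hD.thne (by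
        have h := congrArg (D.core.conjChar (hD.core.nnorm false)) e
        rw [hμ, conjChar_conjChar hD false D.θ] at h
        rw [← hcn, ← e, h])

/-- The products of the twisted function of the cyclic torus. -/
theorem inner_lam_th2 (h2 : Nat.card D.core.Z = 2)
    (hth : (D.θ ⟨D.zc, hD.core.zle false hD.zcZ⟩ : ℂ) = -1) :
    let g : Cz z → ℂ := fun c => D.lamF c * D.th2 Ω c
    classInner g g = 3 ∧ classInner g D.one = 0 ∧ classInner g (D.th1 Ω) = -1 ∧
      classInner g (D.th1' Ω) = 1 ∧ classInner g (D.th2 Ω) = 0 := by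
  intro g
  have hlt : D.lamT false ≠ 1 := lamT_ne_one hD false
  have hsq : ∀ t, D.lamT false t * D.lamT false t = 1 := fun t => hD.lamsq _
  obtain ⟨ht1, htl⟩ := th_ne hD
  set φ := D.θ * D.lamT false
  have hφ1 : φ ≠ 1 := fun e => htl (MonoidHom.ext fun t => by
    have h := DFunLike.congr_fun e t
    simp only [φ, MonoidHom.mul_apply, MonoidHom.one_apply] at h
    calc D.θ t = D.θ t * (D.lamT false t * D.lamT false t) := by rw [hsq, mul_one]
      _ = D.lamT false t := by rw [← mul_assoc, h, one_mul])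
  have hφl : φ ≠ D.lamT false := fun e => ht1 (MonoidHom.ext fun t => by
    have h := DFunLike.congr_fun e t
    simp only [φ, MonoidHom.mul_apply] at h
    exact mul_eq_right.1 h)
  have hφo := lam_theta_orbit hD h2 hth
  have hlo : ¬ Sys.ThOrbit hD (D.lamT false) := by
    rintro (e | e)
    · exact htl e.symm
    · exact htl (by
        have h := congrArg (D.core.conjChar (hD.core.nnorm false)) e
        rwa [conjChar_lamT hD false, conjChar_conjChar hD false D.θ, eq_comm] at h)
  have eg : g = D.core.R Ω false φ - D.core.R Ω false (D.lamT false) := by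
    have h1 := R_mul_lam (Ω := Ω) hD.core false D.θ hD.lamsq
    have h2' := R_mul_lam (Ω := Ω) hD.core false 1 hD.lamsq
    rw [show (1 : ↥(D.core.T false) →* ℂˣ) * D.lam.comp (D.core.T false).subtype =
      D.lam.comp (D.core.T false).subtype from MonoidHom.ext fun t => one_mul _] at h2'
    funext c
    rw [Pi.sub_apply, show φ = D.θ * D.lam.comp (D.core.T false).subtype from rfl, h1,
      show D.lamT false = D.lam.comp (D.core.T false).subtype from rfl, h2']
    simp only [g, Sys.lamF, Sys.th2, Sys.Th, Pi.sub_apply]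
    ring
  obtain ⟨a1, a2, a3, a4⟩ := inner_RN_th hD φ
  obtain ⟨b1, b2, b3, b4⟩ := inner_RN_th hD (D.lamT false)
  simp only [if_neg hφ1, if_neg hφl, if_neg hlt, if_neg hlo, if_true] at a1 a2 a3 a4 b1 b2 b3 b4
  rw [if_neg (show ¬ Sys.ThOrbit hD φ from hφo)] at a4
  refine ⟨?_, ?_, ?_, ?_, ?_⟩
  · obtain ⟨-, -, n33, -⟩ := inner_th hD
    rw [← n33]
    refine congrArg _ (Finset.sum_congr rfl fun c _ => ?_)
    have hl : D.lamF c * conj (D.lamF c) = 1 := by
      rw [Sys.lamF, conj_hom_apply, ← Units.val_mul, ← map_mul, mul_inv_cancel, map_one, Units.val_one]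
    simp only [g, map_mul]
    linear_combination (D.th2 Ω c * conj (D.th2 Ω c)) * hl
  · rw [eg, classInner_sub_left, a1, b1, sub_self]
  · rw [eg, classInner_sub_left, a2, b2]; norm_num
  · rw [eg, classInner_sub_left, a3, b3]; norm_num
  · rw [eg, classInner_sub_left, a4, b4]; norm_num

end CfsgLib.RankTwoModel.L4
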